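import Groth.Prelude.Def_ArtFun2
import Mathlib

/-!
# Basic facts about the category `ArtFun.Art Λ k`
-/

set_option autoImplicit false

universe u v

open CategoryTheory

namespace ArtLib

open ArtFun ArtFun.Art

variable {Λ : Type u} {k : Type u} [CommRing Λ] [Field k] [Algebra Λ k]

/-! ## elementary -/

theorem hom_ext' {A B : Art Λ k} {f g : A ⟶ B} (h : ∀ a : A, f a = g a) : f = g :=
  Art.hom_ext (AlgHom.ext h)

theorem hom_congr {A B : Art Λ k} {f g : A ⟶ B} (h : f = g) (a : A) : f a = g a := by rw [h]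

theorem maximalIdeal_eq_ker (A : Art Λ k) :
    IsLocalRing.maximalIdeal A = RingHom.ker (A.res : A →+* k) :=
  Ideal.ext fun a => by rw [Art.mem_maximalIdeal_iff, RingHom.mem_ker]; rfl

theorem isNilpotent_maximalIdeal (A : Art Λ k) : IsNilpotent (IsLocalRing.maximalIdeal A) :=
  (isArtinianRing_iff_isNilpotent_maximalIdeal A).1 inferInstance

theorem isNilpotent_of_res_eq_zero (A : Art Λ k) {a : A} (h : A.res a = 0) : IsNilpotent a := by
  obtain ⟨n, hn⟩ := isNilpotent_maximalIdeal A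
  refine ⟨n, ?_⟩
  have := Ideal.pow_mem_pow ((Art.mem_maximalIdeal_iff A a).2 h) n
  rw [hn] at this
  exact this

theorem isUnit_iff_res_ne_zero (A : Art Λ k) (a : A) : IsUnit a ↔ A.res a ≠ 0 := by
  rw [ne_eq, ← Art.mem_maximalIdeal_iff, IsLocalRing.notMem_maximalIdeal]

theorem map_res_le {A B : Art Λ k} (f : A ⟶ B) :
    Ideal.map f.toAlgHom (IsLocalRing.maximalIdeal A) ≤ IsLocalRing.maximalIdeal B := by
  rw [Ideal.map_le_iff_le_comap]
  intro a ha
  rw [Ideal.mem_comap, Art.mem_maximalIdeal_iff]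
  exact (Art.res_app f a).trans ((Art.mem_maximalIdeal_iff A a).1 ha)

theorem ker_le_maximalIdeal {A B : Art Λ k} (f : A ⟶ B) :
    RingHom.ker f.toAlgHom ≤ IsLocalRing.maximalIdeal A := by
  intro a ha
  rw [Art.mem_maximalIdeal_iff, ← Art.res_app f a]
  rw [RingHom.mem_ker] at ha
  exact (congrArg B.res ha).trans (map_zero _)

/-! ## isomorphisms -/

theorem isIso_iff_bijective {A B : Art Λ k} (f : A ⟶ B) : IsIso f ↔ Function.Bijective f := by
  constructor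
  · intro _
    refine Function.bijective_iff_has_inverse.2 ⟨inv f, fun a => ?_, fun b => ?_⟩
    · exact hom_congr (IsIso.hom_inv_id f) a
    · exact hom_congr (IsIso.inv_hom_id f) b
  · intro h
    let e : A ≃ₐ[Λ] B := AlgEquiv.ofBijective f.toAlgHom h
    refine ⟨⟨Art.homMk e.symm.toAlgHom (AlgHom.ext fun b => ?_), hom_ext' fun a => ?_,
      hom_ext' fun b => ?_⟩⟩
    · obtain ⟨a, rfl⟩ := h.2 b
      change A.res (e.symm (e a)) = B.res (f a)
      rw [AlgEquiv.symm_apply_apply, Art.res_app]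
    · exact e.symm_apply_apply a
    · exact e.apply_symm_apply b

theorem map_bijective_of_isIso {A B : Art Λ k} (F : Art Λ k ⥤ Type v) (f : A ⟶ B) [IsIso f] :
    Function.Bijective (F.map f) :=
  (CategoryTheory.isIso_iff_bijective (F.map f)).1 inferInstance

theorem map_bijective {A B : Art Λ k} (F : Art Λ k ⥤ Type v) (f : A ⟶ B)
    (h : Function.Bijective f) : Function.Bijective (F.map f) :=
  haveI := (isIso_iff_bijective f).2 h
  map_bijective_of_isIso F f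

theorem map_comp_apply {A B C : Art Λ k} (F : Art Λ k ⥤ Type v) (f : A ⟶ B) (g : B ⟶ C)
    (x : F.obj A) : F.map (f ≫ g) x = F.map g (F.map f x) := by
  rw [F.map_comp]; rfl

theorem map_id_apply {A : Art Λ k} (F : Art Λ k ⥤ Type v) (x : F.obj A) :
    F.map (𝟙 A) x = x := by
  rw [F.map_id]; rfl

theorem nat_app {F G : Art Λ k ⥤ Type v} (η : F ⟶ G) {A B : Art Λ k} (f : A ⟶ B) (x : F.obj A) :
    η.app B (F.map f x) = G.map f (η.app A x) :=
  NatTrans.naturality_apply η f x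

/-! ## finiteness over `Λ` -/

theorem finite_of_isFiniteLength [Module.Finite Λ k] (A : Art Λ k) {M : Type*} [AddCommGroup M]
    [Module A M] (h : IsFiniteLength A M) :
    ∀ [Module Λ M] [IsScalarTower Λ A M], Module.Finite Λ M := by
  have hq : Module.Finite Λ (A ⧸ IsLocalRing.maximalIdeal A) := by
    let f : (A ⧸ IsLocalRing.maximalIdeal A) →ₐ[Λ] k :=
      Ideal.Quotient.liftₐ (IsLocalRing.maximalIdeal A) A.res
        fun a ha => (Art.mem_maximalIdeal_iff A a).1 ha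
    have hinj : Function.Injective f := by
      intro x y hxy
      obtain ⟨a, rfl⟩ := Ideal.Quotient.mk_surjective x
      obtain ⟨b, rfl⟩ := Ideal.Quotient.mk_surjective y
      refine Ideal.Quotient.eq.2 ((Art.mem_maximalIdeal_iff A _).2 ?_)
      rw [map_sub, sub_eq_zero]
      exact hxy
    have hsurj : Function.Surjective f := fun c => by
      obtain ⟨a, rfl⟩ := A.res_surjective c
      exact ⟨Ideal.Quotient.mk _ a, rfl⟩
    exact Module.Finite.equiv (AlgEquiv.ofBijective f ⟨hinj, hsurj⟩).symm.toLinearEquiv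
  induction h with
  | of_subsingleton => intros; infer_instance
  | @of_simple_quotient M _ _ N _ _ ih =>
    intros
    have hN : Module.Finite Λ N := ih
    have hMN : Module.Finite Λ (M ⧸ N) := by
      obtain ⟨I, hI, ⟨e⟩⟩ := (isSimpleModule_iff_quot_maximal (R := A) (M := M ⧸ N)).1 inferInstance
      obtain rfl := IsLocalRing.eq_maximalIdeal hI
      exact Module.Finite.equiv (e.symm.restrictScalars Λ)
    have : Module.Finite Λ (N.restrictScalars Λ) := hN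
    have : Module.Finite Λ (M ⧸ N.restrictScalars Λ) :=
      Module.Finite.equiv (Submodule.Quotient.restrictScalarsEquiv Λ N).symm
    exact Module.Finite.of_submodule_quotient (N.restrictScalars Λ)

theorem finite_carrier [Module.Finite Λ k] (A : Art Λ k) : Module.Finite Λ A :=
  finite_of_isFiniteLength A (isFiniteLength_iff_isNoetherian_isArtinian.2
    ⟨inferInstance, inferInstance⟩)

/-! ## constructing objects -/

theorem isLocalRing_of_res {B : Type u} [CommRing B] [Algebra Λ B] (res : B →ₐ[Λ] k)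
    (hres : Function.Surjective res) (hn : ∀ b : B, res b = 0 → IsNilpotent b) : IsLocalRing B := by
  have : Nontrivial B := res.toRingHom.domain_nontrivial
  refine IsLocalRing.of_isUnit_or_isUnit_one_sub_self fun b => ?_
  by_cases h : res b = 0
  · exact Or.inr (hn b h).isUnit_one_sub
  · refine Or.inl ?_
    obtain ⟨c, hc⟩ := hres (res b)⁻¹
    have : IsNilpotent (b * c - 1) := hn _ (by rw [map_sub, map_mul, hc, map_one,
      mul_inv_cancel₀ h, sub_self])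
    exact isUnit_of_mul_isUnit_left (by simpa using this.isUnit_add_one : IsUnit (b * c))

theorem isArtinianRing_of_res [IsNoetherianRing Λ] {B : Type u} [CommRing B] [Algebra Λ B]
    [Module.Finite Λ B] (res : B →ₐ[Λ] k)
    (hres : Function.Surjective res) (hn : ∀ b : B, res b = 0 → IsNilpotent b) :
    IsArtinianRing B := by
  have := isLocalRing_of_res res hres hn
  have : IsNoetherianRing B := IsNoetherianRing.of_finite Λ B
  rw [isArtinianRing_iff_isNilpotent_maximalIdeal,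
    Ideal.FG.isNilpotent_iff_le_nilradical (IsNoetherian.noetherian _)]
  intro b hb
  refine hn b ?_
  by_contra h
  obtain ⟨c, hc⟩ := hres (res b)⁻¹
  have : IsNilpotent (b * c - 1) := hn _ (by rw [map_sub, map_mul, hc, map_one,
    mul_inv_cancel₀ h, sub_self])
  exact (IsLocalRing.mem_maximalIdeal b).1 hb
    (isUnit_of_mul_isUnit_left (by simpa using this.isUnit_add_one : IsUnit (b * c)))

/-- An object from a finite `Λ`-algebra with an augmentation whose kernel consists of nilpotents. -/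
@[reducible]
def mkObj [IsNoetherianRing Λ] (B : Type u) [CommRing B] [Algebra Λ B] [Module.Finite Λ B]
    (res : B →ₐ[Λ] k) (hres : Function.Surjective res)
    (hn : ∀ b : B, res b = 0 → IsNilpotent b) : Art Λ k :=
  { carrier := B
    isLocalRing := isLocalRing_of_res res hres hn
    isArtinianRing := isArtinianRing_of_res res hres hn
    res := res
    res_surjective := hres }

/-! ## quotients -/

theorem res_liftable (A : Art Λ k) {I : Ideal A} (hI : I ≤ IsLocalRing.maximalIdeal A) :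
    ∀ a ∈ I, A.res a = 0 := fun a ha => (Art.mem_maximalIdeal_iff A a).1 (hI ha)

/-- The quotient of an object by an ideal inside the maximal ideal. -/
def quot (A : Art Λ k) (I : Ideal A) (hI : I ≤ IsLocalRing.maximalIdeal A) : Art Λ k :=
  haveI : Nontrivial (A ⧸ I) := Ideal.Quotient.nontrivial_iff.2
    (fun h => (IsLocalRing.maximalIdeal.isMaximal A).ne_top (top_le_iff.1 (h ▸ hI)))
  { carrier := A ⧸ I
    isLocalRing := IsLocalRing.of_surjective' (Ideal.Quotient.mk I) Ideal.Quotient.mk_surjective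
    isArtinianRing := Function.Surjective.isArtinianRing (f := Ideal.Quotient.mk I)
      Ideal.Quotient.mk_surjective
    res := Ideal.Quotient.liftₐ I A.res (res_liftable A hI)
    res_surjective := fun c => by
      obtain ⟨a, rfl⟩ := A.res_surjective c
      exact ⟨Ideal.Quotient.mk I a, rfl⟩ }

/-- The projection to a quotient. -/
def quotMk (A : Art Λ k) (I : Ideal A) (hI : I ≤ IsLocalRing.maximalIdeal A) : A ⟶ quot A I hI :=
  Art.homMk (Ideal.Quotient.mkₐ Λ I) (AlgHom.ext fun _ => rfl)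

theorem quotMk_surjective (A : Art Λ k) (I : Ideal A) (hI : I ≤ IsLocalRing.maximalIdeal A) :
    Function.Surjective (quotMk A I hI) := Ideal.Quotient.mk_surjective

theorem quotMk_eq_zero {A : Art Λ k} {I : Ideal A} {hI : I ≤ IsLocalRing.maximalIdeal A} {a : A} :
    quotMk A I hI a = 0 ↔ a ∈ I := Ideal.Quotient.eq_zero_iff_mem

theorem ker_quotMk (A : Art Λ k) (I : Ideal A) (hI : I ≤ IsLocalRing.maximalIdeal A) :
    RingHom.ker (quotMk A I hI).toAlgHom = I := Ideal.ext fun _ => quotMk_eq_zero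

/-- Morphisms out of a quotient. -/
def quotLift {A B : Art Λ k} {I : Ideal A} (hI : I ≤ IsLocalRing.maximalIdeal A) (f : A ⟶ B)
    (h : ∀ a ∈ I, f a = 0) : quot A I hI ⟶ B :=
  Art.homMk (Ideal.Quotient.liftₐ I f.toAlgHom h) (AlgHom.ext fun x => by
    obtain ⟨a, rfl⟩ := Ideal.Quotient.mk_surjective x
    exact Art.res_app f a)

theorem quotLift_quotMk {A B : Art Λ k} {I : Ideal A} (hI : I ≤ IsLocalRing.maximalIdeal A)
    (f : A ⟶ B) (h : ∀ a ∈ I, f a = 0) (a : A) : quotLift hI f h (quotMk A I hI a) = f a := rfl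

theorem quotMk_comp_quotLift {A B : Art Λ k} {I : Ideal A}
    (hI : I ≤ IsLocalRing.maximalIdeal A) (f : A ⟶ B) (h : ∀ a ∈ I, f a = 0) :
    quotMk A I hI ≫ quotLift hI f h = f := hom_ext' fun _ => rfl

/-! ## fibre products -/

theorem fp_symm {B A A₁ A₂ : Art Λ k} {p₁ : B ⟶ A₁} {p₂ : B ⟶ A₂} {f₁ : A₁ ⟶ A} {f₂ : A₂ ⟶ A}
    (h : IsFibreProd p₁ p₂ f₁ f₂) : IsFibreProd p₂ p₁ f₂ f₁ :=
  ⟨h.w.symm, fun b₁ b₂ e₂ e₁ => h.inj b₁ b₂ e₁ e₂, fun a₂ a₁ e => by
    obtain ⟨b, h₁, h₂⟩ := h.surj a₁ a₂ e.symm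
    exact ⟨b, h₂, h₁⟩⟩

theorem fp_fst_surjective {B A A₁ A₂ : Art Λ k} {p₁ : B ⟶ A₁} {p₂ : B ⟶ A₂} {f₁ : A₁ ⟶ A}
    {f₂ : A₂ ⟶ A} (h : IsFibreProd p₁ p₂ f₁ f₂) (hf : Function.Surjective f₂) :
    Function.Surjective p₁ := fun a₁ => by
  obtain ⟨a₂, ha₂⟩ := hf (f₁ a₁)
  obtain ⟨b, hb, -⟩ := h.surj a₁ a₂ ha₂.symm
  exact ⟨b, hb⟩

/-- A morphism into a fibre product. -/
noncomputable def fpLift {B A A₁ A₂ C : Art Λ k} {p₁ : B ⟶ A₁} {p₂ : B ⟶ A₂} {f₁ : A₁ ⟶ A}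
    {f₂ : A₂ ⟶ A} (h : IsFibreProd p₁ p₂ f₁ f₂) (g₁ : C ⟶ A₁) (g₂ : C ⟶ A₂)
    (e : g₁ ≫ f₁ = g₂ ≫ f₂) : C ⟶ B :=
  have he : ∀ c : C, f₁ (g₁ c) = f₂ (g₂ c) := hom_congr e
  have key : ∀ c, p₁ (h.surj (g₁ c) (g₂ c) (he c)).choose = g₁ c ∧
      p₂ (h.surj (g₁ c) (g₂ c) (he c)).choose = g₂ c :=
    fun c => (h.surj (g₁ c) (g₂ c) (he c)).choose_spec
  Art.homMk
    { toFun := fun c => (h.surj (g₁ c) (g₂ c) (he c)).choose
      map_one' := h.inj _ _ (by rw [(key 1).1, map_one, map_one])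
        (by rw [(key 1).2, map_one, map_one])
      map_zero' := h.inj _ _ (by rw [(key 0).1, map_zero, map_zero])
        (by rw [(key 0).2, map_zero, map_zero])
      map_mul' := fun x y => h.inj _ _ (by rw [(key _).1, map_mul, map_mul, (key x).1, (key y).1])
        (by rw [(key _).2, map_mul, map_mul, (key x).2, (key y).2])
      map_add' := fun x y => h.inj _ _ (by rw [(key _).1, map_add, map_add, (key x).1, (key y).1])
        (by rw [(key _).2, map_add, map_add, (key x).2, (key y).2])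
      commutes' := fun r => h.inj _ _ (by rw [(key _).1, AlgHom.commutes, AlgHom.commutes])
        (by rw [(key _).2, AlgHom.commutes, AlgHom.commutes]) }
    (AlgHom.ext fun c => by
      change B.res (h.surj (g₁ c) (g₂ c) (he c)).choose = C.res c
      rw [← Art.res_app p₁, (key c).1, Art.res_app])

theorem fpLift_fst {B A A₁ A₂ C : Art Λ k} {p₁ : B ⟶ A₁} {p₂ : B ⟶ A₂} {f₁ : A₁ ⟶ A}
    {f₂ : A₂ ⟶ A} (h : IsFibreProd p₁ p₂ f₁ f₂) (g₁ : C ⟶ A₁) (g₂ : C ⟶ A₂)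
    (e : g₁ ≫ f₁ = g₂ ≫ f₂) : fpLift h g₁ g₂ e ≫ p₁ = g₁ :=
  hom_ext' fun c => (h.surj (g₁ c) (g₂ c) (hom_congr e c)).choose_spec.1

theorem fpLift_snd {B A A₁ A₂ C : Art Λ k} {p₁ : B ⟶ A₁} {p₂ : B ⟶ A₂} {f₁ : A₁ ⟶ A}
    {f₂ : A₂ ⟶ A} (h : IsFibreProd p₁ p₂ f₁ f₂) (g₁ : C ⟶ A₁) (g₂ : C ⟶ A₂)
    (e : g₁ ≫ f₁ = g₂ ≫ f₂) : fpLift h g₁ g₂ e ≫ p₂ = g₂ :=
  hom_ext' fun c => (h.surj (g₁ c) (g₂ c) (hom_congr e c)).choose_spec.2

/-- Left cancellation: if the outer square and the right square are fibre products then so is the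
left one. -/
theorem fp_of_outer {E D A₁ A₂ C A : Art Λ k} {e₁ : E ⟶ A₁} {e₂ : E ⟶ C} {f₁ : A₁ ⟶ A}
    {h : C ⟶ A} (hE : IsFibreProd e₁ e₂ f₁ h) {d₁ : D ⟶ A₁} {d₂ : D ⟶ A₂} {g : A₂ ⟶ C}
    (hD : IsFibreProd d₁ d₂ f₁ (g ≫ h)) (q : D ⟶ E) (hq₁ : q ≫ e₁ = d₁)
    (hq₂ : q ≫ e₂ = d₂ ≫ g) : IsFibreProd q d₂ e₂ g where
  w := hq₂
  inj b₁ b₂ eq e' := hD.inj b₁ b₂ (by rw [← hom_congr hq₁ b₁, ← hom_congr hq₁ b₂,
    Art.comp_apply, Art.comp_apply, eq]) e'
  surj x a₂ eq := by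
    obtain ⟨d, hd₁, hd₂⟩ := hD.surj (e₁ x) a₂ (by rw [hE.w_apply, eq, Art.comp_apply])
    refine ⟨d, hE.inj _ _ ?_ ?_, hd₂⟩
    · exact (hom_congr hq₁ d).trans hd₁
    · exact (hom_congr hq₂ d).trans (by rw [Art.comp_apply, hd₂, eq])

/-- Pasting. -/
theorem fp_paste {E D A₁ A₂ C A : Art Λ k} {e₁ : E ⟶ A₁} {e₂ : E ⟶ C} {f₁ : A₁ ⟶ A}
    {h : C ⟶ A} (hE : IsFibreProd e₁ e₂ f₁ h) {q : D ⟶ E} {d₂ : D ⟶ A₂} {g : A₂ ⟶ C}
    (hD : IsFibreProd q d₂ e₂ g) : IsFibreProd (q ≫ e₁) d₂ f₁ (g ≫ h) where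
  w := by rw [Category.assoc, hE.w, ← Category.assoc, hD.w, Category.assoc]
  inj b₁ b₂ h₁ h₂ := hD.inj b₁ b₂ (hE.inj _ _ h₁ (by rw [hD.w_apply, hD.w_apply, h₂])) h₂
  surj a₁ a₂ eq := by
    obtain ⟨x, hx₁, hx₂⟩ := hE.surj a₁ (g a₂) eq
    obtain ⟨d, hd₁, hd₂⟩ := hD.surj x a₂ hx₂
    exact ⟨d, by rw [Art.comp_apply, hd₁, hx₁], hd₂⟩

theorem exists_fp_of_res [IsNoetherianRing Λ] [Module.Finite Λ k] {A A₁ A₂ : Art Λ k}
    (f₁ : A₁ ⟶ A) (f₂ : A₂ ⟶ A)
    (hsurj : ∀ c : k, ∃ (a₁ : A₁) (a₂ : A₂), f₁ a₁ = f₂ a₂ ∧ A₁.res a₁ = c) :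
    ∃ (B : Art Λ k) (p₁ : B ⟶ A₁) (p₂ : B ⟶ A₂), IsFibreProd p₁ p₂ f₁ f₂ := by
  have := finite_carrier A₁
  have := finite_carrier A₂
  obtain ⟨S, hmem⟩ : ∃ S : Subalgebra Λ (A₁ × A₂), ∀ x, x ∈ S ↔ f₁ x.1 = f₂ x.2 :=
    ⟨AlgHom.equalizer (f₁.toAlgHom.comp (AlgHom.fst Λ A₁ A₂))
      (f₂.toAlgHom.comp (AlgHom.snd Λ A₁ A₂)), fun _ => Iff.rfl⟩
  have : Module.Finite Λ S :=
    inferInstanceAs (Module.Finite Λ (Subalgebra.toSubmodule S))
  let res : S →ₐ[Λ] k := A₁.res.comp ((AlgHom.fst Λ A₁ A₂).comp S.val)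
  have hres : Function.Surjective res := fun c => by
    obtain ⟨a₁, a₂, h, ha⟩ := hsurj c
    exact ⟨⟨(a₁, a₂), (hmem _).2 h⟩, ha⟩
  have hn : ∀ b : S, res b = 0 → IsNilpotent b := fun b hb => by
    have h1 : A₁.res b.1.1 = 0 := hb
    have h2 : A₂.res b.1.2 = 0 := by
      rw [← Art.res_app f₂, ← (hmem _).1 b.2, Art.res_app]; exact h1
    obtain ⟨n, hn⟩ := isNilpotent_of_res_eq_zero A₁ h1
    obtain ⟨m, hm⟩ := isNilpotent_of_res_eq_zero A₂ h2
    refine ⟨n + m, Subtype.ext (Prod.ext ?_ ?_)⟩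
    · change b.1.1 ^ (n + m) = 0
      rw [pow_add, hn, zero_mul]
    · change b.1.2 ^ (n + m) = 0
      rw [pow_add, hm, mul_zero]
  refine ⟨mkObj S res hres hn, Art.homMk ((AlgHom.fst Λ A₁ A₂).comp S.val) rfl,
    Art.homMk ((AlgHom.snd Λ A₁ A₂).comp S.val) (AlgHom.ext fun b => ?_), ?_, ?_, ?_⟩
  · change A₂.res b.1.2 = A₁.res b.1.1
    rw [← Art.res_app f₂, ← (hmem _).1 b.2, Art.res_app]
  · exact hom_ext' fun b => (hmem _).1 b.2
  · exact fun b₁ b₂ h₁ h₂ => Subtype.ext (Prod.ext h₁ h₂)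
  · exact fun a₁ a₂ h => ⟨⟨(a₁, a₂), (hmem _).2 h⟩, rfl, rfl⟩

theorem exists_fp [IsNoetherianRing Λ] [Module.Finite Λ k] {A A₁ A₂ : Art Λ k}
    (f₁ : A₁ ⟶ A) (f₂ : A₂ ⟶ A) (hf₂ : Function.Surjective f₂) :
    ∃ (B : Art Λ k) (p₁ : B ⟶ A₁) (p₂ : B ⟶ A₂), IsFibreProd p₁ p₂ f₁ f₂ :=
  exists_fp_of_res f₁ f₂ fun c => by
    obtain ⟨a₁, h₁⟩ := A₁.res_surjective c
    obtain ⟨a₂, h₂⟩ := hf₂ (f₁ a₁)
    exact ⟨a₁, a₂, h₂.symm, h₁⟩

end ArtLib
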