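import Groth.Agent.ArtLib.Pairs
import Groth.Prelude.Def_ArtFun5

/-!
# Maps of coefficient rings and the Yoneda lemma for formal elements
-/

set_option autoImplicit false

universe u v

open CategoryTheory

namespace ArtLib

open ArtFun ArtFun.Art

variable {Λ : Type u} {k : Type u} [CommRing Λ] [Field k] [Algebra Λ k]

/-- Injectivity on `Hom(-, k[ε])` forces surjectivity. -/
theorem surjective_of_hom_dual {A B : Art Λ k} (f : A ⟶ B)
    (h : ∀ g g' : B ⟶ dual Λ k, f ≫ g = f ≫ g' → g = g') : Function.Surjective f := by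
  refine surjective_of_cotangent f ?_
  obtain ⟨I, hI⟩ : ∃ I : Ideal B, I = Ideal.map f.toAlgHom (IsLocalRing.maximalIdeal A) ⊔
      IsLocalRing.maximalIdeal B ^ 2 := ⟨_, rfl⟩
  rw [← hI]
  have hle : I ≤ IsLocalRing.maximalIdeal B :=
    hI ▸ sup_le (map_res_le f) (Ideal.pow_le_self two_ne_zero)
  have hm : ∀ a ∈ IsLocalRing.maximalIdeal A, quotMk B I hle (f a) = 0 := fun a ha =>
    quotMk_eq_zero.2 (hI ▸ Ideal.mem_sup_left (Ideal.mem_map_of_mem _ ha))
  -- a section from the residue field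
  have hk : RingHom.ker (toBase A).toAlgHom ≤ IsLocalRing.maximalIdeal A :=
    ker_le_maximalIdeal (toBase A)
  let u := quotLift hk (toBase A) fun _ ha => ha
  have hu : Function.Bijective u := by
    refine ⟨(injective_iff_map_eq_zero u.toAlgHom).2 fun b hb => ?_, fun c => ?_⟩
    · obtain ⟨a, rfl⟩ := quotMk_surjective A _ hk b
      exact quotMk_eq_zero.2 hb
    · obtain ⟨a, rfl⟩ := toBase_surjective A c
      exact ⟨quotMk A _ hk a, rfl⟩
  have := (isIso_iff_bijective u).2 hu
  let σ : base Λ k ⟶ quot B I hle :=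
    inv u ≫ quotLift hk (f ≫ quotMk B I hle) fun a ha => hm a (hk ha)
  have hσ : toBase A ≫ σ = f ≫ quotMk B I hle := by
    refine Eq.trans ?_ (quotMk_comp_quotLift hk (f ≫ quotMk B I hle) fun a ha => hm a (hk ha))
    rw [← Category.assoc]
    congr 1
    rw [IsIso.comp_inv_eq]
    exact (quotMk_comp_quotLift hk _ _).symm
  have hsq : IsLocalRing.maximalIdeal (quot B I hle) ^ 2 = ⊥ := by
    rw [← map_maximalIdeal_of_surjective (quotMk B I hle) (quotMk_surjective B I hle),
      ← Ideal.map_pow, eq_bot_iff, Ideal.map_le_iff_le_comap]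
    exact fun x hx => Ideal.mem_bot.2 (quotMk_eq_zero.2 (hI ▸ Ideal.mem_sup_right hx))
  obtain ⟨n, e, he, heσ⟩ := exists_tz_iso σ hsq
  have := (isIso_iff_bijective e).2 he
  have hinv : ∀ c : k, inv e (σ c) = TrivSqZeroExt.inl c := fun c => by
    rw [← heσ c]
    exact hom_congr (IsIso.hom_inv_id e) _
  intro b hb
  by_contra hbI
  obtain ⟨i, hi⟩ : ∃ i, TrivSqZeroExt.snd (inv e (quotMk B I hle b)) i ≠ 0 := by
    by_contra hall
    push Not at hall
    refine hbI (quotMk_eq_zero.1 (((isIso_iff_bijective (inv e)).1 inferInstance).1 ?_))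
    rw [map_zero]
    exact TrivSqZeroExt.ext
      ((Art.res_app (inv e) _).trans ((Art.res_app (quotMk B I hle) b).trans
        ((Art.mem_maximalIdeal_iff _ _).1 hb))) (funext fun j => hall j)
  have key := h (quotMk B I hle ≫ inv e ≫ toD (LinearMap.proj i))
    (quotMk B I hle ≫ inv e ≫ toD 0) (hom_ext' fun a => by
      have ha : quotMk B I hle (f a) = σ (A.res a) := (hom_congr hσ a).symm
      change toD (LinearMap.proj i) (inv e (quotMk B I hle (f a))) =
        toD 0 (inv e (quotMk B I hle (f a)))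
      rw [ha, hinv]
      exact TrivSqZeroExt.ext rfl rfl)
  exact hi (congrArg TrivSqZeroExt.snd (hom_congr key b))

/-! ## coefficient rings -/

theorem cring_res_mem {R : CRing Λ k} (a : R.carrier) :
    a ∈ IsLocalRing.maximalIdeal R.carrier ↔ R.res a = 0 := CRing.mem_maximalIdeal_iff R a

theorem truncHom_surjective (R : CRing Λ k) (n : ℕ) : Function.Surjective (R.truncHom n).1 :=
  Ideal.Quotient.mk_surjective

theorem truncHom_eq_zero (R : CRing Λ k) (n : ℕ) (a : R.carrier) :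
    (R.truncHom n).1 a = 0 ↔ a ∈ IsLocalRing.maximalIdeal R.carrier ^ (n + 1) :=
  Ideal.Quotient.eq_zero_iff_mem

theorem trunc_hom_ext (R : CRing Λ k) {n : ℕ} {A : Art Λ k} {f g : R.trunc n ⟶ A}
    (h : HomSet.map f (R.truncHom n) = HomSet.map g (R.truncHom n)) : f = g :=
  hom_ext' fun x => by
    obtain ⟨r, rfl⟩ := truncHom_surjective R n x
    exact AlgHom.congr_fun (congrArg Subtype.val h) r

theorem exists_trunc_factor (R : CRing Λ k) {A : Art Λ k} (φ : HomSet R.carrier R.res A) :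
    ∃ N, ∀ n, N ≤ n → ∃ f : R.trunc n ⟶ A, HomSet.map f (R.truncHom n) = φ := by
  obtain ⟨N, hN⟩ := homSet_pow φ
  refine ⟨N, fun n hn => ?_⟩
  obtain ⟨f, hf, -⟩ := exists_factor R φ (R.truncHom n) (truncHom_surjective R n) fun r hr =>
    hN r (by
      rw [ker_res_eq]
      exact Ideal.pow_le_pow_right (show N ≤ n + 1 by omega) ((truncHom_eq_zero R n r).1 hr))
  exact ⟨f, hf⟩

theorem toFormalElt_injective (R : CRing Λ k) (F : Art Λ k ⥤ Type v) :
    Function.Injective (fun ξ : Family R.carrier R.res F => ξ.toFormalElt) := by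
  intro ξ ξ' h
  have hn : ∀ n, ξ.app _ (R.truncHom n) = ξ'.app _ (R.truncHom n) :=
    fun n => congrFun (congrArg FormalElt.elt h) n
  have happ : ξ.app = ξ'.app := funext fun A => funext fun φ => by
    obtain ⟨N, hN⟩ := exists_trunc_factor R φ
    obtain ⟨f, rfl⟩ := hN N le_rfl
    rw [ξ.natural, ξ'.natural, hn]
  cases ξ; cases ξ'; cases happ; rfl

theorem homSet_map_trans {R : Type u} [CommRing R] [Algebra Λ R] {resR : R →ₐ[Λ] k}
    {A B C : Art Λ k} {φA : HomSet R resR A} {φB : HomSet R resR B} {φC : HomSet R resR C}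
    (f : C ⟶ B) (g : B ⟶ A) (hf : HomSet.map f φC = φB) (hg : HomSet.map g φB = φA) :
    HomSet.map (f ≫ g) φC = φA := by
  rw [← hg, ← hf]
  exact homSet_ext fun _ => rfl

theorem exists_trunc_trans {R : CRing Λ k} {F : Art Λ k ⥤ Type v} (u : FormalElt F R) :
    ∀ a b (h : a ≤ b), ∃ t : R.trunc b ⟶ R.trunc a,
      HomSet.map t (R.truncHom b) = R.truncHom a ∧ F.map t (u.elt b) = u.elt a := by
  intro a b h
  induction b, h using Nat.le_induction with
  | base => exact ⟨𝟙 _, homSet_ext fun _ => rfl, map_id_apply _ _⟩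
  | succ b h ih =>
    obtain ⟨t, ht, ht'⟩ := ih
    exact ⟨R.truncMap b ≫ t, homSet_map_trans (R.truncMap b) t (CRing.truncMap_truncHom R b) ht,
      by rw [map_comp_apply, u.compat, ht']⟩

theorem exists_formal_value {R : CRing Λ k} {F : Art Λ k ⥤ Type v} (u : FormalElt F R)
    {A : Art Λ k} (φ : HomSet R.carrier R.res A) :
    ∃ x : F.obj A, ∀ (q : ℕ) (g : R.trunc q ⟶ A),
      HomSet.map g (R.truncHom q) = φ → F.map g (u.elt q) = x := by
  obtain ⟨N, hN⟩ := exists_trunc_factor R φ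
  obtain ⟨f, hf⟩ := hN N le_rfl
  refine ⟨F.map f (u.elt N), fun q g hg => ?_⟩
  obtain ⟨m, hm₁, hm₂⟩ : ∃ m, N ≤ m ∧ q ≤ m := ⟨N + q, Nat.le_add_right _ _, Nat.le_add_left _ _⟩
  obtain ⟨t₁, c₁, d₁⟩ := exists_trunc_trans u N m hm₁
  obtain ⟨t₂, c₂, d₂⟩ := exists_trunc_trans u q m hm₂
  have e : t₂ ≫ g = t₁ ≫ f := trunc_hom_ext R (homSet_ext fun r => by
    change g (t₂ ((R.truncHom m).1 r)) = f (t₁ ((R.truncHom m).1 r))
    rw [show t₂ ((R.truncHom m).1 r) = (R.truncHom q).1 r from
        AlgHom.congr_fun (congrArg Subtype.val c₂) r,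
      show t₁ ((R.truncHom m).1 r) = (R.truncHom N).1 r from
        AlgHom.congr_fun (congrArg Subtype.val c₁) r]
    exact AlgHom.congr_fun (congrArg Subtype.val (hg.trans hf.symm)) r)
  rw [← d₁, ← d₂, ← map_comp_apply, ← map_comp_apply, e]

theorem formal_value_natural {R : CRing Λ k} {F : Art Λ k ⥤ Type v} (u : FormalElt F R)
    (x : ∀ (A : Art Λ k), HomSet R.carrier R.res A → F.obj A)
    (hx : ∀ (A : Art Λ k) (φ : HomSet R.carrier R.res A) (q : ℕ) (g : R.trunc q ⟶ A),
      HomSet.map g (R.truncHom q) = φ → F.map g (u.elt q) = x A φ)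
    {A B : Art Λ k} (g : A ⟶ B) (φ : HomSet R.carrier R.res A) :
    x B (HomSet.map g φ) = F.map g (x A φ) := by
  obtain ⟨N, hN⟩ := exists_trunc_factor R φ
  obtain ⟨f, hf⟩ := hN N le_rfl
  rw [← hx A φ N f hf, ← map_comp_apply]
  exact (hx B (HomSet.map g φ) N (f ≫ g)
    (homSet_ext fun r => congrArg g (AlgHom.congr_fun (congrArg Subtype.val hf) r))).symm

theorem toFormalElt_surjective (R : CRing Λ k) (F : Art Λ k ⥤ Type v) :
    Function.Surjective (fun ξ : Family R.carrier R.res F => ξ.toFormalElt) := by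
  intro u
  choose x hx using fun (A : Art Λ k) (φ : HomSet R.carrier R.res A) => exists_formal_value u φ
  refine ⟨⟨x, fun g φ => formal_value_natural u x hx g φ⟩, ?_⟩
  refine FormalElt.ext' fun n => ?_
  exact (hx _ (R.truncHom n) n (𝟙 _) (homSet_ext fun _ => rfl)).symm.trans (map_id_apply _ _)

theorem toFormalElt_bijective (R : CRing Λ k) (F : Art Λ k ⥤ Type v) :
    Function.Bijective (fun ξ : Family R.carrier R.res F => ξ.toFormalElt) :=
  ⟨toFormalElt_injective R F, toFormalElt_surjective R F⟩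

theorem cring_hom_ext (R : CRing Λ k) {S : Type u} [CommRing S] [Algebra Λ S]
    {g g' : S →ₐ[Λ] R.carrier} (h : ∀ n s, (R.truncHom n).1 (g s) = (R.truncHom n).1 (g' s)) :
    g = g' := AlgHom.ext fun s => by
  have := R.isAdicComplete
  refine (IsHausdorff.eq_iff_smodEq (I := IsLocalRing.maximalIdeal R.carrier)).2 fun n => ?_
  rw [SModEq.sub_mem, smul_eq_mul, Ideal.mul_top]
  refine Ideal.pow_le_pow_right (Nat.le_succ n) ((truncHom_eq_zero R n _).1 ?_)
  rw [map_sub, h, sub_self]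

/-- A compatible sequence of maps to the truncations comes from a unique map. -/
theorem exists_hom_of_compatible (R : CRing Λ k) {S : Type u} [CommRing S] [Algebra Λ S]
    {resS : S →ₐ[Λ] k} (φ : ∀ n, HomSet S resS (R.trunc n))
    (hφ : ∀ n, HomSet.map (R.truncMap n) (φ (n + 1)) = φ n) :
    ∃ (g : S →ₐ[Λ] R.carrier) (_ : R.res.comp g = resS),
      ∀ n s, (R.truncHom n).1 (g s) = (φ n).1 s := by
  have := R.isAdicComplete
  obtain ⟨F, hF⟩ : ∃ F : ∀ n, S →ₐ[Λ] R.carrier ⧸ IsLocalRing.maximalIdeal R.carrier ^ n,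
      ∀ n s, F n s = Ideal.Quotient.factor
        (Ideal.pow_le_pow_right (I := IsLocalRing.maximalIdeal R.carrier) (Nat.le_succ n)) ((φ n).1 s) :=
    ⟨fun n => (Ideal.Quotient.factorₐ Λ
      (Ideal.pow_le_pow_right (I := IsLocalRing.maximalIdeal R.carrier) (Nat.le_succ n))).comp (φ n).1,
      fun _ _ => rfl⟩
  have hstep : ∀ n s, Ideal.Quotient.factor (Ideal.pow_le_pow_right (Nat.le_succ (n + 1)))
      ((φ (n + 1)).1 s) = (φ n).1 s := fun n s => by
    rw [← AlgHom.congr_fun (congrArg Subtype.val (hφ n)) s]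
    obtain ⟨r, hr⟩ := truncHom_surjective R (n + 1) ((φ (n + 1)).1 s)
    change _ = R.truncMap n ((φ (n + 1)).1 s)
    rw [← hr]
    rfl
  have hc : ∀ {m n : ℕ} (hle : m ≤ n), (Ideal.Quotient.factorₐ Λ
      (Ideal.pow_le_pow_right (I := IsLocalRing.maximalIdeal R.carrier) hle)).comp (F n) = F m := by
    intro m n hle
    refine AlgHom.ext fun s => ?_
    change Ideal.Quotient.factor (Ideal.pow_le_pow_right hle) (F n s) = F m s
    induction n, hle using Nat.le_induction with
    | base =>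
      obtain ⟨r, hr⟩ := Ideal.Quotient.mk_surjective (F m s)
      rw [← hr, Ideal.Quotient.factor_mk]
    | succ n hle ih =>
      rw [← ih, hF (n + 1), hF n, ← hstep n s]
      obtain ⟨r, hr⟩ := truncHom_surjective R (n + 1) ((φ (n + 1)).1 s)
      rw [← hr]
      rfl
  obtain ⟨g, hg⟩ : ∃ g : S →ₐ[Λ] R.carrier, g =
      IsAdicComplete.liftAlgHom (IsLocalRing.maximalIdeal R.carrier) F hc := ⟨_, rfl⟩
  have hmk : ∀ n s, (R.truncHom n).1 (g s) = (φ n).1 s := fun n s => by
    change Ideal.Quotient.mk (IsLocalRing.maximalIdeal R.carrier ^ (n + 1)) (g s) = _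
    rw [hg, IsAdicComplete.mk_liftAlgHom, hF, hstep]
  refine ⟨g, AlgHom.ext fun s => ?_, hmk⟩
  rw [AlgHom.comp_apply, ← homSet_res (φ 0) s, ← hmk 0 s]
  exact (homSet_res (R.truncHom 0) (g s)).symm

/-- Every family of `h_S` over `R` is composition with a map `S → R`. -/
theorem exists_hom_of_family (R : CRing Λ k) {S : Type u} [CommRing S] [Algebra Λ S]
    {resS : S →ₐ[Λ] k} (ξ : Family R.carrier R.res (hR S resS)) :
    ∃ (g : S →ₐ[Λ] R.carrier) (_ : R.res.comp g = resS),
      ∀ (A : Art Λ k) (φ : HomSet R.carrier R.res A), (ξ.app A φ).1 = φ.1.comp g := by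
  obtain ⟨g, hg, hgφ⟩ := exists_hom_of_compatible R (resS := resS) (fun n => ξ.app _ (R.truncHom n))
    (fun n => by
      have := ξ.natural (R.truncMap n) (R.truncHom (n + 1))
      rw [CRing.truncMap_truncHom] at this
      exact this.symm)
  refine ⟨g, hg, fun A φ => AlgHom.ext fun s => ?_⟩
  obtain ⟨N, hN⟩ := exists_trunc_factor R φ
  obtain ⟨f, rfl⟩ := hN N le_rfl
  rw [ξ.natural]
  change f ((ξ.app _ (R.truncHom N)).1 s) = f ((R.truncHom N).1 (g s))
  rw [hgφ]

theorem map_le_of_res {R S : CRing Λ k} (f : R.carrier →ₐ[Λ] S.carrier) (hf : S.res.comp f = R.res) :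
    Ideal.map f (IsLocalRing.maximalIdeal R.carrier) ≤ IsLocalRing.maximalIdeal S.carrier := by
  rw [Ideal.map_le_iff_le_comap]
  intro a ha
  rw [Ideal.mem_comap, cring_res_mem]
  exact (AlgHom.congr_fun hf a).trans ((cring_res_mem a).1 ha)

theorem cring_surjective_of_cotangent {R S : CRing Λ k} (f : R.carrier →ₐ[Λ] S.carrier)
    (hf : S.res.comp f = R.res)
    (h : IsLocalRing.maximalIdeal S.carrier ≤
      Ideal.map f (IsLocalRing.maximalIdeal R.carrier) ⊔ IsLocalRing.maximalIdeal S.carrier ^ 2) :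
    Function.Surjective f := by
  have := R.isAdicComplete
  have := S.isAdicComplete
  have hm : Ideal.map (f : R.carrier →+* S.carrier) (IsLocalRing.maximalIdeal R.carrier) =
      IsLocalRing.maximalIdeal S.carrier := by
    refine le_antisymm (map_le_of_res f hf) ?_
    refine Submodule.le_of_le_smul_of_le_jacobson_bot (IsNoetherian.noetherian _)
      (IsLocalRing.maximalIdeal_le_jacobson _) ?_
    rw [smul_eq_mul, ← sq]
    exact h
  refine surjective_of_mk_map_comp_surjective (I := IsLocalRing.maximalIdeal R.carrier)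
    (f : R.carrier →+* S.carrier) (haus := hm.symm ▸ S.isAdicComplete.toIsHausdorff) fun y => ?_
  obtain ⟨s, rfl⟩ := Ideal.Quotient.mk_surjective y
  obtain ⟨r, hr⟩ := R.res_surjective (S.res s)
  refine ⟨r, Ideal.Quotient.eq.2 ?_⟩
  rw [hm, cring_res_mem, map_sub]
  exact sub_eq_zero.2 ((AlgHom.congr_fun hf r).trans hr)

/-- A map of coefficient rings which is injective on `Hom(-, k[ε])` is surjective. -/
theorem cring_surjective_of_dual {R S : CRing Λ k} (f : R.carrier →ₐ[Λ] S.carrier)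
    (hf : S.res.comp f = R.res)
    (h : ∀ ψ ψ' : HomSet S.carrier S.res (dual Λ k), (∀ r, ψ.1 (f r) = ψ'.1 (f r)) → ψ = ψ') :
    Function.Surjective f := by
  refine cring_surjective_of_cotangent f hf ?_
  obtain ⟨φ, hφ⟩ : ∃ φ : HomSet R.carrier R.res (S.trunc 1), ∀ r, φ.1 r = (S.truncHom 1).1 (f r) :=
    ⟨⟨(S.truncHom 1).1.comp f, by rw [← AlgHom.comp_assoc, (S.truncHom 1).2, hf]⟩, fun _ => rfl⟩
  have hfac : ∀ r, (R.truncHom 1).1 r = 0 → φ.1 r = 0 := fun r hr => by
    rw [hφ, truncHom_eq_zero]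
    have h1 := Ideal.mem_map_of_mem f ((truncHom_eq_zero R 1 r).1 hr)
    rw [Ideal.map_pow] at h1
    exact Ideal.pow_right_mono (map_le_of_res f hf) _ h1
  obtain ⟨g, hg, -⟩ := exists_factor R φ (R.truncHom 1) (truncHom_surjective R 1) hfac
  have hgs : Function.Surjective g := surjective_of_hom_dual g fun τ τ' e => by
    refine trunc_hom_ext S (h _ _ fun r => ?_)
    change τ ((S.truncHom 1).1 (f r)) = τ' ((S.truncHom 1).1 (f r))
    rw [← hφ, ← hg]
    exact hom_congr e ((R.truncHom 1).1 r)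
  intro s hs
  obtain ⟨x, hx⟩ := hgs ((S.truncHom 1).1 s)
  obtain ⟨r, rfl⟩ := truncHom_surjective R 1 x
  have hr : g ((R.truncHom 1).1 r) = (S.truncHom 1).1 (f r) :=
    (AlgHom.congr_fun (congrArg Subtype.val hg) r).trans (hφ r)
  rw [hr, ← sub_eq_zero, ← map_sub, truncHom_eq_zero] at hx
  have hrm : r ∈ IsLocalRing.maximalIdeal R.carrier := by
    rw [cring_res_mem, ← AlgHom.congr_fun hf r, AlgHom.comp_apply]
    have := (cring_res_mem _).1 (Ideal.pow_le_self (two_ne_zero) hx)
    rw [map_sub, (cring_res_mem s).1 hs, sub_zero] at this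
    exact this
  exact Submodule.mem_sup.2
    ⟨f r, Ideal.mem_map_of_mem f hrm, s - f r, by rw [← neg_sub]; exact neg_mem hx, add_sub_cancel _ _⟩

theorem bijective_of_surjective_endo {R : Type*} [CommRing R] [IsNoetherianRing R] (g : R →+* R)
    (hg : Function.Surjective g) : Function.Bijective g := by
  let K : ℕ →o Ideal R :=
    ⟨fun n => RingHom.ker (g ^ n), monotone_nat_of_le_succ fun n x hx => by
      rw [RingHom.mem_ker] at hx ⊢
      rw [pow_succ', RingHom.coe_mul, Function.comp_apply, hx, map_zero]⟩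
  obtain ⟨n, hn⟩ := monotone_stabilizes_iff_noetherian.2 (inferInstance : IsNoetherian R R) K
  refine ⟨(injective_iff_map_eq_zero g).2 fun x hx => ?_, hg⟩
  obtain ⟨y, hy⟩ : ∃ y, (g ^ n) y = x := by
    rw [RingHom.coe_pow]
    exact hg.iterate n x
  have h1 : y ∈ K (n + 1) := by
    change (g ^ (n + 1)) y = 0
    rw [pow_succ', RingHom.coe_mul, Function.comp_apply, hy, hx]
  rw [← hn (n + 1) (Nat.le_succ n)] at h1
  rw [← hy]
  exact h1

end ArtLib
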