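import Groth.Agent.ArtLib.Easy
import Groth.Agent.CompleteLib.Basic
import Groth.Agent.CompleteLib.Noetherian

/-!
# Limits of descending systems of Artinian quotients
-/

set_option autoImplicit false

universe u v

open CategoryTheory

namespace ArtLib

open ArtFun ArtFun.Art

variable {Λ : Type u} {k : Type u} [CommRing Λ] [Field k] [Algebra Λ k]
variable {P : Type u} [CommRing P] [Algebra Λ P]

/-- An ideal of finite colength inside the augmentation ideal. -/
structure IsSub (resP : P →ₐ[Λ] k) (J : Ideal P) : Prop where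
  le : ∀ p ∈ J, resP p = 0
  pow : ∃ n : ℕ, RingHom.ker (resP : P →+* k) ^ n ≤ J

theorem isArtinianRing_of_nilpotent {B : Type u} [CommRing B] [IsNoetherianRing B] [Algebra Λ B]
    (res : B →ₐ[Λ] k) (hres : Function.Surjective res) (hn : ∀ b : B, res b = 0 → IsNilpotent b) :
    IsArtinianRing B := by
  have := isLocalRing_of_res res hres hn
  rw [isArtinianRing_iff_isNilpotent_maximalIdeal,
    Ideal.FG.isNilpotent_iff_le_nilradical (IsNoetherian.noetherian _)]
  intro b hb
  refine hn b ?_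
  have hker : RingHom.ker (res : B →+* k) = IsLocalRing.maximalIdeal B :=
    IsLocalRing.eq_maximalIdeal (RingHom.ker_isMaximal_of_surjective _ hres)
  rw [← hker] at hb
  exact hb

variable {resP : P →ₐ[Λ] k} [IsNoetherianRing P]

/-- The quotient object of an ideal of finite colength. -/
def pq (hres : Function.Surjective resP) {J : Ideal P} (hJ : IsSub resP J) : Art Λ k :=
  have hs : Function.Surjective (Ideal.Quotient.liftₐ J resP hJ.le) := fun c => by
    obtain ⟨p, rfl⟩ := hres c
    exact ⟨Ideal.Quotient.mk J p, rfl⟩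
  have hn : ∀ b : P ⧸ J, Ideal.Quotient.liftₐ J resP hJ.le b = 0 → IsNilpotent b := fun b hb => by
    obtain ⟨p, rfl⟩ := Ideal.Quotient.mk_surjective b
    obtain ⟨n, hn⟩ := hJ.pow
    exact ⟨n, by rw [← map_pow, Ideal.Quotient.eq_zero_iff_mem]; exact hn (Ideal.pow_mem_pow hb n)⟩
  { carrier := P ⧸ J
    isLocalRing := isLocalRing_of_res _ hs hn
    isArtinianRing := isArtinianRing_of_nilpotent _ hs hn
    res := Ideal.Quotient.liftₐ J resP hJ.le
    res_surjective := hs }

variable (hres : Function.Surjective resP)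

/-- The quotient map `P → P/J`. -/
def pqMk {J : Ideal P} (hJ : IsSub resP J) : HomSet P resP (pq hres hJ) :=
  ⟨Ideal.Quotient.mkₐ Λ J, AlgHom.ext fun _ => rfl⟩

theorem pqMk_eq_zero {J : Ideal P} (hJ : IsSub resP J) {p : P} :
    (pqMk hres hJ).1 p = 0 ↔ p ∈ J := Ideal.Quotient.eq_zero_iff_mem

theorem pqMk_surjective {J : Ideal P} (hJ : IsSub resP J) :
    Function.Surjective (pqMk hres hJ).1 := Ideal.Quotient.mk_surjective

/-- Maps out of `P/J`. -/
def pqLift {J : Ideal P} (hJ : IsSub resP J) {A : Art Λ k} (φ : HomSet P resP A)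
    (h : ∀ p ∈ J, φ.1 p = 0) : pq hres hJ ⟶ A :=
  Art.homMk (Ideal.Quotient.liftₐ J φ.1 h) (AlgHom.ext fun x => by
    obtain ⟨p, rfl⟩ := Ideal.Quotient.mk_surjective x
    exact AlgHom.congr_fun φ.2 p)

theorem map_pqLift {J : Ideal P} (hJ : IsSub resP J) {A : Art Λ k} (φ : HomSet P resP A)
    (h : ∀ p ∈ J, φ.1 p = 0) : HomSet.map (pqLift hres hJ φ h) (pqMk hres hJ) = φ :=
  homSet_ext fun _ => rfl

theorem pq_hom_ext {J : Ideal P} {hJ : IsSub resP J} {A : Art Λ k} {f g : pq hres hJ ⟶ A}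
    (h : ∀ p, f ((pqMk hres hJ).1 p) = g ((pqMk hres hJ).1 p)) : f = g :=
  hom_ext' fun x => by
    obtain ⟨p, rfl⟩ := pqMk_surjective hres hJ x
    exact h p

/-- The transition map. -/
def pqMap {J J' : Ideal P} (hJ : IsSub resP J) (hJ' : IsSub resP J') (h : J' ≤ J) :
    pq hres hJ' ⟶ pq hres hJ :=
  pqLift hres hJ' (pqMk hres hJ) fun _ hp => (pqMk_eq_zero hres hJ).2 (h hp)

theorem pqMap_surjective {J J' : Ideal P} (hJ : IsSub resP J) (hJ' : IsSub resP J') (h : J' ≤ J) :
    Function.Surjective (pqMap hres hJ hJ' h) := fun x => by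
  obtain ⟨p, rfl⟩ := pqMk_surjective hres hJ x
  exact ⟨(pqMk hres hJ').1 p, rfl⟩

omit [IsNoetherianRing P] in
/-- A map to an object kills a power of the augmentation ideal. -/
theorem homSet_pow {A : Art Λ k} (φ : HomSet P resP A) :
    ∃ n : ℕ, ∀ p ∈ RingHom.ker (resP : P →+* k) ^ n, φ.1 p = 0 := by
  obtain ⟨n, hn⟩ := isNilpotent_maximalIdeal A
  refine ⟨n, fun p hp => ?_⟩
  have h : Ideal.map φ.1 (RingHom.ker (resP : P →+* k) ^ n) ≤ IsLocalRing.maximalIdeal A ^ n := by
    rw [Ideal.map_pow]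
    refine Ideal.pow_right_mono (Ideal.map_le_iff_le_comap.2 fun q hq => ?_) n
    rw [Ideal.mem_comap, Art.mem_maximalIdeal_iff, homSet_res]
    exact hq
  have := h (Ideal.mem_map_of_mem _ hp)
  rwa [hn] at this

omit [IsNoetherianRing P] in
theorem isSub_pow {n : ℕ} (hn : n ≠ 0) : IsSub resP (RingHom.ker (resP : P →+* k) ^ n) :=
  ⟨fun _ hp => Ideal.pow_le_self hn hp, n, le_rfl⟩

section Limit

variable (J : ℕ → Ideal P) (hJ : ∀ q, IsSub resP (J q)) (hanti : ∀ q, J (q + 1) ≤ J q)

local notation "M" => RingHom.ker (resP : P →+* k)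

omit [IsNoetherianRing P] in
include hanti in
theorem system_antitone : ∀ {a b : ℕ}, a ≤ b → J b ≤ J a :=
  fun h => antitone_nat_of_succ_le hanti h

include hres hanti in
/-- Stabilisation of a descending system modulo a power of the augmentation ideal. -/
theorem exists_stabilise (n : ℕ) (hn : n ≠ 0) :
    ∃ q₀, ∀ q, q₀ ≤ q → J q₀ ≤ J q ⊔ M ^ n := by
  have : IsArtinianRing (P ⧸ M ^ n) := (pq hres (isSub_pow (resP := resP) hn)).isArtinianRing
  obtain ⟨q₀, hq₀⟩ := IsArtinian.monotone_stabilizes (R := P ⧸ M ^ n)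
    ⟨fun q => OrderDual.toDual ((J q).map (Ideal.Quotient.mk (M ^ n))),
      fun a b hab => Ideal.map_mono (system_antitone J hanti hab)⟩
  refine ⟨q₀, fun q hq p hp => ?_⟩
  have h : (J q₀).map (Ideal.Quotient.mk (M ^ n)) = (J q).map (Ideal.Quotient.mk (M ^ n)) :=
    OrderDual.toDual.injective (hq₀ q hq)
  have hp' : Ideal.Quotient.mk (M ^ n) p ∈ (J q).map (Ideal.Quotient.mk (M ^ n)) :=
    h ▸ Ideal.mem_map_of_mem _ hp
  obtain ⟨p', hp', e⟩ := (Ideal.mem_map_iff_of_surjective _ Ideal.Quotient.mk_surjective).1 hp'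
  exact Submodule.mem_sup.2 ⟨p', hp', p - p', Ideal.Quotient.eq.1 e.symm, add_sub_cancel _ _⟩

omit [IsNoetherianRing P] in
theorem evalₐ_transition {a b : ℕ} (h : a ≤ b) (x : AdicCompletion M P) :
    Ideal.Quotient.factor (Ideal.pow_le_pow_right (I := M) h) (AdicCompletion.evalₐ M b x) =
      AdicCompletion.evalₐ M a x := by
  induction x using AdicCompletion.induction_on with
  | _ f =>
    rw [AdicCompletion.evalₐ_mk, AdicCompletion.evalₐ_mk, Ideal.Quotient.factor_mk]
    exact AdicCompletion.Ideal.mk_eq_mk M h f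

omit [IsNoetherianRing P] in
theorem exists_of_cauchy (f : ℕ → P) (hf : ∀ n, f (n + 1) - f n ∈ M ^ n) :
    ∃ x : AdicCompletion M P, ∀ n, AdicCompletion.evalₐ M n x = Ideal.Quotient.mk (M ^ n) (f n) := by
  refine ⟨AdicCompletion.mk M P (AdicCompletion.AdicCauchySequence.mk M P f fun n => ?_),
    fun n => AdicCompletion.evalₐ_mk M n _⟩
  rw [SModEq.sub_mem, smul_eq_mul, Ideal.mul_top, ← neg_sub]
  exact neg_mem (hf n)

variable [IsNoetherianRing Λ] [Module.Finite Λ k]

omit [IsNoetherianRing Λ] [Module.Finite Λ k] in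
include hanti in
/-- The limit of a descending system of finite colength ideals. -/
theorem exists_limit_ring :
    ∃ (R : CRing Λ k) (π : ∀ q, HomSet R.carrier R.res (pq hres (hJ q))),
      (∀ q, HomSet.map (pqMap hres (hJ q) (hJ (q + 1)) (hanti q)) (π (q + 1)) = π q) ∧
      (∀ q, Function.Surjective (π q).1) ∧
      (∀ p : ℕ → P, (∀ q, p (q + 1) - p q ∈ J q) →
        ∃! s : R.carrier, ∀ q, (π q).1 s = (pqMk hres (hJ q)).1 (p q)) ∧
      (∀ n : ℕ, ∃ q, RingHom.ker (π q).1 ≤ IsLocalRing.maximalIdeal R.carrier ^ n) ∧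
      (∀ q : ℕ, ∃ n, IsLocalRing.maximalIdeal R.carrier ^ n ≤ RingHom.ker (π q).1) := by
  classical
  have hMfg : (M).FG := IsNoetherian.noetherian _
  have hMmax : (M).IsMaximal := RingHom.ker_isMaximal_of_surjective _ hres
  obtain ⟨mC, hmC⟩ : ∃ mC, mC = (M).map (algebraMap P (AdicCompletion M P)) := ⟨_, rfl⟩
  have hmax : mC.IsMaximal := hmC ▸ AdicCompletion.isMaximal_map_of_le _ _ le_rfl hMfg
  have hcomp : IsAdicComplete mC (AdicCompletion M P) :=
    hmC ▸ AdicCompletion.isAdicComplete_self _ hMfg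
  have : IsLocalRing (AdicCompletion M P) := isLocalRing_of_isAdicComplete_maximal mC
  have hmCeq : IsLocalRing.maximalIdeal (AdicCompletion M P) = mC :=
    (IsLocalRing.eq_maximalIdeal hmax).symm
  let : Field (AdicCompletion M P ⧸ mC) := Ideal.Quotient.field mC
  have : IsNoetherianRing (AdicCompletion M P) :=
    CompleteLib.isNoetherianRing_of_isAdicComplete mC (hmC ▸ hMfg.map _)
  -- evaluation at a power
  have hker : ∀ n x, AdicCompletion.evalₐ M n x = 0 → x ∈ mC ^ n := fun n x hx => by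
    have h0 : AdicCompletion.eval M P n x = 0 := by
      rw [← AdicCompletion.factor_evalₐ_eq_eval M x (by simp), hx, map_zero]
    have : x ∈ (AdicCompletion.eval M P n).ker := h0
    rw [← AdicCompletion.pow_smul_top_eq_ker_eval hMfg, Ideal.smul_top_eq_map] at this
    rw [hmC, ← Ideal.map_pow]
    exact this
  -- the projections
  choose e he using fun q => (hJ q).pow
  obtain ⟨πC, hπC⟩ : ∃ πC : ∀ q, AdicCompletion M P →ₐ[Λ] pq hres (hJ q),
      ∀ (q n : ℕ) (h : M ^ n ≤ J q) x, πC q x = Ideal.Quotient.factor h (AdicCompletion.evalₐ M n x) := by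
    refine ⟨fun q => (Ideal.Quotient.factorₐ Λ (he q)).comp
      ((AdicCompletion.evalₐ M (e q)).restrictScalars Λ), fun q n h x => ?_⟩
    change Ideal.Quotient.factor (he q) (AdicCompletion.evalₐ M (e q) x) = _
    rcases le_total (e q) n with hle | hle
    · rw [← evalₐ_transition hle, Ideal.Quotient.factor_comp_apply]
    · rw [← evalₐ_transition (resP := resP) hle, Ideal.Quotient.factor_comp_apply]
  have hπof : ∀ q p, πC q (AdicCompletion.of M P p) = (pqMk hres (hJ q)).1 p := fun q p => by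
    rw [hπC q (e q) (he q), AdicCompletion.evalₐ_of, Ideal.Quotient.factor_mk]
    rfl
  have hπmk : ∀ (q n : ℕ) (_ : M ^ n ≤ J q) x p,
      AdicCompletion.evalₐ M n x = Ideal.Quotient.mk _ p → πC q x = (pqMk hres (hJ q)).1 p :=
    fun q n h x p hx => by rw [hπC q n h, hx, Ideal.Quotient.factor_mk]; rfl
  -- residue map
  obtain ⟨resC, hresC⟩ : ∃ resC : AdicCompletion M P →ₐ[Λ] k, resC = (pq hres (hJ 0)).res.comp (πC 0) :=
    ⟨_, rfl⟩
  have hres_of : ∀ p, resC (AdicCompletion.of M P p) = resP p := fun p => by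
    rw [hresC, AlgHom.comp_apply, hπof]; rfl
  have hmres : ∀ q, ∀ x ∈ mC, (pq hres (hJ q)).res (πC q x) = 0 := fun q => by
    suffices mC ≤ RingHom.ker ((pq hres (hJ q)).res.comp (πC q) : AdicCompletion M P →+* k) from this
    rw [hmC, Ideal.map_le_iff_le_comap]
    intro p hp
    change (pq hres (hJ q)).res (πC q (AdicCompletion.of M P p)) = 0
    rw [hπof]
    exact hp
  have hπcompat : ∀ q x, pqMap hres (hJ q) (hJ (q + 1)) (hanti q) (πC (q + 1) x) = πC q x := fun q x => by
    obtain ⟨p, hp⟩ := Ideal.Quotient.mk_surjective (AdicCompletion.evalₐ M (e (q + 1)) x)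
    rw [hπmk q (e (q + 1)) ((he (q + 1)).trans (hanti q)) x p hp.symm,
      hπmk (q + 1) (e (q + 1)) (he (q + 1)) x p hp.symm]
    rfl
  obtain ⟨I, hI⟩ : ∃ I : Ideal (AdicCompletion M P), ∀ x, x ∈ I ↔ ∀ q, πC q x = 0 :=
    ⟨⨅ q, RingHom.ker (πC q), fun x => by simp [Submodule.mem_iInf]⟩
  have hIres : ∀ x ∈ I, resC x = 0 := fun x hx => by
    rw [hresC, AlgHom.comp_apply, (hI x).1 hx 0, map_zero]
  have : Nontrivial (AdicCompletion M P ⧸ I) := Ideal.Quotient.nontrivial_iff.2 fun h => by
    have := hIres 1 (h ▸ trivial)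
    rw [map_one] at this
    exact one_ne_zero this
  have : IsLocalRing (AdicCompletion M P ⧸ I) :=
    IsLocalRing.of_surjective' (Ideal.Quotient.mk I) Ideal.Quotient.mk_surjective
  have hresR : Function.Surjective (Ideal.Quotient.liftₐ I resC hIres) := fun c => by
    obtain ⟨p, rfl⟩ := hres c
    exact ⟨Ideal.Quotient.mk I (AdicCompletion.of M P p), hres_of p⟩
  have hmR : IsLocalRing.maximalIdeal (AdicCompletion M P ⧸ I) = mC.map (Ideal.Quotient.mk I) := by
    rw [← hmCeq]
    exact (IsLocalRing.eq_maximalIdeal <| Ideal.IsMaximal.map_of_surjective_of_ker_le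
      Ideal.Quotient.mk_surjective (by
        rw [Ideal.mk_ker]
        exact IsLocalRing.le_maximalIdeal (fun h => one_ne_zero
          ((map_one resC).symm.trans (hIres 1 (h ▸ trivial)))))).symm
  have : IsAdicComplete mC (AdicCompletion M P ⧸ I) := CompleteLib.isAdicComplete_of_finite
  have : IsAdicComplete (IsLocalRing.maximalIdeal (AdicCompletion M P ⧸ I))
      (AdicCompletion M P ⧸ I) := by
    rw [hmR, ← Ideal.Quotient.algebraMap_eq]
    exact (IsAdicComplete.map_algebraMap_iff _ _).2 inferInstance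
  let R : CRing Λ k :=
      { carrier := AdicCompletion M P ⧸ I
        res := Ideal.Quotient.liftₐ I resC hIres
        res_surjective := hresR
        isAdicComplete := inferInstance }
  have hresπ : ∀ q x, (pq hres (hJ q)).res (πC q x) = resC x := fun q x => by
    induction q with
    | zero => rw [hresC]; rfl
    | succ q ih => rw [← Art.res_app (pqMap hres (hJ q) (hJ (q + 1)) (hanti q)), hπcompat, ih]
  refine ⟨R, fun q => ⟨Ideal.Quotient.liftₐ I (πC q) (fun x hx => (hI x).1 hx q),
    AlgHom.ext fun y => ?_⟩, fun q => homSet_ext fun y => ?_, fun q y => ?_, fun p hp => ?_,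
    fun n => ?_, fun q => ?_⟩
  · obtain ⟨x, rfl⟩ := Ideal.Quotient.mk_surjective y
    exact hresπ q x
  · obtain ⟨x, rfl⟩ := Ideal.Quotient.mk_surjective y
    exact hπcompat q x
  · obtain ⟨p, rfl⟩ := pqMk_surjective hres (hJ q) y
    exact ⟨Ideal.Quotient.mk I (AdicCompletion.of M P p), hπof q p⟩
  · -- limits of sequences
    choose st hst using fun n : ℕ => exists_stabilise hres J hanti (n + 1) (Nat.succ_ne_zero n)
    obtain ⟨qs, hqs, hqmono⟩ : ∃ qs : ℕ → ℕ, (∀ n, st n ≤ qs n) ∧ Monotone qs :=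
      ⟨fun n => (Finset.range (n + 1)).sup st, fun n => Finset.le_sup (Finset.self_mem_range_succ n),
        fun a b hab => Finset.sup_mono (Finset.range_mono (by omega))⟩
    have hpp : ∀ {a b : ℕ}, a ≤ b → p b - p a ∈ J a := fun {a b} hab => by
      induction b, hab using Nat.le_induction with
      | base => rw [sub_self]; exact zero_mem _
      | succ b hab ih =>
        rw [show p (b + 1) - p a = (p (b + 1) - p b) + (p b - p a) by ring]
        exact add_mem (system_antitone J hanti hab (hp b)) ih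
    have hK : ∀ n q, qs n ≤ q → J (qs n) ≤ J q ⊔ M ^ (n + 1) := fun n q hq =>
      (system_antitone J hanti (hqs n)).trans (hst n q ((hqs n).trans hq))
    have step : ∀ n, ∀ r : P, r - p (qs n) ∈ J (qs n) →
        ∃ r', r' - p (qs (n + 1)) ∈ J (qs (n + 1)) ∧ r' - r ∈ M ^ (n + 1) := fun n r hr => by
      have h1 : r - p (qs (n + 1)) ∈ J (qs n) := by
        rw [show r - p (qs (n + 1)) = (r - p (qs n)) - (p (qs (n + 1)) - p (qs n)) by ring]
        exact sub_mem hr (hpp (hqmono (by omega)))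
      obtain ⟨a, ha, b, hb, hab⟩ := Submodule.mem_sup.1 (hK n (qs (n + 1)) (hqmono (by omega)) h1)
      refine ⟨r - b, ?_, ?_⟩
      · rw [show r - b - p (qs (n + 1)) = a by linear_combination -hab]; exact ha
      · rw [show r - b - r = -b by ring]; exact neg_mem hb
    choose! nx hnx₁ hnx₂ using step
    let f : ℕ → P := fun n => Nat.rec (p (qs 0)) (fun n r => nx n r) n
    have hf : ∀ n, f n - p (qs n) ∈ J (qs n) := by
      intro n
      induction n with
      | zero => change p (qs 0) - p (qs 0) ∈ _; rw [sub_self]; exact zero_mem _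
      | succ n ih => exact hnx₁ n _ ih
    obtain ⟨x, hx⟩ := exists_of_cauchy (resP := resP) f fun n =>
      Ideal.pow_le_pow_right (Nat.le_succ n) (hnx₂ n _ (hf n))
    have key : ∀ q, πC q x = (pqMk hres (hJ q)).1 (p q) := fun q => by
      obtain ⟨n, hn, hqn⟩ : ∃ n, M ^ n ≤ J q ∧ e q ≤ n := ⟨e q, he q, le_rfl⟩
      rw [hπmk q n hn x (f n) (hx n), ← sub_eq_zero, ← map_sub, pqMk_eq_zero]
      -- `f n` agrees with `p q` modulo `J q`
      rcases le_total q (qs n) with h | h
      · rw [show f n - p q = (f n - p (qs n)) + (p (qs n) - p q) by ring]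
        exact add_mem (system_antitone J hanti h (hf n)) (hpp h)
      · have h' : f n - p q ∈ J (qs n) := by
          rw [show f n - p q = (f n - p (qs n)) - (p q - p (qs n)) by ring]
          exact sub_mem (hf n) (hpp h)
        exact (sup_le le_rfl ((Ideal.pow_le_pow_right (Nat.le_succ n)).trans hn)) (hK n q h h')
    refine ⟨Ideal.Quotient.mk I x, fun q => key q, fun s hs => ?_⟩
    obtain ⟨y, rfl⟩ := Ideal.Quotient.mk_surjective s
    rw [Ideal.Quotient.eq, hI]
    intro q
    rw [map_sub, sub_eq_zero]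
    exact (hs q).trans (key q).symm
  · -- the kernels are small
    rcases Nat.eq_zero_or_pos n with rfl | hn
    · exact ⟨0, by rw [pow_zero, Ideal.one_eq_top]; exact le_top⟩
    choose st hst using fun j : ℕ => exists_stabilise hres J hanti (j + 1) (Nat.succ_ne_zero j)
    obtain ⟨qs, hqs, hqmono⟩ : ∃ qs : ℕ → ℕ, (∀ j, st j ≤ qs j) ∧ Monotone qs :=
      ⟨fun j => (Finset.range (j + 1)).sup st, fun j => Finset.le_sup (Finset.self_mem_range_succ j),
        fun a b hab => Finset.sup_mono (Finset.range_mono (by omega))⟩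
    obtain ⟨d, rfl⟩ : ∃ d, n = d + 1 := ⟨n - 1, by omega⟩
    refine ⟨qs d, fun y hy => ?_⟩
    obtain ⟨x, rfl⟩ := Ideal.Quotient.mk_surjective y
    have hx0 : πC (qs d) x = 0 := hy
    obtain ⟨N, hN, hdN⟩ : ∃ N, M ^ N ≤ J (qs d) ∧ d + 1 ≤ N :=
      ⟨e (qs d) + (d + 1), (Ideal.pow_le_pow_right (by omega)).trans (he _), by omega⟩
    obtain ⟨p, hp⟩ := Ideal.Quotient.mk_surjective (AdicCompletion.evalₐ M N x)
    rw [hπmk _ N hN x p hp.symm, pqMk_eq_zero] at hx0
    have step : ∀ i, ∀ r : P, r ∈ J (qs (d + i)) →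
        ∃ r', r' ∈ J (qs (d + (i + 1))) ∧ r' - r ∈ M ^ (d + i + 1) := fun i r hr => by
      obtain ⟨a, ha, b, hb, hab⟩ := Submodule.mem_sup.1
        ((system_antitone J hanti (hqs (d + i))).trans
          (hst (d + i) (qs (d + (i + 1))) ((hqs _).trans (hqmono (by omega)))) hr)
      exact ⟨a, ha, by rw [show a - r = -b by linear_combination hab]; exact neg_mem hb⟩
    choose! nx hnx₁ hnx₂ using step
    let g : ℕ → P := fun i => Nat.rec p (fun i r => nx i r) i
    have hg : ∀ i, g i ∈ J (qs (d + i)) := by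
      intro i
      induction i with
      | zero => exact hx0
      | succ i ih => exact hnx₁ i _ ih
    obtain ⟨z, hz⟩ := exists_of_cauchy (resP := resP) g fun i =>
      Ideal.pow_le_pow_right (show i ≤ d + i + 1 by omega) (hnx₂ i _ (hg i))
    have hzI : z ∈ I := (hI z).2 fun q => by
      obtain ⟨i, hiN⟩ : ∃ i, M ^ i ≤ J q := ⟨e q, he q⟩
      rw [hπmk q i hiN z (g i) (hz i), pqMk_eq_zero]
      rcases le_total q (qs (d + i)) with h | h
      · exact system_antitone J hanti h (hg i)
      · exact (sup_le le_rfl ((Ideal.pow_le_pow_right (show i ≤ d + i + 1 by omega)).trans hiN))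
          (((system_antitone J hanti (hqs (d + i))).trans (hst (d + i) q ((hqs _).trans h))) (hg i))
    have hgp : ∀ i, g i - p ∈ M ^ (d + 1) := by
      intro i
      induction i with
      | zero => change p - p ∈ _; rw [sub_self]; exact zero_mem _
      | succ i ih =>
        rw [show g (i + 1) - p = (g (i + 1) - g i) + (g i - p) by ring]
        exact add_mem (Ideal.pow_le_pow_right (show d + 1 ≤ d + i + 1 by omega) (hnx₂ i _ (hg i))) ih
    have hxz : x - z ∈ mC ^ (d + 1) := hker _ _ (by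
      rw [map_sub, ← evalₐ_transition hdN x, ← hp, Ideal.Quotient.factor_mk, hz, sub_eq_zero,
        Ideal.Quotient.eq, ← neg_sub]
      exact neg_mem (hgp (d + 1)))
    rw [show IsLocalRing.maximalIdeal (AdicCompletion M P ⧸ I) = mC.map (Ideal.Quotient.mk I) from hmR,
      ← Ideal.map_pow, show Ideal.Quotient.mk I x = Ideal.Quotient.mk I (x - z) by
        rw [map_sub, Ideal.Quotient.eq_zero_iff_mem.2 hzI, sub_zero]]
    exact Ideal.mem_map_of_mem _ hxz
  · -- powers of the maximal ideal die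
    obtain ⟨n, hn⟩ := isNilpotent_maximalIdeal (pq hres (hJ q))
    refine ⟨n, ?_⟩
    rw [show IsLocalRing.maximalIdeal (AdicCompletion M P ⧸ I) = mC.map (Ideal.Quotient.mk I) from hmR,
      ← Ideal.map_pow, Ideal.map_le_iff_le_comap]
    intro x hx
    have h1 : Ideal.map (πC q) mC ≤ IsLocalRing.maximalIdeal (pq hres (hJ q)) :=
      Ideal.map_le_iff_le_comap.2 fun y hy => (Art.mem_maximalIdeal_iff _ _).2 (hmres q y hy)
    have h2 := Ideal.mem_map_of_mem (πC q) hx
    rw [Ideal.map_pow] at h2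
    have h3 := Ideal.pow_right_mono h1 n h2
    rw [hn] at h3
    exact h3

end Limit

end ArtLib
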