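import Groth.Agent.ArtLib.Complete
import Groth.Agent.ArtLib.CRingHom

/-!
# Pushouts and coproducts of coefficient rings
-/

set_option autoImplicit false

universe u v w

open CategoryTheory

namespace ArtLib

open ArtFun ArtFun.Art

variable {Λ : Type u} {k : Type u} [CommRing Λ] [Field k] [Algebra Λ k]
variable [IsNoetherianRing Λ] [Module.Finite Λ k]

omit [IsNoetherianRing Λ] in
/-- Finitely many elements whose polynomials are dense in a coefficient ring. -/
theorem exists_dense (R : CRing Λ k) :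
    ∃ (N : ℕ) (a : Fin N → R.carrier), ∀ (n : ℕ) (r : R.carrier), ∃ p : MvPolynomial (Fin N) Λ,
      MvPolynomial.aeval a p - r ∈ IsLocalRing.maximalIdeal R.carrier ^ n := by
  obtain ⟨N₁, c, hc⟩ := Module.Finite.exists_fin (R := Λ) (M := k)
  choose cr hcr using fun i => R.res_surjective (c i)
  obtain ⟨N₂, g, hg⟩ := Submodule.fg_iff_exists_fin_generating_family.1
    (IsNoetherian.noetherian (IsLocalRing.maximalIdeal R.carrier))
  let a : Fin (N₁ + N₂) → R.carrier := Fin.append cr g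
  refine ⟨N₁ + N₂, a, ?_⟩
  have h0 : ∀ r : R.carrier, ∃ p : MvPolynomial (Fin (N₁ + N₂)) Λ,
      MvPolynomial.aeval a p - r ∈ IsLocalRing.maximalIdeal R.carrier := by
    intro r
    have : R.res r ∈ Submodule.span Λ (Set.range c) := hc ▸ Submodule.mem_top
    obtain ⟨l, hl⟩ := (Submodule.mem_span_range_iff_exists_fun Λ).1 this
    refine ⟨∑ i, l i • MvPolynomial.X (Fin.castAdd N₂ i), ?_⟩
    rw [cring_res_mem, map_sub, map_sum, map_sum, sub_eq_zero, ← hl]
    refine Finset.sum_congr rfl fun i _ => ?_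
    rw [map_smul, map_smul, MvPolynomial.aeval_X, show a (Fin.castAdd N₂ i) = cr i from
      Fin.append_left cr g i, hcr]
  have hgm : ∀ b ∈ IsLocalRing.maximalIdeal R.carrier, ∃ p : MvPolynomial (Fin (N₁ + N₂)) Λ,
      MvPolynomial.aeval a p ∈ IsLocalRing.maximalIdeal R.carrier ∧
      MvPolynomial.aeval a p - b ∈ IsLocalRing.maximalIdeal R.carrier ^ 2 := by
    intro b hb
    obtain ⟨l, hl⟩ := (Submodule.mem_span_range_iff_exists_fun R.carrier).1
      (show b ∈ Submodule.span R.carrier (Set.range g) from hg ▸ hb)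
    choose p hp using fun i => h0 (l i)
    have hgi : ∀ i, g i ∈ IsLocalRing.maximalIdeal R.carrier := fun i =>
      hg ▸ Submodule.subset_span ⟨i, rfl⟩
    refine ⟨∑ i, p i * MvPolynomial.X (Fin.natAdd N₁ i), ?_, ?_⟩
    · rw [map_sum]
      refine Submodule.sum_mem _ fun i _ => ?_
      rw [map_mul, MvPolynomial.aeval_X, show a (Fin.natAdd N₁ i) = g i from Fin.append_right cr g i]
      exact Ideal.mul_mem_left _ _ (hgi i)
    · rw [← hl, map_sum, ← Finset.sum_sub_distrib]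
      refine Submodule.sum_mem _ fun i _ => ?_
      rw [map_mul, MvPolynomial.aeval_X, show a (Fin.natAdd N₁ i) = g i from Fin.append_right cr g i,
        smul_eq_mul, ← sub_mul, pow_two]
      exact Ideal.mul_mem_mul (hp i) (hgi i)
  have hstep : ∀ (n : ℕ) (r : R.carrier), r ∈ IsLocalRing.maximalIdeal R.carrier ^ n →
      ∃ p : MvPolynomial (Fin (N₁ + N₂)) Λ,
        MvPolynomial.aeval a p ∈ IsLocalRing.maximalIdeal R.carrier ^ n ∧
        MvPolynomial.aeval a p - r ∈ IsLocalRing.maximalIdeal R.carrier ^ (n + 1) := by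
    intro n
    induction n with
    | zero =>
      intro r _
      obtain ⟨p, hp⟩ := h0 r
      exact ⟨p, by rw [pow_zero, Ideal.one_eq_top]; trivial, by rwa [zero_add, pow_one]⟩
    | succ n ih =>
      intro r hr
      rw [pow_succ] at hr
      refine Submodule.mul_induction_on hr (fun x hx y hy => ?_) fun x y hx hy => ?_
      · obtain ⟨p, hp₁, hp₂⟩ := ih x hx
        obtain ⟨q, hq₁, hq₂⟩ := hgm y hy
        refine ⟨p * q, by rw [map_mul, pow_succ]; exact Ideal.mul_mem_mul hp₁ hq₁, ?_⟩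
        rw [map_mul, show MvPolynomial.aeval a p * MvPolynomial.aeval a q - x * y =
          MvPolynomial.aeval a p * (MvPolynomial.aeval a q - y) +
            (MvPolynomial.aeval a p - x) * y by ring]
        refine add_mem ?_ ?_
        · have := Ideal.mul_mem_mul hp₁ hq₂
          rwa [← pow_add] at this
        · have := Ideal.mul_mem_mul hp₂ hy
          rwa [← pow_succ] at this
      · obtain ⟨p, hp₁, hp₂⟩ := hx
        obtain ⟨q, hq₁, hq₂⟩ := hy
        refine ⟨p + q, by rw [map_add]; exact add_mem hp₁ hq₁, ?_⟩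
        rw [map_add, add_sub_add_comm]
        exact add_mem hp₂ hq₂
  intro n
  induction n with
  | zero => exact fun r => ⟨0, by rw [pow_zero, Ideal.one_eq_top]; trivial⟩
  | succ n ih =>
    intro r
    obtain ⟨p, hp⟩ := ih r
    obtain ⟨q, -, hq⟩ := hstep n _ (neg_mem hp)
    refine ⟨p + q, ?_⟩
    rw [map_add, show MvPolynomial.aeval a p + MvPolynomial.aeval a q - r =
      MvPolynomial.aeval a q - -(MvPolynomial.aeval a p - r) by ring]
    exact hq

/-- The coproduct of two coefficient rings with prescribed pairs of elements identified. -/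
theorem exists_coprod_equalizing (R S : CRing Λ k) {ι : Type w} (r : ι → R.carrier) (s : ι → S.carrier)
    (hrs : ∀ j, R.res (r j) = S.res (s j)) :
    ∃ (C : CRing Λ k) (i₁ : R.carrier →ₐ[Λ] C.carrier) (i₂ : S.carrier →ₐ[Λ] C.carrier),
      C.res.comp i₁ = R.res ∧ C.res.comp i₂ = S.res ∧ (∀ j, i₁ (r j) = i₂ (s j)) ∧
      ∀ (T : CRing Λ k) (g₁ : R.carrier →ₐ[Λ] T.carrier) (g₂ : S.carrier →ₐ[Λ] T.carrier),
        T.res.comp g₁ = R.res → T.res.comp g₂ = S.res → (∀ j, g₁ (r j) = g₂ (s j)) →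
          ∃! h : C.carrier →ₐ[Λ] T.carrier, T.res.comp h = C.res ∧ h.comp i₁ = g₁ ∧ h.comp i₂ = g₂ := by
  obtain ⟨N, a, ha⟩ := exists_dense R
  obtain ⟨N', b, hb⟩ := exists_dense S
  obtain ⟨e₁, he₁⟩ : ∃ e₁ : MvPolynomial (Fin N) Λ →ₐ[Λ] MvPolynomial (Fin N ⊕ Fin N') Λ,
      ∀ i, e₁ (MvPolynomial.X i) = MvPolynomial.X (Sum.inl i) :=
    ⟨MvPolynomial.rename Sum.inl, fun i => MvPolynomial.rename_X _ i⟩
  obtain ⟨e₂, he₂⟩ : ∃ e₂ : MvPolynomial (Fin N') Λ →ₐ[Λ] MvPolynomial (Fin N ⊕ Fin N') Λ,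
      ∀ i, e₂ (MvPolynomial.X i) = MvPolynomial.X (Sum.inr i) :=
    ⟨MvPolynomial.rename Sum.inr, fun i => MvPolynomial.rename_X _ i⟩
  obtain ⟨resP, hresP⟩ : ∃ resP : MvPolynomial (Fin N ⊕ Fin N') Λ →ₐ[Λ] k,
      resP = MvPolynomial.aeval (Sum.elim (fun i => R.res (a i)) fun i => S.res (b i)) := ⟨_, rfl⟩
  have hr₁ : ∀ p, resP (e₁ p) = R.res (MvPolynomial.aeval a p) := fun p => by
    refine AlgHom.congr_fun (φ₁ := resP.comp e₁) (φ₂ := R.res.comp (MvPolynomial.aeval a))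
      (MvPolynomial.algHom_ext fun i => ?_) p
    simp [he₁, hresP]
  have hr₂ : ∀ p, resP (e₂ p) = S.res (MvPolynomial.aeval b p) := fun p => by
    refine AlgHom.congr_fun (φ₁ := resP.comp e₂) (φ₂ := S.res.comp (MvPolynomial.aeval b))
      (MvPolynomial.algHom_ext fun i => ?_) p
    simp [he₂, hresP]
  have hres : Function.Surjective resP := fun c => by
    obtain ⟨x, rfl⟩ := R.res_surjective c
    obtain ⟨p, hp⟩ := ha 1 x
    refine ⟨e₁ p, ?_⟩
    rw [hr₁]
    rw [pow_one, cring_res_mem, map_sub, sub_eq_zero] at hp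
    exact hp
  let gen : ℕ → Set (MvPolynomial (Fin N ⊕ Fin N') Λ) := fun n =>
    {x | ∃ p, MvPolynomial.aeval a p ∈ IsLocalRing.maximalIdeal R.carrier ^ (n + 1) ∧ x = e₁ p} ∪
    {x | ∃ p, MvPolynomial.aeval b p ∈ IsLocalRing.maximalIdeal S.carrier ^ (n + 1) ∧ x = e₂ p} ∪
    {x | ∃ j p q, MvPolynomial.aeval a p - r j ∈ IsLocalRing.maximalIdeal R.carrier ^ (n + 1) ∧
      MvPolynomial.aeval b q - s j ∈ IsLocalRing.maximalIdeal S.carrier ^ (n + 1) ∧ x = e₁ p - e₂ q}
  let J : ℕ → Ideal (MvPolynomial (Fin N ⊕ Fin N') Λ) := fun n =>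
    Ideal.span (gen n) ⊔ RingHom.ker (resP : MvPolynomial (Fin N ⊕ Fin N') Λ →+* k) ^ (n + 1)
  have hgenres : ∀ n, ∀ x ∈ gen n, resP x = 0 := by
    rintro n x ((⟨p, hp, rfl⟩ | ⟨p, hp, rfl⟩) | ⟨j, p, q, hp, hq, rfl⟩)
    · rw [hr₁, ← cring_res_mem]
      exact Ideal.pow_le_self (Nat.succ_ne_zero _) hp
    · rw [hr₂, ← cring_res_mem]
      exact Ideal.pow_le_self (Nat.succ_ne_zero _) hp
    · have h1 := (cring_res_mem _).1 (Ideal.pow_le_self (Nat.succ_ne_zero _) hp)
      have h2 := (cring_res_mem _).1 (Ideal.pow_le_self (Nat.succ_ne_zero _) hq)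
      rw [map_sub, sub_eq_zero] at h1 h2
      rw [map_sub, hr₁, hr₂, h1, h2, hrs, sub_self]
  have hJ : ∀ n, IsSub resP (J n) := fun n => by
    refine ⟨fun x hx => ?_, n + 1, le_sup_right⟩
    have : J n ≤ RingHom.ker (resP : MvPolynomial (Fin N ⊕ Fin N') Λ →+* k) :=
      sup_le (Ideal.span_le.2 fun y hy => hgenres n y hy) (Ideal.pow_le_self (Nat.succ_ne_zero _))
    exact this hx
  have hmonoR : ∀ n x, x ∈ IsLocalRing.maximalIdeal R.carrier ^ (n + 1 + 1) →
      x ∈ IsLocalRing.maximalIdeal R.carrier ^ (n + 1) :=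
    fun n x hx => Ideal.pow_le_pow_right (Nat.le_succ _) hx
  have hmonoS : ∀ n x, x ∈ IsLocalRing.maximalIdeal S.carrier ^ (n + 1 + 1) →
      x ∈ IsLocalRing.maximalIdeal S.carrier ^ (n + 1) :=
    fun n x hx => Ideal.pow_le_pow_right (Nat.le_succ _) hx
  have hanti : ∀ n, J (n + 1) ≤ J n := fun n => by
    refine sup_le_sup (Ideal.span_mono ?_) (Ideal.pow_le_pow_right (Nat.le_succ _))
    rintro x ((⟨p, hp, rfl⟩ | ⟨p, hp, rfl⟩) | ⟨j, p, q, hp, hq, rfl⟩)
    · exact Or.inl (Or.inl ⟨p, hmonoR _ _ hp, rfl⟩)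
    · exact Or.inl (Or.inr ⟨p, hmonoS _ _ hp, rfl⟩)
    · exact Or.inr ⟨j, p, q, hmonoR _ _ hp, hmonoS _ _ hq, rfl⟩
  obtain ⟨C, π, hπc, hπs, hlim, hπn, -⟩ := exists_limit_ring hres J hJ hanti
  have hzero : ∀ c c' : C.carrier, (∀ q, (π q).1 c = (π q).1 c') → c = c' := fun c c' h => by
    choose p hp using fun q => pqMk_surjective hres (hJ q) ((π q).1 c)
    obtain ⟨z, -, hz⟩ := hlim p fun q => by
      rw [← pqMk_eq_zero hres, map_sub, sub_eq_zero, hp q]
      refine Eq.trans ?_ (AlgHom.congr_fun (congrArg Subtype.val (hπc q)) c)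
      exact (congrArg (pqMap hres (hJ q) (hJ (q + 1)) (hanti q)) (hp (q + 1)))
    exact (hz c fun q => (hp q).symm).trans (hz c' fun q => ((hp q).trans (h q)).symm).symm
  -- the two inclusions
  have mk_incl : ∀ (A : CRing Λ k) (M : ℕ) (x : Fin M → A.carrier)
      (_ : ∀ (n : ℕ) (y : A.carrier), ∃ p : MvPolynomial (Fin M) Λ,
        MvPolynomial.aeval x p - y ∈ IsLocalRing.maximalIdeal A.carrier ^ n)
      (e : MvPolynomial (Fin M) Λ →ₐ[Λ] MvPolynomial (Fin N ⊕ Fin N') Λ)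
      (_ : ∀ p, resP (e p) = A.res (MvPolynomial.aeval x p))
      (_ : ∀ n p, MvPolynomial.aeval x p ∈ IsLocalRing.maximalIdeal A.carrier ^ (n + 1) → e p ∈ J n),
      ∃ i : A.carrier →ₐ[Λ] C.carrier, C.res.comp i = A.res ∧ ∀ (n : ℕ) y p,
        MvPolynomial.aeval x p - y ∈ IsLocalRing.maximalIdeal A.carrier ^ (n + 1) →
          (π n).1 (i y) = (pqMk hres (hJ n)).1 (e p) := by
    intro A M x hx e hre hker
    have hwd : ∀ n y p p', MvPolynomial.aeval x p - y ∈ IsLocalRing.maximalIdeal A.carrier ^ (n + 1) →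
        MvPolynomial.aeval x p' - y ∈ IsLocalRing.maximalIdeal A.carrier ^ (n + 1) →
          (pqMk hres (hJ n)).1 (e p) = (pqMk hres (hJ n)).1 (e p') := fun n y p p' h h' => by
      rw [← sub_eq_zero, ← map_sub, pqMk_eq_zero hres, ← map_sub]
      refine hker n _ ?_
      have := sub_mem h h'
      rwa [sub_sub_sub_cancel_right, ← map_sub] at this
    choose l hl using fun (y : A.carrier) (n : ℕ) => hx (n + 1) y
    choose i hi using fun y => (hlim (fun n => e (l y n)) fun n => by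
      rw [← map_sub]
      refine hker n _ ?_
      have := sub_mem (Ideal.pow_le_pow_right (Nat.le_succ (n + 1)) (hl y (n + 1))) (hl y n)
      rwa [sub_sub_sub_cancel_right, ← map_sub] at this).exists
    have hval : ∀ n y p, MvPolynomial.aeval x p - y ∈ IsLocalRing.maximalIdeal A.carrier ^ (n + 1) →
        (π n).1 (i y) = (pqMk hres (hJ n)).1 (e p) := fun n y p hp =>
      (hi y n).trans (hwd n y _ _ (hl y n) hp)
    refine ⟨{ toFun := i, map_one' := hzero _ _ fun n => ?_, map_mul' := fun y z => hzero _ _ fun n => ?_,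
              map_zero' := hzero _ _ fun n => ?_, map_add' := fun y z => hzero _ _ fun n => ?_,
              commutes' := fun c => hzero _ _ fun n => ?_ }, AlgHom.ext fun y => ?_, hval⟩
    · rw [hval n 1 1 (by rw [map_one, sub_self]; exact zero_mem _), map_one, map_one, map_one]
    · rw [map_mul, hval n (y * z) (l y n * l z n) (by
        rw [map_mul, show MvPolynomial.aeval x (l y n) * MvPolynomial.aeval x (l z n) - y * z =
          MvPolynomial.aeval x (l y n) * (MvPolynomial.aeval x (l z n) - z) +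
            (MvPolynomial.aeval x (l y n) - y) * z by ring]
        exact add_mem (Ideal.mul_mem_left _ _ (hl z n)) (Ideal.mul_mem_right _ _ (hl y n))),
        hval n y _ (hl y n), hval n z _ (hl z n), map_mul, map_mul]
    · rw [hval n 0 0 (by rw [map_zero, sub_self]; exact zero_mem _), map_zero, map_zero, map_zero]
    · rw [map_add, hval n (y + z) (l y n + l z n) (by
        rw [map_add, add_sub_add_comm]; exact add_mem (hl y n) (hl z n)),
        hval n y _ (hl y n), hval n z _ (hl z n), map_add, map_add]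
    · rw [hval n _ (algebraMap Λ _ c) (by rw [AlgHom.commutes, sub_self]; exact zero_mem _),
        AlgHom.commutes, AlgHom.commutes]
      exact ((π n).1.commutes c).symm
    · refine (homSet_res (π 0) _).symm.trans ?_
      change (pq hres (hJ 0)).res ((π 0).1 (i y)) = A.res y
      rw [hi y 0, homSet_res, hre]
      have := (cring_res_mem _).1 (Ideal.pow_le_self (Nat.succ_ne_zero _) (hl y 0))
      rwa [map_sub, sub_eq_zero] at this
  obtain ⟨i₁, hi₁, hv₁⟩ := mk_incl R N a ha e₁ hr₁ fun n p hp =>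
    Ideal.mem_sup_left (Ideal.subset_span (Or.inl (Or.inl ⟨p, hp, rfl⟩)))
  obtain ⟨i₂, hi₂, hv₂⟩ := mk_incl S N' b hb e₂ hr₂ fun n p hp =>
    Ideal.mem_sup_left (Ideal.subset_span (Or.inl (Or.inr ⟨p, hp, rfl⟩)))
  refine ⟨C, i₁, i₂, hi₁, hi₂, fun j => hzero _ _ fun n => ?_, fun T g₁ g₂ hg₁ hg₂ hg => ?_⟩
  · obtain ⟨p, hp⟩ := ha (n + 1) (r j)
    obtain ⟨q, hq⟩ := hb (n + 1) (s j)
    rw [hv₁ n _ p hp, hv₂ n _ q hq, ← sub_eq_zero, ← map_sub, pqMk_eq_zero hres]
    exact Ideal.mem_sup_left (Ideal.subset_span (Or.inr ⟨j, p, q, hp, hq, rfl⟩))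
  obtain ⟨h₀, hh₀⟩ : ∃ h₀ : MvPolynomial (Fin N ⊕ Fin N') Λ →ₐ[Λ] T.carrier,
      h₀ = MvPolynomial.aeval (Sum.elim (fun i => g₁ (a i)) fun i => g₂ (b i)) := ⟨_, rfl⟩
  have hh₁ : ∀ p, h₀ (e₁ p) = g₁ (MvPolynomial.aeval a p) := fun p => by
    refine AlgHom.congr_fun (φ₁ := h₀.comp e₁) (φ₂ := g₁.comp (MvPolynomial.aeval a))
      (MvPolynomial.algHom_ext fun i => ?_) p
    simp [he₁, hh₀]
  have hh₂ : ∀ p, h₀ (e₂ p) = g₂ (MvPolynomial.aeval b p) := fun p => by
    refine AlgHom.congr_fun (φ₁ := h₀.comp e₂) (φ₂ := g₂.comp (MvPolynomial.aeval b))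
      (MvPolynomial.algHom_ext fun i => ?_) p
    simp [he₂, hh₀]
  have hhres : T.res.comp h₀ = resP := MvPolynomial.algHom_ext fun i => by
    rcases i with i | i
    · simpa [hh₀, hresP] using AlgHom.congr_fun hg₁ (a i)
    · simpa [hh₀, hresP] using AlgHom.congr_fun hg₂ (b i)
  have hpowR : ∀ n, ∀ x ∈ IsLocalRing.maximalIdeal R.carrier ^ n,
      g₁ x ∈ IsLocalRing.maximalIdeal T.carrier ^ n := fun n x hx => by
    have := Ideal.mem_map_of_mem g₁ hx
    rw [Ideal.map_pow] at this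
    exact Ideal.pow_right_mono (map_le_of_res g₁ hg₁) _ this
  have hpowS : ∀ n, ∀ x ∈ IsLocalRing.maximalIdeal S.carrier ^ n,
      g₂ x ∈ IsLocalRing.maximalIdeal T.carrier ^ n := fun n x hx => by
    have := Ideal.mem_map_of_mem g₂ hx
    rw [Ideal.map_pow] at this
    exact Ideal.pow_right_mono (map_le_of_res g₂ hg₂) _ this
  have hkill : ∀ n, J n ≤ (IsLocalRing.maximalIdeal T.carrier ^ (n + 1)).comap h₀ := fun n => by
    refine sup_le (Ideal.span_le.2 ?_) ?_
    · rintro x ((⟨p, hp, rfl⟩ | ⟨p, hp, rfl⟩) | ⟨j, p, q, hp, hq, rfl⟩)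
      · rw [SetLike.mem_coe, Ideal.mem_comap, hh₁]; exact hpowR _ _ hp
      · rw [SetLike.mem_coe, Ideal.mem_comap, hh₂]; exact hpowS _ _ hp
      · rw [SetLike.mem_coe, Ideal.mem_comap, map_sub, hh₁, hh₂]
        have := sub_mem (hpowR _ _ hp) (hpowS _ _ hq)
        rwa [map_sub, map_sub, hg j, sub_sub_sub_cancel_right] at this
    · intro x hx
      rw [Ideal.mem_comap]
      have := Ideal.mem_map_of_mem h₀ hx
      rw [Ideal.map_pow] at this
      refine Ideal.pow_right_mono ?_ _ this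
      rw [Ideal.map_le_iff_le_comap]
      intro y hy
      rw [Ideal.mem_comap, cring_res_mem]
      exact (AlgHom.congr_fun hhres y).trans hy
  let φP : ∀ n, HomSet (MvPolynomial (Fin N ⊕ Fin N') Λ) resP (T.trunc n) := fun n =>
    ⟨(T.truncHom n).1.comp h₀, by rw [← AlgHom.comp_assoc, (T.truncHom n).2, hhres]⟩
  let t : ∀ n, pq hres (hJ n) ⟶ T.trunc n := fun n =>
    pqLift hres (hJ n) (φP n) fun x hx => (truncHom_eq_zero T n _).2 (hkill n hx)
  have ht : ∀ n p, t n ((pqMk hres (hJ n)).1 p) = (T.truncHom n).1 (h₀ p) := fun _ _ => rfl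
  obtain ⟨h, hh, hhn⟩ := exists_hom_of_compatible T (fun n => HomSet.map (t n) (π n)) fun n =>
    homSet_ext fun c => by
      obtain ⟨p, hp⟩ := pqMk_surjective hres (hJ (n + 1)) ((π (n + 1)).1 c)
      have hp' : (pqMk hres (hJ n)).1 p = (π n).1 c :=
        (congrArg (pqMap hres (hJ n) (hJ (n + 1)) (hanti n)) hp).trans
          (AlgHom.congr_fun (congrArg Subtype.val (hπc n)) c)
      change T.truncMap n (t (n + 1) ((π (n + 1)).1 c)) = t n ((π n).1 c)
      rw [← hp, ← hp', ht, ht]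
      exact AlgHom.congr_fun (congrArg Subtype.val (CRing.truncMap_truncHom T n)) _
  have hval₁ : h.comp i₁ = g₁ := cring_hom_ext T fun n y => by
    obtain ⟨p, hp⟩ := ha (n + 1) y
    change (T.truncHom n).1 (h (i₁ y)) = _
    rw [hhn]
    change t n ((π n).1 (i₁ y)) = _
    rw [hv₁ n y p hp, ht, hh₁, ← sub_eq_zero, ← map_sub, truncHom_eq_zero, ← map_sub]
    exact hpowR _ _ hp
  have hval₂ : h.comp i₂ = g₂ := cring_hom_ext T fun n y => by
    obtain ⟨p, hp⟩ := hb (n + 1) y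
    change (T.truncHom n).1 (h (i₂ y)) = _
    rw [hhn]
    change t n ((π n).1 (i₂ y)) = _
    rw [hv₂ n y p hp, ht, hh₂, ← sub_eq_zero, ← map_sub, truncHom_eq_zero, ← map_sub]
    exact hpowS _ _ hp
  refine ⟨h, ⟨hh, hval₁, hval₂⟩, fun h' ⟨hh', hh'₁, hh'₂⟩ => ?_⟩
  obtain ⟨ι', hι⟩ : ∃ ι' : MvPolynomial (Fin N ⊕ Fin N') Λ →ₐ[Λ] C.carrier,
      ι' = MvPolynomial.aeval (Sum.elim (fun i => i₁ (a i)) fun i => i₂ (b i)) := ⟨_, rfl⟩
  have hπι : ∀ q p, (π q).1 (ι' p) = (pqMk hres (hJ q)).1 p := fun q p => by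
    refine AlgHom.congr_fun (φ₁ := (π q).1.comp ι') (φ₂ := (pqMk hres (hJ q)).1)
      (MvPolynomial.algHom_ext fun i => ?_) p
    rcases i with i | i
    · simp only [AlgHom.comp_apply, hι, MvPolynomial.aeval_X, Sum.elim_inl]
      rw [hv₁ q (a i) (MvPolynomial.X i) (by rw [MvPolynomial.aeval_X, sub_self]; exact zero_mem _), he₁]
    · simp only [AlgHom.comp_apply, hι, MvPolynomial.aeval_X, Sum.elim_inr]
      rw [hv₂ q (b i) (MvPolynomial.X i) (by rw [MvPolynomial.aeval_X, sub_self]; exact zero_mem _), he₂]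
  have hagree : h'.comp ι' = h.comp ι' := MvPolynomial.algHom_ext fun i => by
    rcases i with i | i
    · simp only [AlgHom.comp_apply, hι, MvPolynomial.aeval_X, Sum.elim_inl]
      exact (AlgHom.congr_fun hh'₁ _).trans (AlgHom.congr_fun hval₁ _).symm
    · simp only [AlgHom.comp_apply, hι, MvPolynomial.aeval_X, Sum.elim_inr]
      exact (AlgHom.congr_fun hh'₂ _).trans (AlgHom.congr_fun hval₂ _).symm
  refine cring_hom_ext T fun n c => ?_
  obtain ⟨q, hq⟩ := hπn (n + 1)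
  obtain ⟨p, hp⟩ := pqMk_surjective hres (hJ q) ((π q).1 c)
  have hc : c - ι' p ∈ IsLocalRing.maximalIdeal C.carrier ^ (n + 1) := hq (by
    rw [RingHom.mem_ker, map_sub, sub_eq_zero, hπι]
    exact hp.symm)
  have key : ∀ f : C.carrier →ₐ[Λ] T.carrier, T.res.comp f = C.res →
      (T.truncHom n).1 (f c) = (T.truncHom n).1 (f (ι' p)) := fun f hf => by
    rw [← sub_eq_zero, ← map_sub, truncHom_eq_zero, ← map_sub]
    have := Ideal.mem_map_of_mem f hc
    rw [Ideal.map_pow] at this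
    exact Ideal.pow_right_mono (map_le_of_res f hf) _ this
  rw [key h' hh', key h hh]
  exact congrArg (T.truncHom n).1 (AlgHom.congr_fun hagree p)

end ArtLib
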