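import Groth.Agent.ArtLib.SmallExt

/-!
# Surjectivity criteria, small extensions as one-dimensional spaces
-/

set_option autoImplicit false

universe u v

open CategoryTheory

namespace ArtLib

open ArtFun ArtFun.Art

theorem eq_top_of_nilpotent_smul {R M : Type*} [CommRing R] [AddCommGroup M] [Module R M]
    {I : Ideal R} (hI : IsNilpotent I) (N : Submodule R M) (h : (⊤ : Submodule R M) ≤ N ⊔ I • ⊤) :
    N = ⊤ := by
  obtain ⟨n, hn⟩ := hI
  have : ∀ i : ℕ, (⊤ : Submodule R M) ≤ N ⊔ (I ^ i) • ⊤ := by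
    intro i
    induction i with
    | zero => rw [pow_zero, Ideal.one_eq_top, Submodule.top_smul]; exact le_sup_right
    | succ i ih =>
      refine ih.trans (sup_le le_sup_left ((smul_mono_right _ h).trans ?_))
      rw [Submodule.smul_sup, ← Submodule.mul_smul, ← pow_succ]
      exact sup_le_sup_right Submodule.smul_le_right _
  have h' := this n
  rw [hn, Submodule.zero_eq_bot, Submodule.bot_smul, sup_bot_eq] at h'
  exact top_le_iff.1 h'

variable {Λ : Type u} {k : Type u} [CommRing Λ] [Field k] [Algebra Λ k]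

theorem map_maximalIdeal_of_surjective {A B : Art Λ k} (f : A ⟶ B) (hf : Function.Surjective f) :
    Ideal.map f.toAlgHom (IsLocalRing.maximalIdeal A) = IsLocalRing.maximalIdeal B := by
  refine le_antisymm (map_res_le f) fun b hb => ?_
  obtain ⟨a, rfl⟩ := hf b
  exact Ideal.mem_map_of_mem _ ((Art.mem_maximalIdeal_iff _ _).2
    ((Art.res_app f a).symm.trans ((Art.mem_maximalIdeal_iff _ _).1 hb)))

theorem surjective_of_cotangent {A B : Art Λ k} (f : A ⟶ B)
    (h : IsLocalRing.maximalIdeal B ≤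
      Ideal.map f.toAlgHom (IsLocalRing.maximalIdeal A) ⊔ IsLocalRing.maximalIdeal B ^ 2) :
    Function.Surjective f := by
  have h1 : Ideal.map f.toAlgHom (IsLocalRing.maximalIdeal A) = IsLocalRing.maximalIdeal B := by
    refine le_antisymm (map_res_le f) ?_
    obtain ⟨n, hn⟩ := isNilpotent_maximalIdeal B
    have key : ∀ i : ℕ, IsLocalRing.maximalIdeal B ≤
        Ideal.map f.toAlgHom (IsLocalRing.maximalIdeal A) ⊔ IsLocalRing.maximalIdeal B ^ (i + 1) := by
      intro i
      induction i with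
      | zero => rw [pow_one]; exact le_sup_right
      | succ i ih =>
        refine ih.trans (sup_le le_sup_left ?_)
        rw [pow_succ]
        refine (Ideal.mul_mono_right h).trans ?_
        rw [Ideal.mul_sup, ← pow_add]
        exact sup_le (Ideal.mul_le_right.trans le_sup_left) le_sup_right
    refine (key n).trans ?_
    rw [pow_succ, hn, zero_mul, Submodule.zero_eq_bot, sup_bot_eq]
  let alg : Algebra A B := f.toAlgHom.toRingHom.toAlgebra
  have hN : LinearMap.range (Algebra.linearMap A B) = ⊤ := by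
    refine eq_top_of_nilpotent_smul (isNilpotent_maximalIdeal A) _ fun b _ => ?_
    rw [Ideal.smul_top_eq_map]
    obtain ⟨a, ha⟩ := A.res_surjective (B.res b)
    have hb : b - f a ∈ IsLocalRing.maximalIdeal B := by
      rw [Art.mem_maximalIdeal_iff, map_sub, Art.res_app, ha, sub_self]
    rw [← h1] at hb
    exact Submodule.mem_sup.2 ⟨f a, LinearMap.mem_range.2 ⟨a, rfl⟩, b - f a, hb,
      add_sub_cancel _ _⟩
  exact fun b => LinearMap.mem_range.1 (hN ▸ Submodule.mem_top : b ∈ _)

/-- Kernel elements of a small extension are residue multiples of a generator. -/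
theorem smallExt_mul_eq {A B : Art Λ k} {f : B ⟶ A}
    (hm : IsLocalRing.maximalIdeal B * RingHom.ker f.toAlgHom = ⊥) {t : B} (ht : f t = 0)
    {c c' : B} (hc : B.res c = B.res c') : c * t = c' * t := by
  have h : c - c' ∈ IsLocalRing.maximalIdeal B := by
    rw [Art.mem_maximalIdeal_iff, map_sub, hc, sub_self]
  have := Ideal.mul_mem_mul h (show t ∈ RingHom.ker f.toAlgHom from ht)
  rw [hm, Ideal.mem_bot, sub_mul, sub_eq_zero] at this
  exact this

theorem smallExt_range_dichotomy {A B C : Art Λ k} {f : B ⟶ A} (hf : IsSmallExt f) (g : C ⟶ B)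
    (hg : Function.Surjective (g ≫ f)) (hns : ¬ Function.Surjective g) :
    ∀ c : C, f (g c) = 0 → g c = 0 := by
  obtain ⟨-, -, ⟨⟨t, ht⟩⟩, hm⟩ := hf
  replace ht : RingHom.ker f.toAlgHom = Ideal.span {t} := ht
  intro c hc
  by_contra hne
  have htk : f t = 0 := (ht ▸ Ideal.mem_span_singleton_self t : t ∈ RingHom.ker f.toAlgHom)
  obtain ⟨u, hu⟩ := Ideal.mem_span_singleton.1 (ht ▸ hc : g c ∈ Ideal.span {t})
  have hu0 : B.res u ≠ 0 := fun h0 => hne (by
    rw [hu, mul_comm, smallExt_mul_eq hm htk (h0.trans (map_zero B.res).symm), zero_mul])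
  have hgt : ∃ x, g x = t := by
    obtain ⟨e, he⟩ := C.res_surjective (B.res u)⁻¹
    refine ⟨e * c, ?_⟩
    rw [map_mul, hu, mul_comm t u, ← mul_assoc,
      smallExt_mul_eq hm htk (c' := 1) (by rw [map_mul, Art.res_app, he, inv_mul_cancel₀ hu0, map_one]),
      one_mul]
  obtain ⟨x, hx⟩ := hgt
  refine hns fun b => ?_
  obtain ⟨y, hy⟩ := hg (f b)
  obtain ⟨v, hv⟩ := Ideal.mem_span_singleton.1
    (ht ▸ (show f (b - g y) = 0 by rw [map_sub, sub_eq_zero]; exact hy.symm) : b - g y ∈ Ideal.span {t})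
  obtain ⟨z, hz⟩ := C.res_surjective (B.res v)
  refine ⟨y + z * x, ?_⟩
  rw [map_add, map_mul, hx, smallExt_mul_eq hm htk (c' := v) (by rw [Art.res_app, hz]),
    mul_comm v t, ← hv, add_sub_cancel]

theorem exists_section_iff_not_essential {A B : Art Λ k} {f : B ⟶ A} (hf : IsSmallExt f) :
    (∃ (C : Art Λ k) (g : C ⟶ B), Function.Surjective (g ≫ f) ∧ ¬ Function.Surjective g) ↔
      ∃ s : A ⟶ B, s ≫ f = 𝟙 A := by
  constructor
  · rintro ⟨C, g, hg, hns⟩
    have hz := smallExt_range_dichotomy hf g hg hns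
    let q := quotLift (ker_le_maximalIdeal (g ≫ f)) (g ≫ f) (fun _ ha => ha)
    have hq : Function.Bijective q := by
      refine ⟨(injective_iff_map_eq_zero q.toAlgHom).2 fun x hx => ?_, fun a => ?_⟩
      · obtain ⟨c, rfl⟩ := quotMk_surjective C _ (ker_le_maximalIdeal (g ≫ f)) x
        exact quotMk_eq_zero.2 hx
      · obtain ⟨c, rfl⟩ := hg a
        exact ⟨quotMk C _ _ c, rfl⟩
    have := (isIso_iff_bijective q).2 hq
    refine ⟨inv q ≫ quotLift (ker_le_maximalIdeal (g ≫ f)) g (fun a ha => hz a ha), ?_⟩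
    rw [Category.assoc, IsIso.inv_comp_eq, Category.comp_id]
    exact hom_ext' fun x => by
      obtain ⟨c, rfl⟩ := quotMk_surjective C _ (ker_le_maximalIdeal (g ≫ f)) x
      rfl
  · rintro ⟨s, hs⟩
    refine ⟨A, s, ?_, fun hss => hf.2.1 ?_⟩
    · rw [hs]; exact fun a => ⟨a, rfl⟩
    · refine eq_bot_iff.2 fun b hb => ?_
      obtain ⟨a, rfl⟩ := hss b
      have : a = 0 := (hom_congr hs a).symm.trans hb
      rw [Ideal.mem_bot, this, map_zero]

end ArtLib
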