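import Groth.Agent.ArtLib.Torsor

/-!
# Functorial odds and ends
-/

set_option autoImplicit false

universe u v

open CategoryTheory CategoryTheory.Limits

namespace ArtLib

open ArtFun ArtFun.Art

variable {Λ : Type u} {k : Type u} [CommRing Λ] [Field k] [Algebra Λ k]

variable {F G H : Art Λ k ⥤ Type v}

theorem isPullback_app (η : F ⟶ G) (θ : H ⟶ G) (A : Art Λ k) :
    IsPullback ((pullback.fst η θ).app A) ((pullback.snd η θ).app A) (η.app A) (θ.app A) :=
  (IsPullback.of_hasPullback η θ).map ((evaluation _ _).obj A)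

theorem pullback_exists (η : F ⟶ G) (θ : H ⟶ G) (A : Art Λ k) (x : F.obj A) (y : H.obj A)
    (e : η.app A x = θ.app A y) :
    ∃ z, (pullback.fst η θ).app A z = x ∧ (pullback.snd η θ).app A z = y :=
  Types.exists_of_isPullback (isPullback_app η θ A) x y e

theorem pullback_w (η : F ⟶ G) (θ : H ⟶ G) (A : Art Λ k) (z : (pullback η θ).obj A) :
    η.app A ((pullback.fst η θ).app A z) = θ.app A ((pullback.snd η θ).app A z) :=
  ConcreteCategory.congr_hom (NatTrans.congr_app (pullback.condition (f := η) (g := θ)) A) z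

theorem pullback_ext (η : F ⟶ G) (θ : H ⟶ G) (A : Art Λ k) {z z' : (pullback η θ).obj A}
    (h₁ : (pullback.fst η θ).app A z = (pullback.fst η θ).app A z')
    (h₂ : (pullback.snd η θ).app A z = (pullback.snd η θ).app A z') : z = z' :=
  Types.ext_of_isPullback (isPullback_app η θ A) h₁ h₂

theorem prod_bijective (F G : Art Λ k ⥤ Type v) (A : Art Λ k) :
    Function.Bijective (fun z : (F ⨯ G).obj A =>
      (((prod.fst : F ⨯ G ⟶ F).app A z, (prod.snd : F ⨯ G ⟶ G).app A z) : F.obj A × G.obj A)) := by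
  let e := asIso (prodComparison ((evaluation (Art Λ k) (Type v)).obj A) F G) ≪≫
    Types.binaryProductIso _ _
  have he : Function.Bijective e.hom := (CategoryTheory.isIso_iff_bijective e.hom).1 inferInstance
  have h1 : e.hom ≫ ↾_root_.Prod.fst = (prod.fst : F ⨯ G ⟶ F).app A := by
    rw [Iso.trans_hom, Category.assoc, Types.binaryProductIso_hom_comp_fst, asIso_hom,
      prodComparison_fst]
    rfl
  have h2 : e.hom ≫ ↾_root_.Prod.snd = (prod.snd : F ⨯ G ⟶ G).app A := by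
    rw [Iso.trans_hom, Category.assoc, Types.binaryProductIso_hom_comp_snd, asIso_hom,
      prodComparison_snd]
    rfl
  have hz : (fun z : (F ⨯ G).obj A => (((prod.fst : F ⨯ G ⟶ F).app A z,
      (prod.snd : F ⨯ G ⟶ G).app A z) : F.obj A × G.obj A)) = fun z => e.hom z :=
    funext fun z => Prod.ext (ConcreteCategory.congr_hom h1 z).symm
      (ConcreteCategory.congr_hom h2 z).symm
  rw [hz]
  exact he

theorem prod_nat_fst (F G : Art Λ k ⥤ Type v) {A B : Art Λ k} (f : A ⟶ B) (z : (F ⨯ G).obj A) :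
    (prod.fst : F ⨯ G ⟶ F).app B ((F ⨯ G).map f z) = F.map f ((prod.fst : F ⨯ G ⟶ F).app A z) :=
  nat_app _ f z

/-- Surjectivity of `Λ → k` from a section. -/
theorem surjective_algebraMap_of_tower (k Λ : Type u) [Field k] [CommRing Λ] [Algebra k Λ]
    [Algebra Λ k] [IsScalarTower k Λ k] : Function.Surjective (algebraMap Λ k) :=
  fun c => ⟨algebraMap k Λ c, (IsScalarTower.algebraMap_apply k Λ k c).symm⟩

theorem finite_of_surjective (hk : Function.Surjective (algebraMap Λ k)) : Module.Finite Λ k :=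
  Module.Finite.of_surjective (Algebra.linearMap Λ k) hk

theorem isSmoothFunctor_iff_of_isSmoothMap {G : Art Λ k ⥤ Type v} {F : Art Λ k ⥤ Type u}
    (η : NatMap F G) (hη : IsSmoothMap η) (h0 : Function.Surjective (η.app (base Λ k))) :
    IsSmoothFunctor F ↔ IsSmoothFunctor G := by
  constructor
  · intro hF B A μ hμ y
    obtain ⟨x, rfl⟩ := surjective_of_isSmoothMap η hη h0 A y
    obtain ⟨z, rfl⟩ := hF μ hμ x
    exact ⟨η.app B z, (η.nat μ z).symm⟩
  · intro hG B A μ hμ x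
    obtain ⟨y, hy⟩ := hG μ hμ (η.app A x)
    obtain ⟨z, hz, -⟩ := hη μ hμ x y hy.symm
    exact ⟨z, hz⟩

theorem isSmoothFunctor_iff_of_isSmoothMap_same {F G : Art Λ k ⥤ Type v}
    (η : NatMap F G) (hη : IsSmoothMap η) (h0 : Function.Surjective (η.app (base Λ k))) :
    IsSmoothFunctor F ↔ IsSmoothFunctor G := by
  constructor
  · intro hF B A μ hμ y
    obtain ⟨x, rfl⟩ := surjective_of_isSmoothMap η hη h0 A y
    obtain ⟨z, rfl⟩ := hF μ hμ x
    exact ⟨η.app B z, (η.nat μ z).symm⟩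
  · intro hG B A μ hμ x
    obtain ⟨y, hy⟩ := hG μ hμ (η.app A x)
    obtain ⟨z, hz, -⟩ := hη μ hμ x y hy.symm
    exact ⟨z, hz⟩

theorem isSmoothMap_ofNat (η : F ⟶ G) : IsSmoothMap (NatMap.ofNat η) ↔ IsSmooth η :=
  ⟨fun h _ _ μ hμ => (relCmp_surjective_iff η μ).2 (h μ hμ),
    fun h _ _ μ hμ => (relCmp_surjective_iff η μ).1 (h μ hμ)⟩

/-- `H₁` for a functor with a versal family. -/
theorem s1_of_versal {R : Type u} [CommRing R] [Algebra Λ R] {resR : R →ₐ[Λ] k}
    {F : Art Λ k ⥤ Type v} (ξ : Family R resR F) (hξ : IsVersal ξ)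
    (hsurj : ∀ A, Function.Surjective (ξ.app A)) : S1 F := by
  intro B A A' A'' p' p'' f' f'' h hf
  refine (cmp_surjective_iff F h).2 fun x y e => ?_
  obtain ⟨φ', rfl⟩ := hsurj A' x
  obtain ⟨φ'', h₁, h₂⟩ := hξ f'' hf (HomSet.map f' φ') y (e.symm.trans (ξ.natural f' φ').symm)
  obtain ⟨ψ, ⟨hp', hp''⟩, -⟩ := exists_homSet_pair h φ' φ'' h₁.symm
  exact ⟨ξ.app B ψ, by rw [← ξ.natural, hp'], by rw [← ξ.natural, hp'', h₂]⟩

/-- `H₂` for a functor with a miniversal family. -/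
theorem heps_of_miniversal {R : Type u} [CommRing R] [Algebra Λ R] {resR : R →ₐ[Λ] k}
    {F : Art Λ k ⥤ Type v} (ξ : Family R resR F) (hξ : IsMiniversal ξ)
    (hsurj : ∀ A, Function.Surjective (ξ.app A)) : Heps F := by
  intro B A' p' p'' h
  refine ⟨(cmp_injective_iff F h).2 fun z z' e₁ e₂ => ?_, s1_of_versal ξ hξ.1 hsurj _ _ _ _ h
    (toBase_surjective _)⟩
  have hp := fp_fst_surjective h (toBase_surjective (dual Λ k))
  obtain ⟨φ, hφ⟩ := hsurj A' (F.map p' z)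
  obtain ⟨ψ, h₁, h₂⟩ := hξ.1 p' hp φ z hφ.symm
  obtain ⟨ψ', h₁', h₂'⟩ := hξ.1 p' hp φ z' (by rw [hφ, e₁])
  obtain ⟨ψ₀, -, huniq⟩ := exists_homSet_pair (resR := resR) h φ (HomSet.map p'' ψ)
    (homSet_subsingleton_base.elim _ _)
  rw [← h₂, ← h₂', huniq ψ ⟨h₁, rfl⟩, huniq ψ' ⟨h₁', hξ.2.1 ?_⟩]
  rw [ξ.natural, ξ.natural, h₂, h₂', e₂]

theorem h0_of_versal {R : Type u} [CommRing R] [Algebra Λ R] {resR : R →ₐ[Λ] k}
    {F : Art Λ k ⥤ Type v} (ξ : Family R resR F)
    (hsurj : Function.Surjective (ξ.app (base Λ k))) : H0 F :=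
  ⟨⟨ξ.app _ ⟨resR, AlgHom.id_comp _⟩⟩, ⟨fun x y => by
    obtain ⟨φ, rfl⟩ := hsurj x
    obtain ⟨ψ, rfl⟩ := hsurj y
    rw [homSet_subsingleton_base.elim φ ψ]⟩⟩

theorem surjective_app_of_versal {R : Type u} [CommRing R] [Algebra Λ R] {resR : R →ₐ[Λ] k}
    {F : Art Λ k ⥤ Type v} (h0 : H0 F) (ξ : Family R resR F) (hξ : IsVersal ξ) (A : Art Λ k) :
    Function.Surjective (ξ.app A) := fun y => by
  obtain ⟨ψ, -, hψ⟩ := hξ (toBase A) (toBase_surjective A) ⟨resR, AlgHom.id_comp _⟩ y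
    (h0.2.elim _ _)
  exact ⟨ψ, hψ⟩

end ArtLib
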