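import Groth.Agent.ArtLib.CRingHom

/-!
# Essential surjections
-/

set_option autoImplicit false

universe u v

open CategoryTheory
open scoped TensorProduct

namespace ArtLib

open ArtFun ArtFun.Art

variable {Λ : Type u} {k : Type u} [CommRing Λ] [Field k] [Algebra Λ k]

/-- The ideal `m_Λ A + m_A²`. -/
def relSq (A : Art Λ k) : Ideal A :=
  Ideal.map (algebraMap Λ A) (RingHom.ker (algebraMap Λ k)) ⊔ IsLocalRing.maximalIdeal A ^ 2

theorem relSq_le (A : Art Λ k) : relSq A ≤ IsLocalRing.maximalIdeal A := by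
  refine sup_le (Ideal.map_le_iff_le_comap.2 fun r hr => ?_) (Ideal.pow_le_self two_ne_zero)
  rw [Ideal.mem_comap, Art.mem_maximalIdeal_iff, AlgHom.commutes]
  exact hr

theorem map_relSq_le {A B : Art Λ k} (f : B ⟶ A) : Ideal.map f.toAlgHom (relSq B) ≤ relSq A := by
  rw [relSq, Ideal.map_sup, Ideal.map_pow]
  refine sup_le_sup (Ideal.map_le_iff_le_comap.2 (Ideal.map_le_iff_le_comap.2 fun r hr => ?_))
    (Ideal.pow_right_mono (map_res_le f) 2)
  rw [Ideal.mem_comap, Ideal.mem_comap, AlgHom.commutes]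
  exact Ideal.mem_map_of_mem _ hr

theorem relSq_map_of_surjective {A B : Art Λ k} (f : B ⟶ A) (hf : Function.Surjective f) :
    Ideal.map f.toAlgHom (relSq B) = relSq A := by
  rw [relSq, relSq, Ideal.map_sup, Ideal.map_pow, map_maximalIdeal_of_surjective f hf]
  congr 1
  refine le_antisymm (Ideal.map_le_iff_le_comap.2 (Ideal.map_le_iff_le_comap.2 fun r hr => ?_))
    (Ideal.map_le_iff_le_comap.2 fun r hr => ?_)
  · rw [Ideal.mem_comap, Ideal.mem_comap, AlgHom.commutes]
    exact Ideal.mem_map_of_mem _ hr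
  · rw [Ideal.mem_comap, ← f.toAlgHom.commutes r]
    exact Ideal.mem_map_of_mem _ (Ideal.mem_map_of_mem _ hr)

theorem surjective_of_relSq {B C : Art Λ k} (g : C ⟶ B)
    (h : IsLocalRing.maximalIdeal B ≤
      Ideal.map g.toAlgHom (IsLocalRing.maximalIdeal C) ⊔ relSq B) : Function.Surjective g := by
  refine surjective_of_cotangent g (h.trans (sup_le le_sup_left (sup_le ?_ le_sup_right)))
  refine (Ideal.map_le_iff_le_comap.2 fun r hr => ?_ : _ ≤ Ideal.map g.toAlgHom _).trans le_sup_left
  rw [Ideal.mem_comap, ← g.toAlgHom.commutes r]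
  exact Ideal.mem_map_of_mem _ ((Art.mem_maximalIdeal_iff _ _).2 ((C.res.commutes r).trans hr))

theorem surjective_of_comp_quot {B B' C : Art Λ k} (g : C ⟶ B) (q : B ⟶ B')
    (hq : RingHom.ker q.toAlgHom ≤ relSq B) (h : Function.Surjective (g ≫ q)) :
    Function.Surjective g := by
  refine surjective_of_relSq g fun b hb => ?_
  obtain ⟨c, hc⟩ := h (q b)
  have hc' : g c - b ∈ RingHom.ker q.toAlgHom := by
    rw [RingHom.mem_ker, map_sub, sub_eq_zero]
    exact hc
  have hcm : c ∈ IsLocalRing.maximalIdeal C := by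
    rw [Art.mem_maximalIdeal_iff, ← Art.res_app (g ≫ q), hc, Art.res_app]
    exact (Art.mem_maximalIdeal_iff _ _).1 hb
  exact Submodule.mem_sup.2 ⟨g c, Ideal.mem_map_of_mem _ hcm, b - g c,
    hq (by rw [← neg_sub]; exact neg_mem hc'), add_sub_cancel _ _⟩

/-- Essential surjections. -/
def IsEss {A B : Art Λ k} (f : B ⟶ A) : Prop :=
  Function.Surjective f ∧
    ∀ (C : Art Λ k) (g : C ⟶ B), Function.Surjective (g ≫ f) → Function.Surjective g

theorem ess_iff_quot [IsNoetherianRing Λ] [Module.Finite Λ k] {A B A' B' : Art Λ k} (f : B ⟶ A)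
    (qB : B ⟶ B') (hqB : Function.Surjective qB) (hkB : RingHom.ker qB.toAlgHom ≤ relSq B)
    (qA : A ⟶ A') (hqA : Function.Surjective qA) (hkA : RingHom.ker qA.toAlgHom ≤ relSq A)
    (f' : B' ⟶ A') (hf' : qB ≫ f' = f ≫ qA) : IsEss f ↔ IsEss f' := by
  constructor
  · rintro ⟨hs, he⟩
    refine ⟨fun a => ?_, fun C g hg b' => ?_⟩
    · obtain ⟨a, rfl⟩ := hqA a
      obtain ⟨b, rfl⟩ := hs a
      exact ⟨qB b, hom_congr hf' b⟩
    · obtain ⟨D, p₁, p₂, hD⟩ := exists_fp g qB hqB
      have h1 : Function.Surjective (p₂ ≫ f) := by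
        refine surjective_of_comp_quot _ qA hkA fun a' => ?_
        obtain ⟨c, rfl⟩ := hg a'
        obtain ⟨b, hb⟩ := hqB (g c)
        obtain ⟨d, -, hd⟩ := hD.surj c b hb.symm
        refine ⟨d, ?_⟩
        change qA (f (p₂ d)) = f' (g c)
        rw [hd, ← hb]
        exact (hom_congr hf' b).symm
      obtain ⟨b, rfl⟩ := hqB b'
      obtain ⟨d, rfl⟩ := he D p₂ h1 b
      exact ⟨p₁ d, hD.w_apply d⟩
  · rintro ⟨hs, he⟩
    refine ⟨surjective_of_comp_quot f qA hkA ?_, fun C g hg => ?_⟩
    · rw [← hf']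
      exact hs.comp hqB
    · refine surjective_of_comp_quot g qB hkB (he C (g ≫ qB) ?_)
      rw [Category.assoc, hf', ← Category.assoc]
      exact hqA.comp hg

theorem snd_hom_mul {B : Art Λ k} (g : B ⟶ dual Λ k) (x y : B) :
    TrivSqZeroExt.snd (g (x * y)) =
      B.res x * TrivSqZeroExt.snd (g y) + B.res y * TrivSqZeroExt.snd (g x) := by
  have hx : TrivSqZeroExt.fst (g x) = B.res x := Art.res_app g x
  have hy : TrivSqZeroExt.fst (g y) = B.res y := Art.res_app g y
  rw [map_mul, ← hx, ← hy]
  exact (TrivSqZeroExt.snd_mul (g x : TrivSqZeroExt k k) (g y)).trans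
    (by rw [op_smul_eq_smul]; rfl)

theorem snd_hom_add {B : Art Λ k} (g : B ⟶ dual Λ k) (x y : B) :
    TrivSqZeroExt.snd (g (x + y)) = TrivSqZeroExt.snd (g x) + TrivSqZeroExt.snd (g y) := by
  rw [map_add]
  exact TrivSqZeroExt.snd_add (g x : TrivSqZeroExt k k) (g y)

theorem exists_hom_factor {A B C : Art Λ k} (f : B ⟶ A) (hf : Function.Surjective f) (g : B ⟶ C)
    (h : ∀ x, f x = 0 → g x = 0) : ∃ σ : A ⟶ C, f ≫ σ = g := by
  let q := quotLift (ker_le_maximalIdeal f) f (fun _ ha => ha)
  have hq : Function.Bijective q := by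
    refine ⟨(injective_iff_map_eq_zero q.toAlgHom).2 fun x hx => ?_, fun a => ?_⟩
    · obtain ⟨c, rfl⟩ := quotMk_surjective B _ (ker_le_maximalIdeal f) x
      exact quotMk_eq_zero.2 hx
    · obtain ⟨c, rfl⟩ := hf a
      exact ⟨quotMk B _ _ c, rfl⟩
  have := (isIso_iff_bijective q).2 hq
  refine ⟨inv q ≫ quotLift (ker_le_maximalIdeal f) g (fun a ha => h a ha), ?_⟩
  have hfq : f = quotMk B _ (ker_le_maximalIdeal f) ≫ q :=
    (quotMk_comp_quotLift (ker_le_maximalIdeal f) f (fun _ ha => ha)).symm
  calc f ≫ inv q ≫ quotLift (ker_le_maximalIdeal f) g (fun a ha => h a ha)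
      = (quotMk B _ (ker_le_maximalIdeal f) ≫ q) ≫ inv q ≫
          quotLift (ker_le_maximalIdeal f) g (fun a ha => h a ha) := by rw [← hfq]
    _ = g := by
      rw [Category.assoc, IsIso.hom_inv_id_assoc]
      exact quotMk_comp_quotLift _ _ _

theorem ess_iff_dual [IsNoetherianRing Λ] [Module.Finite Λ k] {A B : Art Λ k} (f : B ⟶ A) :
    IsEss f ↔ Function.Surjective f ∧
      ∀ (g : B ⟶ dual Λ k) (x : B), f x = 0 → TrivSqZeroExt.snd (g x) = 0 := by
  constructor
  · rintro ⟨hs, he⟩
    refine ⟨hs, fun g x hx => ?_⟩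
    by_contra hne
    have hx0 : B.res x = 0 :=
      (Art.res_app f x).symm.trans ((congrArg A.res hx).trans (map_zero _))
    have hgs : Function.Surjective g := fun z => by
      obtain ⟨c, hc⟩ := B.res_surjective (TrivSqZeroExt.fst z)
      obtain ⟨d, hd⟩ := B.res_surjective
        ((TrivSqZeroExt.snd z - TrivSqZeroExt.snd (g c)) / TrivSqZeroExt.snd (g x))
      refine ⟨c + d * x, TrivSqZeroExt.ext ?_ ?_⟩
      · refine (Art.res_app g _).trans ?_
        rw [map_add, map_mul, hx0, mul_zero, add_zero, hc]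
      · rw [snd_hom_add, snd_hom_mul, hx0, hd, zero_mul, add_zero, div_mul_cancel₀ _ hne,
          add_sub_cancel]
    obtain ⟨D, p₁, p₂, hD⟩ := exists_fp (baseToDual (Λ := Λ) (k := k)) g hgs
    have h1 : Function.Surjective (p₂ ≫ f) := fun a => by
      obtain ⟨b, rfl⟩ := hs a
      obtain ⟨d, hd⟩ := B.res_surjective (TrivSqZeroExt.snd (g b) / TrivSqZeroExt.snd (g x))
      obtain ⟨z, -, hz⟩ := hD.surj (B.res b) (b - d * x) (by
        refine TrivSqZeroExt.ext ?_ ?_
        · refine Eq.symm ((Art.res_app g _).trans ?_)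
          rw [map_sub, map_mul, hx0, mul_zero, sub_zero]
          rfl
        · have h := snd_hom_add g (b - d * x) (d * x)
          rw [sub_add_cancel, snd_hom_mul g d x, hx0, hd, zero_mul, add_zero,
            div_mul_cancel₀ _ hne] at h
          exact (add_eq_right.1 h.symm).symm)
      refine ⟨z, ?_⟩
      change f (p₂ z) = f b
      rw [hz, map_sub, map_mul, hx, mul_zero, sub_zero]
    obtain ⟨z, rfl⟩ := he D p₂ h1 x
    refine hne ?_
    rw [← hD.w_apply z]
    rfl
  · rintro ⟨hs, hd⟩
    refine ⟨hs, fun C g hg => surjective_of_hom_dual g fun τ τ' e => ?_⟩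
    have hd' : ∀ (t : B ⟶ dual Λ k) x, f x = 0 → t x = 0 := fun t x hx =>
      TrivSqZeroExt.ext ((Art.res_app t x).trans ((Art.res_app f x).symm.trans
        ((congrArg A.res hx).trans (map_zero _)))) (hd t x hx)
    obtain ⟨σ, rfl⟩ := exists_hom_factor f hs τ (hd' τ)
    obtain ⟨σ', rfl⟩ := exists_hom_factor f hs τ' (hd' τ')
    congr 1
    refine hom_ext' fun a => ?_
    obtain ⟨c, rfl⟩ := hg a
    exact hom_congr e c

section Kaehler

variable {B : Art Λ k}

theorem exists_hom_of_derivation (D : B →ₗ[Λ] k)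
    (h1 : D 1 = 0) (hD : ∀ x y, D (x * y) = B.res x * D y + B.res y * D x) :
    ∃ g : B ⟶ dual Λ k, ∀ b, TrivSqZeroExt.snd (g b) = D b := by
  obtain ⟨φ, hφ⟩ : ∃ φ : B →ₐ[Λ] TrivSqZeroExt k k,
      ∀ b, φ b = TrivSqZeroExt.inl (B.res b) + TrivSqZeroExt.inr (D b) := by
    refine ⟨AlgHom.ofLinearMap
      { toFun := fun b => TrivSqZeroExt.inl (B.res b) + TrivSqZeroExt.inr (D b)
        map_add' := fun x y => TrivSqZeroExt.ext (by simp) (by simp)
        map_smul' := fun c x => TrivSqZeroExt.ext (by simp) (by simp) } ?_ ?_, fun _ => rfl⟩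
    · exact TrivSqZeroExt.ext (by simp) (by simp [h1])
    · exact fun x y => TrivSqZeroExt.ext (by simp) (by simp [hD, mul_comm])
  refine ⟨Art.homMk (A := B) (B := dual Λ k) φ (AlgHom.ext fun b => ?_), fun b => ?_⟩
  · change TrivSqZeroExt.fst (φ b) = B.res b
    simp [hφ]
  · change TrivSqZeroExt.snd (φ b) = D b
    simp [hφ]

end Kaehler

theorem surjective_iff_kaehler {A B : Art Λ k} (f : B ⟶ A) :
    letI : Algebra B A := f.toAlgHom.toRingHom.toAlgebra
    letI : Algebra A k := A.res.toRingHom.toAlgebra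
    Function.Surjective f ↔ Subsingleton (k ⊗[A] Ω[A⁄B]) := by
  let : Algebra B A := f.toAlgHom.toRingHom.toAlgebra
  let : Algebra A k := A.res.toRingHom.toAlgebra
  constructor
  · intro h
    have : Subsingleton (Ω[A⁄B]) := KaehlerDifferential.subsingleton_of_surjective B A h
    exact inferInstance
  · intro hsub
    refine surjective_of_hom_dual f fun g g' e => ?_
    have heq : ∀ b : B, g (f b) = g' (f b) := hom_congr e
    let : Module A k := Algebra.toModule
    have hsm : ∀ (a : A) (c : k), a • c = A.res a * c := fun _ _ => rfl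
    let D₀ : A → k := fun a => TrivSqZeroExt.snd (g a) - TrivSqZeroExt.snd (g' a)
    have hD₀ : ∀ b, D₀ (f b) = 0 := fun b => by simp only [D₀, heq, sub_self]
    have hD₀m : ∀ x y, D₀ (x * y) = A.res x * D₀ y + A.res y * D₀ x := fun x y => by
      simp only [D₀, snd_hom_mul]; ring
    have hD₀a : ∀ x y, D₀ (x + y) = D₀ x + D₀ y := fun x y => by
      simp only [D₀, snd_hom_add]; ring
    let : Algebra B k := (A.res.toRingHom.comp f.toAlgHom.toRingHom).toAlgebra
    have : IsScalarTower B A k := IsScalarTower.of_algebraMap_eq fun _ => rfl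
    let D : Derivation B A k :=
      Derivation.mk'
        { toFun := D₀
          map_add' := hD₀a
          map_smul' := fun b a => by
            change D₀ (f b * a) = A.res (f b) * D₀ a
            rw [hD₀m, hD₀, mul_zero, add_zero] }
        fun x y => by
          change D₀ (x * y) = x • D₀ y + y • D₀ x
          rw [hD₀m, hsm, hsm]
    refine hom_ext' fun a => TrivSqZeroExt.ext ((Art.res_app g a).trans (Art.res_app g' a).symm) ?_
    have h0 : (LinearMap.liftBaseChange k D.liftKaehlerDifferential)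
        (1 ⊗ₜ[A] KaehlerDifferential.D B A a) = 0 := by
      rw [Subsingleton.elim (1 ⊗ₜ[A] KaehlerDifferential.D B A a) 0, map_zero]
    rw [LinearMap.liftBaseChange_tmul, one_smul, Derivation.liftKaehlerDifferential_comp_D] at h0
    exact sub_eq_zero.1 h0

theorem ess_iff_kaehler [IsNoetherianRing Λ] [Module.Finite Λ k] {A B : Art Λ k} (f : B ⟶ A) :
    letI : Algebra B A := f.toAlgHom.toRingHom.toAlgebra
    letI : Algebra A k := A.res.toRingHom.toAlgebra
    letI : Algebra B k := B.res.toRingHom.toAlgebra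
    IsEss f ↔ (Subsingleton (k ⊗[A] Ω[A⁄B]) ∧
      Module.finrank k (k ⊗[B] Ω[B⁄Λ]) = Module.finrank k (k ⊗[A] Ω[A⁄Λ])) := by
  let : Algebra B A := f.toAlgHom.toRingHom.toAlgebra
  let : Algebra A k := A.res.toRingHom.toAlgebra
  let : Algebra B k := B.res.toRingHom.toAlgebra
  have : IsScalarTower B A k := IsScalarTower.of_algebraMap_eq fun b => (Art.res_app f b).symm
  have : IsScalarTower Λ B A := IsScalarTower.of_algebraMap_eq fun r => (f.toAlgHom.commutes r).symm
  have : IsScalarTower Λ A k := IsScalarTower.of_algebraMap_eq fun r => (A.res.commutes r).symm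
  have : IsScalarTower Λ B k := IsScalarTower.of_algebraMap_eq fun r => (B.res.commutes r).symm
  have := finite_carrier A
  have := finite_carrier B
  obtain ⟨Ψ, hΨ⟩ : ∃ Ψ : k ⊗[B] Ω[B⁄Λ] →ₗ[k] k ⊗[A] Ω[A⁄Λ],
      ∀ b, Ψ (1 ⊗ₜ[B] KaehlerDifferential.D Λ B b) =
        1 ⊗ₜ[A] KaehlerDifferential.D Λ A (f b) :=
    ⟨LinearMap.liftBaseChange k (((TensorProduct.mk A k Ω[A⁄Λ] 1).restrictScalars B).comp
      (KaehlerDifferential.map Λ Λ B A)), fun b => by
        rw [LinearMap.liftBaseChange_tmul, one_smul, LinearMap.comp_apply, KaehlerDifferential.map_D]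
        rfl⟩
  rw [ess_iff_dual f, ← surjective_iff_kaehler f]
  refine and_congr_right fun hs => ?_
  have hsurj : Function.Surjective Ψ := fun v => by
    induction v with
    | zero => exact ⟨0, map_zero _⟩
    | add x y hx hy =>
      obtain ⟨a, rfl⟩ := hx
      obtain ⟨b, rfl⟩ := hy
      exact ⟨a + b, map_add _ _ _⟩
    | tmul c ω =>
      have hω : ω ∈ Submodule.span A (Set.range (KaehlerDifferential.D Λ A)) :=
        (KaehlerDifferential.span_range_derivation Λ A).symm ▸ Submodule.mem_top
      induction hω using Submodule.span_induction generalizing c with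
      | mem x hx =>
        obtain ⟨a, rfl⟩ := hx
        obtain ⟨b, rfl⟩ := hs a
        refine ⟨c • (1 ⊗ₜ[B] KaehlerDifferential.D Λ B b), ?_⟩
        rw [map_smul, hΨ, TensorProduct.smul_tmul', smul_eq_mul, mul_one]
      | zero => exact ⟨0, by rw [map_zero, TensorProduct.tmul_zero]⟩
      | add x y _ _ hx hy =>
        obtain ⟨a, ha⟩ := hx c
        obtain ⟨b, hb⟩ := hy c
        exact ⟨a + b, by rw [map_add, ha, hb, TensorProduct.tmul_add]⟩
      | smul a x _ hx =>
        obtain ⟨b, hb⟩ := hx (a • c)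
        exact ⟨b, by rw [hb, TensorProduct.smul_tmul]⟩
  have hinj : (∀ (g : B ⟶ dual Λ k) (x : B), f x = 0 → TrivSqZeroExt.snd (g x) = 0) ↔
      Function.Injective Ψ := by
    constructor
    · intro h
      refine (injective_iff_map_eq_zero Ψ).2 fun v hv => ?_
      refine (Module.forall_dual_apply_eq_zero_iff k v).1 fun l => ?_
      obtain ⟨D, hD⟩ : ∃ D : B →ₗ[Λ] k, ∀ b, D b = l (1 ⊗ₜ[B] KaehlerDifferential.D Λ B b) :=
        ⟨(l.restrictScalars Λ).comp (((TensorProduct.mk B k Ω[B⁄Λ] 1).restrictScalars Λ).comp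
          (KaehlerDifferential.D Λ B).toLinearMap), fun _ => rfl⟩
      obtain ⟨g, hg⟩ := exists_hom_of_derivation D
        (by rw [hD, Derivation.map_one_eq_zero, TensorProduct.tmul_zero, map_zero]) fun x y => by
          rw [hD, hD, hD, Derivation.leibniz, TensorProduct.tmul_add, TensorProduct.tmul_smul,
            TensorProduct.tmul_smul, ← algebraMap_smul k x, ← algebraMap_smul k y, map_add,
            map_smul, map_smul]
          rfl
      obtain ⟨σ, hσ⟩ := exists_hom_factor f hs g fun x hx =>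
        TrivSqZeroExt.ext ((Art.res_app g x).trans ((Art.res_app f x).symm.trans
          ((congrArg A.res hx).trans (map_zero _)))) (h g x hx)
      let : Module A k := Algebra.toModule
      let D' : Derivation Λ A k := Derivation.mk'
        { toFun := fun a => TrivSqZeroExt.snd (σ a)
          map_add' := snd_hom_add σ
          map_smul' := fun r a => by
            change TrivSqZeroExt.snd (σ (r • a)) = r • TrivSqZeroExt.snd (σ a)
            rw [map_smul]
            exact TrivSqZeroExt.snd_smul r (σ a : TrivSqZeroExt k k) }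
        fun x y => snd_hom_mul σ x y
      have key : (LinearMap.liftBaseChange k D'.liftKaehlerDifferential).comp Ψ = l := by
        refine LinearMap.ext fun w => ?_
        induction w with
        | zero => rw [map_zero, map_zero]
        | add x y hx hy => rw [map_add, map_add, hx, hy]
        | tmul c ω =>
          have hω : ω ∈ Submodule.span B (Set.range (KaehlerDifferential.D Λ B)) :=
            (KaehlerDifferential.span_range_derivation Λ B).symm ▸ Submodule.mem_top
          induction hω using Submodule.span_induction generalizing c with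
          | mem x hx =>
            obtain ⟨b, rfl⟩ := hx
            rw [show c ⊗ₜ[B] KaehlerDifferential.D Λ B b = c • (1 ⊗ₜ[B] KaehlerDifferential.D Λ B b) by
              rw [TensorProduct.smul_tmul', smul_eq_mul, mul_one], map_smul, map_smul, LinearMap.comp_apply,
              hΨ, LinearMap.liftBaseChange_tmul, one_smul, Derivation.liftKaehlerDifferential_comp_D, ← hD,
              ← hg]
            exact congrArg (c • ·) (congrArg TrivSqZeroExt.snd (hom_congr hσ b))
          | zero => rw [TensorProduct.tmul_zero, map_zero, map_zero]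
          | add x y _ _ hx hy => rw [TensorProduct.tmul_add, map_add, map_add, hx, hy]
          | smul b x _ hx => rw [← TensorProduct.smul_tmul, hx]
      rw [← key, LinearMap.comp_apply, hv, map_zero]
    · intro h g x hx
      let : Module B k := Algebra.toModule
      let D : Derivation Λ B k := Derivation.mk'
        { toFun := fun b => TrivSqZeroExt.snd (g b)
          map_add' := snd_hom_add g
          map_smul' := fun r b => by
            change TrivSqZeroExt.snd (g (r • b)) = r • TrivSqZeroExt.snd (g b)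
            rw [map_smul]
            exact TrivSqZeroExt.snd_smul r (g b : TrivSqZeroExt k k) }
        fun a b => snd_hom_mul g a b
      have h0 : (1 : k) ⊗ₜ[B] KaehlerDifferential.D Λ B x = 0 := h (by
        rw [hΨ, map_zero, hx, map_zero, TensorProduct.tmul_zero])
      have h1 := congrArg (LinearMap.liftBaseChange k D.liftKaehlerDifferential) h0
      rw [LinearMap.liftBaseChange_tmul, one_smul, Derivation.liftKaehlerDifferential_comp_D,
        map_zero] at h1
      exact h1
  rw [hinj]
  refine ⟨fun h => LinearEquiv.finrank_eq (LinearEquiv.ofBijective Ψ ⟨h, hsurj⟩), fun h => ?_⟩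
  exact (LinearMap.injective_iff_surjective_of_finrank_eq_finrank h).2 hsurj

theorem exists_hom_dual_of_notMem_relSq [IsNoetherianRing Λ] [Module.Finite Λ k]
    [Algebra.IsSeparable (↥(algebraMap Λ k).range) k] {B : Art Λ k} {x : B}
    (hxm : x ∈ IsLocalRing.maximalIdeal B) (hx : x ∉ relSq B) :
    ∃ g : B ⟶ dual Λ k, TrivSqZeroExt.snd (g x) ≠ 0 := by
  let C := quot B (relSq B) (relSq_le B)
  let q := quotMk B (relSq B) (relSq_le B)
  have hq : Function.Surjective q := quotMk_surjective _ _ _
  have hkill : ∀ r, algebraMap Λ k r = 0 → algebraMap Λ C r = 0 := fun r hr => by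
    rw [← q.toAlgHom.commutes r]
    exact quotMk_eq_zero.2 (Ideal.mem_sup_left (Ideal.mem_map_of_mem _ hr))
  obtain ⟨ι, hι⟩ : ∃ ι : (algebraMap Λ k).range →+* C,
      ∀ r, ι ((algebraMap Λ k).rangeRestrict r) = algebraMap Λ C r :=
    ⟨RingHom.liftOfSurjective (algebraMap Λ k).rangeRestrict (RingHom.rangeRestrict_surjective _)
      ⟨algebraMap Λ C, fun r hr => hkill r (congrArg Subtype.val hr)⟩,
      fun r => RingHom.liftOfRightInverse_comp_apply _ _ _ _ r⟩
  let : Algebra (↥(algebraMap Λ k).range) C := ι.toAlgebra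
  have hf : IsField (↥(algebraMap Λ k).range) := by
    have : Algebra.IsIntegral (↥(algebraMap Λ k).range) k := ⟨Algebra.IsSeparable.isIntegral _⟩
    exact isField_of_isIntegral_of_isField (R := ↥(algebraMap Λ k).range) (S := k)
      Subtype.val_injective (Field.toIsField k)
  let : Field (↥(algebraMap Λ k).range) := hf.toField
  have : Algebra.FormallyEtale (↥(algebraMap Λ k).range) k :=
    Algebra.FormallyEtale.of_isSeparable _ _
  let resC : C →ₐ[↥(algebraMap Λ k).range] k :=
    { C.res.toRingHom with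
      commutes' := fun z => by
        obtain ⟨r, rfl⟩ := RingHom.rangeRestrict_surjective _ z
        change C.res (ι ((algebraMap Λ k).rangeRestrict r)) = _
        rw [hι, AlgHom.commutes]
        rfl }
  have hsq : IsLocalRing.maximalIdeal C ^ 2 = ⊥ := by
    rw [← map_maximalIdeal_of_surjective q hq, ← Ideal.map_pow, eq_bot_iff,
      Ideal.map_le_iff_le_comap]
    exact fun y hy => Ideal.mem_bot.2 (quotMk_eq_zero.2 (Ideal.mem_sup_right hy))
  have hker : RingHom.ker (resC : C →+* k) = IsLocalRing.maximalIdeal C :=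
    (maximalIdeal_eq_ker C).symm
  obtain ⟨σ₀, hσ₀⟩ : ∃ σ₀ : k →ₐ[↥(algebraMap Λ k).range] C, ∀ c, C.res (σ₀ c) = c :=
    ⟨Algebra.FormallySmooth.liftOfSurjective (AlgHom.id _ k) resC C.res_surjective
      ⟨2, by rw [hker]; exact hsq⟩,
      fun c => Algebra.FormallySmooth.liftOfSurjective_apply _ resC C.res_surjective _ c⟩
  obtain ⟨σ, hσ⟩ : ∃ σ : base Λ k ⟶ C, ∀ c, σ c = σ₀ c :=
    ⟨Art.homMk (A := base Λ k)
      { σ₀.toRingHom with
        commutes' := fun r => by
          change σ₀ (algebraMap Λ k r) = _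
          rw [← hι]
          exact σ₀.commutes ((algebraMap Λ k).rangeRestrict r) }
      (AlgHom.ext hσ₀), fun _ => rfl⟩
  obtain ⟨n, e, he, -⟩ := exists_tz_iso σ hsq
  obtain ⟨z, hz⟩ := he.2 (q x)
  obtain ⟨i, hi⟩ : ∃ i, TrivSqZeroExt.snd z i ≠ 0 := by
    by_contra hall
    push Not at hall
    refine hx (quotMk_eq_zero.1 (hz.symm.trans ?_))
    rw [show z = 0 from TrivSqZeroExt.ext ((Art.res_app e z).symm.trans ((congrArg C.res hz).trans
      ((Art.res_app q x).trans ((Art.mem_maximalIdeal_iff _ _).1 hxm)))) (funext hall), map_zero]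
  have := (isIso_iff_bijective e).2 he
  refine ⟨q ≫ inv e ≫ toD (LinearMap.proj i), ?_⟩
  change TrivSqZeroExt.snd (toD (LinearMap.proj i) (inv e (q x))) ≠ 0
  rw [← hz, show inv e (e z) = z from hom_congr (IsIso.hom_inv_id e) z]
  exact hi

theorem ess_iff_relSq [IsNoetherianRing Λ] [Module.Finite Λ k]
    [Algebra.IsSeparable (↥(algebraMap Λ k).range) k] {A B : Art Λ k} (f : B ⟶ A) :
    IsEss f ↔ Function.Surjective f ∧ RingHom.ker f.toAlgHom ≤ relSq B := by
  constructor
  · intro h
    obtain ⟨hs, hd⟩ := (ess_iff_dual f).1 h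
    refine ⟨hs, fun x hx => ?_⟩
    by_contra hne
    obtain ⟨g, hg⟩ := exists_hom_dual_of_notMem_relSq (ker_le_maximalIdeal f hx) hne
    exact hg (hd g x hx)
  · rintro ⟨hs, hk⟩
    exact ⟨hs, fun C g hg => surjective_of_comp_quot g f hk hg⟩

end ArtLib
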