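import Groth.Agent.ArtLib.CRingHom
import Groth.Prelude.Def_CAlgX

/-!
# Smooth functors `h_R` and adic formal smoothness
-/

set_option autoImplicit false

universe u v

open CategoryTheory

namespace ArtLib

open ArtFun ArtFun.Art

variable {Λ : Type u} {k : Type u} [CommRing Λ] [Field k] [Algebra Λ k]

theorem ker_sq_of_small {A B : Art Λ k} {μ : B ⟶ A} (hμ : IsSmallExt μ) :
    RingHom.ker μ.toAlgHom ^ 2 = ⊥ := by
  rw [sq, eq_bot_iff]
  exact (Ideal.mul_mono_left (ker_le_maximalIdeal μ)).trans hμ.2.2.2.le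

theorem isSmoothFunctor_iff_formallySmooth [IsNoetherianRing Λ] [Module.Finite Λ k] (R : CRing Λ k) :
    IsSmoothFunctor (hR R.carrier R.res) ↔
      CAlgX.IsAdicFormallySmooth Λ R.carrier (IsLocalRing.maximalIdeal R.carrier) := by
  constructor
  · intro h A _ _ J hJ ψ ⟨m, hm⟩
    have := finite_carrier (R.trunc m)
    obtain ⟨N, g, hg⟩ := Module.Finite.exists_fin (R := Λ) (M := R.trunc m)
    obtain ⟨θ, hθ⟩ : ∃ θ : MvPolynomial (ULift.{u} (Fin N)) Λ →ₐ[Λ] R.trunc m,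
        θ = MvPolynomial.aeval fun i => g i.down := ⟨_, rfl⟩
    have hθs : Function.Surjective θ := fun a => by
      have : a ∈ Submodule.span Λ (Set.range g) := hg ▸ Submodule.mem_top
      induction this using Submodule.span_induction with
      | mem y hy =>
        obtain ⟨i, rfl⟩ := hy
        exact ⟨MvPolynomial.X ⟨i⟩, by rw [hθ, MvPolynomial.aeval_X]⟩
      | zero => exact ⟨0, map_zero _⟩
      | add y z _ _ ihy ihz =>
        obtain ⟨a, rfl⟩ := ihy
        obtain ⟨b, rfl⟩ := ihz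
        exact ⟨a + b, map_add _ _ _⟩
      | smul r y _ ihy =>
        obtain ⟨a, rfl⟩ := ihy
        exact ⟨r • a, map_smul _ _ _⟩
    obtain ⟨resP, hresP⟩ : ∃ resP : MvPolynomial (ULift.{u} (Fin N)) Λ →ₐ[Λ] k,
        resP = (R.trunc m).res.comp θ := ⟨_, rfl⟩
    have hres : Function.Surjective resP := hresP ▸ (R.trunc m).res_surjective.comp hθs
    obtain ⟨θ', hθ'⟩ : ∃ θ' : HomSet _ resP (R.trunc m), θ'.1 = θ := ⟨⟨θ, hresP.symm⟩, rfl⟩
    have hK : IsSub resP (RingHom.ker θ'.1) := by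
      obtain ⟨e, he⟩ := homSet_pow θ'
      exact ⟨fun p hp => (homSet_res θ' p).symm.trans
        ((congrArg (R.trunc m).res hp).trans (map_zero _)), e, fun p hp => he p hp⟩
    have hK2 : IsSub resP (RingHom.ker θ'.1 * RingHom.ker θ'.1) := by
      obtain ⟨e, he⟩ := hK.pow
      refine ⟨fun p hp => hK.le p (Ideal.mul_le_left hp), e + e, ?_⟩
      rw [pow_add]
      exact Ideal.mul_mono he he
    -- lift `θ` to `A`
    obtain ⟨ψ', hψ'⟩ : ∃ ψ' : (R.carrier ⧸ CRing.mpow R m) →ₐ[Λ] A ⧸ J,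
        ∀ r, ψ' (Ideal.Quotient.mk _ r) = ψ r :=
      ⟨Ideal.Quotient.liftₐ _ ψ fun a ha => hm a (Ideal.pow_le_pow_right (Nat.le_succ m) ha),
        fun _ => rfl⟩
    have hψm : ∃ ψm : (R.trunc m) →ₐ[Λ] A ⧸ J, ∀ r, ψm ((R.truncHom m).1 r) = ψ r := ⟨ψ', hψ'⟩
    obtain ⟨ψm, hψm⟩ := hψm
    choose a ha using fun i : ULift.{u} (Fin N) => Ideal.Quotient.mk_surjective (ψm (g i.down))
    obtain ⟨θA, hθA⟩ : ∃ θA : MvPolynomial (ULift.{u} (Fin N)) Λ →ₐ[Λ] A,
        θA = MvPolynomial.aeval a := ⟨_, rfl⟩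
    have hcomm : (Ideal.Quotient.mkₐ Λ J).comp θA = ψm.comp θ := MvPolynomial.algHom_ext fun i => by
      rw [AlgHom.comp_apply, AlgHom.comp_apply, hθA, hθ, MvPolynomial.aeval_X, MvPolynomial.aeval_X]
      exact ha i
    have hkill : ∀ p ∈ RingHom.ker θ'.1 * RingHom.ker θ'.1, θA p = 0 := by
      have hKJ : ∀ p ∈ RingHom.ker θ'.1, θA p ∈ J := fun p hp => by
        refine Ideal.Quotient.eq_zero_iff_mem.1 ((AlgHom.congr_fun hcomm p).trans ?_)
        rw [AlgHom.comp_apply, show θ p = 0 from hθ' ▸ hp, map_zero]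
      intro p hp
      induction hp using Submodule.mul_induction_on' with
      | mem_mul_mem x hx y hy =>
        have := Ideal.mul_mem_mul (hKJ x hx) (hKJ y hy)
        rw [← sq, hJ, Ideal.mem_bot, ← map_mul] at this
        exact this
      | add x _ y _ hx hy => rw [map_add, hx, hy, add_zero]
    obtain ⟨i, hi⟩ : ∃ i : pq hres hK2 ⟶ R.trunc m, ∀ p, i ((pqMk hres hK2).1 p) = θ'.1 p :=
      ⟨pqLift hres hK2 θ' fun p hp => Ideal.mul_le_left hp, fun _ => rfl⟩
    have his : Function.Surjective i := fun b => by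
      obtain ⟨p, rfl⟩ := hθs b
      exact ⟨(pqMk hres hK2).1 p, by rw [hi, hθ']⟩
    obtain ⟨φ, hφ⟩ := h i his (R.truncHom m)
    refine ⟨(Ideal.Quotient.liftₐ _ θA hkill).comp φ.1, AlgHom.ext fun r => ?_⟩
    obtain ⟨p, hp⟩ := pqMk_surjective hres hK2 (φ.1 r)
    have h1 : i (φ.1 r) = (R.truncHom m).1 r := AlgHom.congr_fun (congrArg Subtype.val hφ) r
    rw [← hp, hi, hθ'] at h1
    change Ideal.Quotient.mkₐ Λ J (Ideal.Quotient.liftₐ _ θA hkill (φ.1 r)) = ψ r
    rw [← hp, ← hψm, ← h1]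
    exact AlgHom.congr_fun hcomm p
  · intro h
    refine isSmoothFunctor_of_smallExt _ fun B A μ hμ φ => ?_
    let e := Ideal.quotientKerAlgEquivOfSurjective (f := μ.toAlgHom) hμ.1
    obtain ⟨N, hN⟩ := homSet_pow φ
    obtain ⟨χ, hχ⟩ := h B (RingHom.ker μ.toAlgHom) (ker_sq_of_small hμ) (e.symm.toAlgHom.comp φ.1)
      ⟨N, fun x hx => by
        rw [← ker_res_eq] at hx
        rw [AlgHom.comp_apply, hN x hx, map_zero]⟩
    have hval : ∀ r, μ (χ r) = φ.1 r := fun r => by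
      have h1 := congrArg e (AlgHom.congr_fun hχ r)
      exact h1.trans (e.apply_symm_apply (φ.1 r))
    refine ⟨⟨χ, ?_⟩, homSet_ext hval⟩
    exact AlgHom.ext fun r => by
      rw [AlgHom.comp_apply, ← Art.res_app μ, hval]
      exact homSet_res φ r

theorem miniversal_surjective_base {R : Type u} [CommRing R] [Algebra Λ R] {resR : R →ₐ[Λ] k}
    {F : Art Λ k ⥤ Type v} (ξ : Family R resR F) (hd : Function.Surjective (ξ.app (dual Λ k))) :
    Function.Surjective (ξ.app (base Λ k)) := fun x => by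
  obtain ⟨τ, hτ⟩ := hd (F.map baseToDual x)
  refine ⟨HomSet.map (toBase (dual Λ k)) τ, ?_⟩
  rw [ξ.natural, hτ, ← map_comp_apply, Art.eq_toBase (baseToDual ≫ toBase _),
    ← Art.eq_toBase (𝟙 (base Λ k)), map_id_apply]

end ArtLib
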