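import Mathlib

/-!
# First cotangent homology along a separable residue extension
-/

set_option autoImplicit false

universe u

open scoped TensorProduct

namespace ArtLib

theorem map_map (Λ S K L : Type u) [CommRing Λ] [CommRing S] [CommRing K] [CommRing L]
    [Algebra Λ S] [Algebra Λ K] [Algebra Λ L] [Algebra S L] [Algebra K L]
    [IsScalarTower Λ S L] [IsScalarTower Λ K L]
    (x : Algebra.H1Cotangent Λ K) :
    Algebra.H1Cotangent.map Λ S L L (Algebra.H1Cotangent.map Λ Λ K L x) =
      Algebra.H1Cotangent.map Λ S K L x := by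
  simp only [Algebra.H1Cotangent.map]
  rw [← Algebra.Extension.H1Cotangent.map_comp_apply]
  exact LinearMap.congr_fun (Algebra.Extension.H1Cotangent.map_eq _ _) x

theorem injective_of_pushout (Λ S K L : Type u) [CommRing Λ] [CommRing S] [Field K] [Field L]
    [Algebra Λ S] [Algebra Λ K] [Algebra Λ L] [Algebra S L] [Algebra K L]
    [IsScalarTower Λ S L] [IsScalarTower Λ K L] [Module.Flat Λ S]
    (hS : Function.Surjective (algebraMap S L))
    (e : S ⊗[Λ] K ≃ₐ[S] L) (he : ∀ x, e (1 ⊗ₜ x) = algebraMap K L x) :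
    Function.Injective ((Algebra.H1Cotangent.map Λ Λ K L).liftBaseChange L) := by
  let : Algebra K (S ⊗[Λ] K) := Algebra.TensorProduct.rightAlgebra
  let : Algebra (S ⊗[Λ] K) L := e.toRingHom.toAlgebra
  have : IsScalarTower S (S ⊗[Λ] K) L := IsScalarTower.of_algebraMap_eq fun s => (e.commutes s).symm
  have : IsScalarTower K (S ⊗[Λ] K) L := IsScalarTower.of_algebraMap_eq fun x => (he x).symm
  let N : S ⊗[Λ] Algebra.H1Cotangent Λ K →ₗ[Λ] L ⊗[K] Algebra.H1Cotangent Λ K :=
    TensorProduct.lift (LinearMap.mk₂ Λ (fun (s : S) (x : Algebra.H1Cotangent Λ K) =>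
      algebraMap S L s ⊗ₜ[K] x)
      (fun s s' x => by rw [map_add, TensorProduct.add_tmul])
      (fun c s x => by
        rw [TensorProduct.smul_tmul', Algebra.smul_def, Algebra.smul_def, map_mul,
          ← IsScalarTower.algebraMap_apply])
      (fun s x y => TensorProduct.tmul_add _ _ _)
      (fun c s x => by
        rw [TensorProduct.tmul_smul]))
  have hN : Function.Surjective N := fun w => by
    induction w with
    | zero => exact ⟨0, map_zero _⟩
    | add a b ha hb =>
      obtain ⟨a, rfl⟩ := ha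
      obtain ⟨b, rfl⟩ := hb
      exact ⟨a + b, map_add _ _ _⟩
    | tmul l x =>
      obtain ⟨s, rfl⟩ := hS l
      exact ⟨s ⊗ₜ x, rfl⟩
  let Φ := (Algebra.tensorH1CotangentOfFlat Λ K S).trans (Algebra.H1Cotangent.mapEquiv S _ _ e)
  have key : ∀ z, Algebra.H1Cotangent.map Λ S L L
      ((Algebra.H1Cotangent.map Λ Λ K L).liftBaseChange L (N z)) = Φ z := fun z => by
    induction z with
    | zero => simp
    | add a b ha hb => simp [ha, hb]
    | tmul s x =>
      change Algebra.H1Cotangent.map Λ S L L
        ((Algebra.H1Cotangent.map Λ Λ K L).liftBaseChange L (algebraMap S L s ⊗ₜ x)) = _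
      rw [LinearMap.liftBaseChange_tmul, map_smul, map_map]
      simp only [Φ, LinearEquiv.trans_apply, Algebra.tensorH1CotangentOfFlat_tmul, map_smul]
      rw [algebraMap_smul]
      congr 1
      change _ = Algebra.H1Cotangent.map S S (S ⊗[Λ] K) L (Algebra.H1Cotangent.map Λ S K (S ⊗[Λ] K) x)
      simp only [Algebra.H1Cotangent.map]
      rw [← Algebra.Extension.H1Cotangent.map_comp_apply]
      exact LinearMap.congr_fun (Algebra.Extension.H1Cotangent.map_eq _ _) x
  refine (injective_iff_map_eq_zero _).2 fun w hw => ?_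
  obtain ⟨z, rfl⟩ := hN w
  have : Φ z = 0 := by rw [← key, hw, map_zero]
  rw [(LinearEquiv.map_eq_zero_iff Φ).1 this, map_zero]

theorem bijective_of_separable (Λ K L : Type u) [CommRing Λ] [Field K] [Field L] [Algebra Λ K]
    [Algebra Λ L] [Algebra K L] [IsScalarTower Λ K L] [FiniteDimensional K L]
    [Algebra.IsSeparable K L] (hK : Function.Surjective (algebraMap Λ K)) :
    Function.Bijective ((Algebra.H1Cotangent.map Λ Λ K L).liftBaseChange L) := by
  refine ⟨?_, fun y => ?_⟩
  · let pb : PowerBasis K L := Field.powerBasisOfFiniteOfSeparable K L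
    obtain ⟨q, hq, -, hqm⟩ := Polynomial.lifts_and_natDegree_eq_and_monic
      (f := algebraMap Λ K) (p := minpoly K pb.gen)
      (by
        rw [Polynomial.lifts_iff_coeff_lifts]
        exact fun n => hK _)
      (minpoly.monic pb.isIntegral_gen)
    let S := AdjoinRoot q
    have hq0 : Polynomial.aeval pb.gen q = 0 := by
      rw [← Polynomial.aeval_map_algebraMap K, hq, minpoly.aeval]
    let ψ : S →ₐ[Λ] L := AdjoinRoot.liftAlgHom q (Algebra.ofId Λ L) pb.gen hq0
    have hψ : ψ (AdjoinRoot.root q) = pb.gen := AdjoinRoot.liftAlgHom_root ..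
    let : Algebra S L := ψ.toRingHom.toAlgebra
    have : IsScalarTower Λ S L := IsScalarTower.of_algebraMap_eq fun r => (ψ.commutes r).symm
    have : Module.Free Λ S := Module.Free.of_basis (AdjoinRoot.powerBasis' hqm).basis
    have hS : Function.Surjective (algebraMap S L) := fun l => by
      obtain ⟨f, rfl⟩ := pb.exists_eq_aeval' l
      obtain ⟨g, rfl⟩ := Polynomial.map_surjective _ hK f
      refine ⟨AdjoinRoot.mk q g, ?_⟩
      change ψ (AdjoinRoot.mk q g) = _
      rw [Polynomial.aeval_map_algebraMap, ← AdjoinRoot.aeval_eq, ← Polynomial.aeval_algHom_apply, hψ]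
    let : Algebra K (S ⊗[Λ] K) := Algebra.TensorProduct.rightAlgebra
    let e : S ⊗[Λ] K →ₐ[S] L :=
      Algebra.TensorProduct.lift (Algebra.ofId S L) (IsScalarTower.toAlgHom Λ K L) fun _ _ => Commute.all _ _
    have hroot : Polynomial.aeval (R := K) ((AdjoinRoot.root q) ⊗ₜ[Λ] (1 : K)) (minpoly K pb.gen) = 0 := by
      rw [← hq, Polynomial.aeval_map_algebraMap]
      have h := Polynomial.aeval_algHom_apply
        (Algebra.TensorProduct.includeLeft : S →ₐ[Λ] S ⊗[Λ] K) (AdjoinRoot.root q) q
      rw [AdjoinRoot.aeval_eq, AdjoinRoot.mk_self, map_zero] at h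
      exact h
    let g : L →ₐ[K] S ⊗[Λ] K := pb.lift _ hroot
    have hgen : g pb.gen = AdjoinRoot.root q ⊗ₜ[Λ] (1 : K) := pb.lift_gen _ hroot
    have hinj : Function.LeftInverse g e := by
      have hh : ((g.restrictScalars Λ).comp (e.restrictScalars Λ)) = AlgHom.id Λ _ := by
        refine Algebra.TensorProduct.ext (AdjoinRoot.algHom_ext ?_) (AlgHom.ext fun c => ?_)
        · change g (e (AdjoinRoot.root q ⊗ₜ 1)) = AdjoinRoot.root q ⊗ₜ 1
          rw [← hgen]
          congr 1
          simp [e, hgen]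
          exact hψ
        · change g (e (1 ⊗ₜ c)) = 1 ⊗ₜ c
          rw [show e (1 ⊗ₜ c) = algebraMap K L c by simp [e], AlgHom.commutes]
          rfl
      exact AlgHom.congr_fun hh
    refine injective_of_pushout Λ S K L hS (AlgEquiv.ofBijective e ⟨hinj.injective, fun l => ?_⟩)
      fun x => by
        change e (1 ⊗ₜ x) = _
        simp [e]
    obtain ⟨s, rfl⟩ := hS l
    exact ⟨s ⊗ₜ 1, by simp [e]⟩
  · have : Algebra.FormallyEtale K L := Algebra.FormallyEtale.of_isSeparable K L
    have : Subsingleton (Algebra.H1Cotangent K L) := Algebra.FormallySmooth.subsingleton_h1Cotangent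
    have hex := Algebra.H1Cotangent.exact_liftBaseChange_map_of_flat Λ K L
    exact (hex y).1 (Subsingleton.elim _ _)

end ArtLib
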