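import Groth.Agent.ArtLib.Complete

/-!
# Schlessinger's construction
-/

set_option autoImplicit false

universe u v

open CategoryTheory

namespace ArtLib

open ArtFun ArtFun.Art

variable {Λ : Type u} {k : Type u} [CommRing Λ] [Field k] [Algebra Λ k]
variable {P : Type u} [CommRing P] [Algebra Λ P] {resP : P →ₐ[Λ] k}

/-- The augmented algebra lifts maps along surjections. -/
def HasLift (resP : P →ₐ[Λ] k) : Prop :=
  ∀ ⦃B A : Art Λ k⦄ (μ : B ⟶ A), Function.Surjective μ → ∀ φ : HomSet P resP A,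
    ∃ ψ : HomSet P resP B, HomSet.map μ ψ = φ

theorem hasLift_mvPolynomial {σ : Type u} (resP : MvPolynomial σ Λ →ₐ[Λ] k) : HasLift resP := by
  intro B A μ hμ φ
  choose v hv using fun i => hμ (φ.1 (MvPolynomial.X i))
  have h : μ.toAlgHom.comp (MvPolynomial.aeval v) = φ.1 := MvPolynomial.algHom_ext fun i => by
    rw [AlgHom.comp_apply, MvPolynomial.aeval_X, hv]
  refine ⟨⟨MvPolynomial.aeval v, ?_⟩, Subtype.ext h⟩
  rw [← μ.res_comp, AlgHom.comp_assoc, h]
  exact φ.2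

variable [IsNoetherianRing P] (hres : Function.Surjective resP)
variable {F : Art Λ k ⥤ Type v}

local notation "M" => RingHom.ker (resP : P →+* k)

omit [IsNoetherianRing P] in
theorem isSub_of_le {J J' : Ideal P} (hJ : IsSub resP J) (hle : J' ≤ J) (hMJ : M * J ≤ J') :
    IsSub resP J' := by
  obtain ⟨n, hn⟩ := hJ.pow
  exact ⟨fun p hp => hJ.le p (hle hp), n + 1,
    (pow_succ' M n).le.trans ((Ideal.mul_mono_right hn).trans hMJ)⟩

theorem pqMap_comp {J J' J'' : Ideal P} (h : IsSub resP J) (h' : IsSub resP J')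
    (h'' : IsSub resP J'') (e : J'' ≤ J') (e' : J' ≤ J) :
    pqMap hres h' h'' e ≫ pqMap hres h h' e' = pqMap hres h h'' (e.trans e') :=
  pq_hom_ext hres fun _ => rfl

theorem pqMap_self {J : Ideal P} (h : IsSub resP J) (e : J ≤ J) : pqMap hres h h e = 𝟙 _ :=
  pq_hom_ext hres fun _ => rfl

/-- `x` lifts to `P/J'`. -/
def Liftable {J : Ideal P} (hJ : IsSub resP J) (x : F.obj (pq hres hJ)) (J' : Ideal P) : Prop :=
  ∃ (hle : J' ≤ J) (hJ' : IsSub resP J') (y : F.obj (pq hres hJ')),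
    F.map (pqMap hres hJ hJ' hle) y = x

variable [IsNoetherianRing Λ] [Module.Finite Λ k]

omit [IsNoetherianRing Λ] [Module.Finite Λ k] in
theorem liftable_inf (hF : S1 F) {J : Ideal P} (hJ : IsSub resP J) {x : F.obj (pq hres hJ)}
    {J₁ J₂ : Ideal P} (h₁ : Liftable hres hJ x J₁) (h₂ : Liftable hres hJ x J₂) (hM₁ : M * J ≤ J₁)
    (hM₂ : M * J ≤ J₂) : Liftable hres hJ x (J₁ ⊓ J₂) := by
  obtain ⟨hle₁, hs₁, y₁, hy₁⟩ := h₁
  obtain ⟨hle₂, hs₂, y₂, hy₂⟩ := h₂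
  obtain ⟨K, ⟨hK₂, hKJ, hK₁⟩, hmax⟩ := set_has_maximal_iff_noetherian.2
    (inferInstance : IsNoetherian P P) {K : Ideal P | J₂ ≤ K ∧ K ≤ J ∧ K ⊓ J₁ ≤ J₂}
    ⟨J₂, le_rfl, hle₂, inf_le_left⟩
  have htop : J ≤ K ⊔ J₁ := by
    intro v hv
    by_contra hvK
    refine hmax (K ⊔ Ideal.span {v}) ⟨hK₂.trans le_sup_left,
      sup_le hKJ ((Ideal.span_singleton_le_iff_mem _).2 hv), ?_⟩
      (lt_of_le_of_ne le_sup_left fun h =>
        hvK (Ideal.mem_sup_left (h ▸ Ideal.mem_sup_right (Ideal.mem_span_singleton_self v))))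
    rintro w ⟨hw, hw₁⟩
    obtain ⟨a, ha, b, hb, rfl⟩ := Submodule.mem_sup.1 hw
    obtain ⟨c, rfl⟩ := Ideal.mem_span_singleton.1 hb
    by_cases hc : resP c = 0
    · have hcv : v * c ∈ J₂ := hM₂ (by rw [mul_comm v c]; exact Ideal.mul_mem_mul hc hv)
      exact hK₁ ⟨K.add_mem ha (hK₂ hcv), hw₁⟩
    · exfalso
      obtain ⟨d, hd⟩ := hres (resP c)⁻¹
      have h1 : c * d - 1 ∈ M := by
        rw [RingHom.mem_ker]
        change resP (c * d - 1) = 0
        rw [map_sub, map_mul, hd, map_one, mul_inv_cancel₀ hc, sub_self]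
      refine hvK (Submodule.mem_sup.2
        ⟨-(d * a), K.neg_mem (Ideal.mul_mem_left K d ha), d * (a + v * c) - (c * d - 1) * v, ?_, ?_⟩)
      · exact J₁.sub_mem (Ideal.mul_mem_left J₁ d hw₁) (hM₁ (Ideal.mul_mem_mul h1 hv))
      · ring
  have hsK : IsSub resP K := isSub_of_le hJ hKJ (hM₂.trans hK₂)
  have hsI : IsSub resP (J₁ ⊓ K) :=
    isSub_of_le hJ (inf_le_left.trans hle₁) (le_inf hM₁ (hM₂.trans hK₂))
  have hB : IsFibreProd (pqMap hres hs₁ hsI inf_le_left) (pqMap hres hsK hsI inf_le_right)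
      (pqMap hres hJ hs₁ hle₁) (pqMap hres hJ hsK hKJ) :=
    { w := by rw [pqMap_comp, pqMap_comp]
      inj := fun b₁ b₂ e₁ e₂ => by
        obtain ⟨p, rfl⟩ := pqMk_surjective hres hsI b₁
        obtain ⟨p', rfl⟩ := pqMk_surjective hres hsI b₂
        have e₁' : (pqMk hres hs₁).1 p = (pqMk hres hs₁).1 p' := e₁
        have e₂' : (pqMk hres hsK).1 p = (pqMk hres hsK).1 p' := e₂
        rw [← sub_eq_zero, ← map_sub, pqMk_eq_zero] at e₁' e₂' ⊢
        exact ⟨e₁', e₂'⟩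
      surj := fun a b e => by
        obtain ⟨p, rfl⟩ := pqMk_surjective hres hs₁ a
        obtain ⟨p', rfl⟩ := pqMk_surjective hres hsK b
        have e' : (pqMk hres hJ).1 p = (pqMk hres hJ).1 p' := e
        rw [← sub_eq_zero, ← map_sub, pqMk_eq_zero] at e'
        obtain ⟨a, ha, b, hb, hab⟩ := Submodule.mem_sup.1 (htop e')
        refine ⟨(pqMk hres hsI).1 (p - b), ?_, ?_⟩
        · change (pqMk hres hs₁).1 (p - b) = _
          rw [map_sub, (pqMk_eq_zero hres hs₁).2 hb, sub_zero]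
        · change (pqMk hres hsK).1 (p - b) = _
          rw [← sub_eq_zero, ← map_sub, pqMk_eq_zero, show p - b - p' = a by linear_combination -hab]
          exact ha }
  obtain ⟨z, hz₁, -⟩ := (cmp_surjective_iff F hB).1
    (hF _ _ _ _ hB (pqMap_surjective hres hJ hsK hKJ)) y₁ (F.map (pqMap hres hsK hs₂ hK₂) y₂)
    (by rw [hy₁, ← map_comp_apply, pqMap_comp, hy₂])
  have hle : J₁ ⊓ K ≤ J₁ ⊓ J₂ := le_inf inf_le_left (fun w hw => hK₁ ⟨hw.2, hw.1⟩)
  refine ⟨inf_le_left.trans hle₁, isSub_of_le hJ (inf_le_left.trans hle₁) (le_inf hM₁ hM₂),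
    F.map (pqMap hres _ hsI hle) z, ?_⟩
  rw [← map_comp_apply, pqMap_comp, ← hy₁, ← hz₁, ← map_comp_apply, pqMap_comp]

omit [IsNoetherianRing Λ] [Module.Finite Λ k] in
theorem exists_min_liftable (hF : S1 F) {J : Ideal P} (hJ : IsSub resP J) (x : F.obj (pq hres hJ)) :
    ∃ J₁, M * J ≤ J₁ ∧ Liftable hres hJ x J₁ ∧
      ∀ J', M * J ≤ J' → Liftable hres hJ x J' → J₁ ≤ J' := by
  have hMJ : IsSub resP (M * J) := isSub_of_le hJ Ideal.mul_le_right le_rfl
  have : IsArtinianRing (P ⧸ (M * J)) := (pq hres hMJ).isArtinianRing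
  obtain ⟨I, ⟨J₁, hM₁, hl₁, rfl⟩, hmin⟩ := IsArtinian.set_has_minimal (R := P ⧸ (M * J))
    {I : Ideal (P ⧸ (M * J)) | ∃ J', M * J ≤ J' ∧ Liftable hres hJ x J' ∧
      J'.map (Ideal.Quotient.mk _) = I}
    ⟨_, J, Ideal.mul_le_right, ⟨le_rfl, hJ, x, by rw [pqMap_self, map_id_apply]⟩, rfl⟩
  refine ⟨J₁, hM₁, hl₁, fun J' hM' hl' => ?_⟩
  have hl := liftable_inf hres hF hJ hl₁ hl' hM₁ hM'
  by_contra hne
  refine hmin _ ⟨J₁ ⊓ J', le_inf hM₁ hM', hl, rfl⟩
    (lt_of_le_of_ne (Ideal.map_mono inf_le_left) fun h => hne ?_)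
  have := congrArg (Ideal.comap (Ideal.Quotient.mk (M * J))) h
  rw [Ideal.comap_map_of_surjective _ Ideal.Quotient.mk_surjective,
    Ideal.comap_map_of_surjective _ Ideal.Quotient.mk_surjective, ← RingHom.ker_eq_comap_bot,
    Ideal.mk_ker, sup_eq_left.2 (le_inf hM₁ hM'), sup_eq_left.2 hM₁] at this
  exact inf_eq_left.1 this

/-- Every small extension of `P/J` carrying a lift of `x` receives a lift of the projection
killing `J'`. -/
def Lifts {J : Ideal P} (hJ : IsSub resP J) (x : F.obj (pq hres hJ)) (J' : Ideal P) : Prop :=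
  ∀ ⦃C : Art Λ k⦄ (p : C ⟶ pq hres hJ), IsSmallExt p → ∀ z : F.obj C, F.map p z = x →
    ∃ φ : HomSet P resP C, HomSet.map p φ = pqMk hres hJ ∧ ∀ a ∈ J', φ.1 a = 0

/-- Maps `P → k[ε]` killing `J'` kill `J`. -/
def Tight (J J' : Ideal P) : Prop :=
  ∀ φ : HomSet P resP (dual Λ k), (∀ a ∈ J', φ.1 a = 0) → ∀ a ∈ J, φ.1 a = 0

omit [IsNoetherianRing Λ] [Module.Finite Λ k] in
theorem lifts_of_min (hP : HasLift resP) {J : Ideal P} (hJ : IsSub resP J)
    {x : F.obj (pq hres hJ)} {J₁ : Ideal P} (hle : J₁ ≤ J)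
    (hmin : ∀ J', M * J ≤ J' → Liftable hres hJ x J' → J₁ ≤ J') : Lifts hres hJ x J₁ := by
  intro C p hp z hz
  obtain ⟨φ, hφ⟩ := hP p hp.1 (pqMk hres hJ)
  have hval : ∀ a, p (φ.1 a) = (pqMk hres hJ).1 a :=
    fun a => AlgHom.congr_fun (congrArg Subtype.val hφ) a
  have hK : RingHom.ker φ.1 ≤ J := fun a ha =>
    (pqMk_eq_zero hres hJ).1 (by rw [← hval, show φ.1 a = 0 from ha, map_zero])
  have hMK : M * J ≤ RingHom.ker φ.1 := Ideal.mul_le.2 fun r hr a ha => by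
    have h1 : φ.1 r ∈ IsLocalRing.maximalIdeal C := by
      rw [Art.mem_maximalIdeal_iff, homSet_res]; exact hr
    have h2 : φ.1 a ∈ RingHom.ker p.toAlgHom := by
      change p (φ.1 a) = 0
      rw [hval, pqMk_eq_zero]
      exact ha
    have h3 := Ideal.mul_mem_mul h1 h2
    rw [hp.2.2.2, Ideal.mem_bot] at h3
    rw [RingHom.mem_ker, map_mul]
    exact h3
  have hsK : IsSub resP (RingHom.ker φ.1) := isSub_of_le hJ hK hMK
  obtain ⟨g, hg⟩ : ∃ g : pq hres hsK ⟶ C, g = pqLift hres hsK φ fun _ ha => ha := ⟨_, rfl⟩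
  have hgp : g ≫ p = pqMap hres hJ hsK hK := pq_hom_ext hres fun a => by
    rw [hg]; exact hval a
  by_cases hs : Function.Surjective g
  · have hbij : Function.Bijective g := by
      refine ⟨(injective_iff_map_eq_zero g.toAlgHom).2 fun b hb => ?_, hs⟩
      obtain ⟨a, rfl⟩ := pqMk_surjective hres hsK b
      rw [hg] at hb
      exact (pqMk_eq_zero hres hsK).2 hb
    obtain ⟨y, hy⟩ := (map_bijective F g hbij).2 z
    refine ⟨φ, hφ, fun a ha => hmin _ hMK ⟨hK, hsK, y, ?_⟩ ha⟩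
    rw [← hgp, map_comp_apply, hy, hz]
  · obtain ⟨s, hs'⟩ := (exists_section_iff_not_essential hp).1
      ⟨_, g, by rw [hgp]; exact pqMap_surjective hres hJ hsK hK, hs⟩
    refine ⟨HomSet.map s (pqMk hres hJ), homSet_ext fun a => hom_congr hs' _, fun a ha => ?_⟩
    change s ((pqMk hres hJ).1 a) = 0
    rw [(pqMk_eq_zero hres hJ).2 (hle ha), map_zero]

theorem exists_step (hP : HasLift resP) (hF : S1 F) {J : Ideal P} (hJ : IsSub resP J)
    (x : F.obj (pq hres hJ)) :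
    ∃ (J' : Ideal P) (hle : J' ≤ J) (hJ' : IsSub resP J') (y : F.obj (pq hres hJ')),
      F.map (pqMap hres hJ hJ' hle) y = x ∧ Lifts hres hJ x J' ∧ Tight (resP := resP) J J' := by
  obtain ⟨J₁, hM₁, hl₁, hmin⟩ := exists_min_liftable hres hF hJ x
  obtain ⟨hle₁, hs₁, y₁, hy₁⟩ := hl₁
  obtain ⟨J', ⟨hJ₁', hle, hlift⟩, hmax⟩ := set_has_maximal_iff_noetherian.2
    (inferInstance : IsNoetherian P P) {K : Ideal P | J₁ ≤ K ∧ K ≤ J ∧ Lifts hres hJ x K}
    ⟨J₁, le_rfl, hle₁, lifts_of_min hres hP hJ hle₁ hmin⟩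
  have hs' : IsSub resP J' := isSub_of_le hJ hle (hM₁.trans hJ₁')
  refine ⟨J', hle, hs', F.map (pqMap hres hs' hs₁ hJ₁') y₁,
    by rw [← map_comp_apply, pqMap_comp, hy₁], hlift, ?_⟩
  intro δ hδ j hj
  by_contra hne
  have hjne : TrivSqZeroExt.snd (δ.1 j) ≠ 0 := fun h0 => hne (TrivSqZeroExt.ext
    ((homSet_res δ j).trans (hJ.le j hj)) h0)
  refine hmax (J' ⊔ Ideal.span {j}) ⟨hJ₁'.trans le_sup_left,
    sup_le hle ((Ideal.span_singleton_le_iff_mem _).2 hj), fun C p hp z hz => ?_⟩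
    (lt_of_le_of_ne le_sup_left fun h =>
      hne (hδ j (h ▸ Ideal.mem_sup_right (Ideal.mem_span_singleton_self j))))
  obtain ⟨φ, hφ, hφ'⟩ := hlift p hp z hz
  obtain ⟨t, B, q₁, q₂, a, ht, hB, hsq, ha, -⟩ := exists_act_square hp
  have hjker : φ.1 j ∈ RingHom.ker p.toAlgHom := by
    change p (φ.1 j) = 0
    rw [show p (φ.1 j) = (pqMk hres hJ).1 j from AlgHom.congr_fun (congrArg Subtype.val hφ) j,
      pqMk_eq_zero]
    exact hj
  obtain ⟨c, hc⟩ := Ideal.mem_span_singleton.1 (ht ▸ hjker)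
  obtain ⟨β, hβ⟩ : ∃ β : k, β * TrivSqZeroExt.snd (δ.1 j) = -C.res c :=
    ⟨-C.res c / TrivSqZeroExt.snd (δ.1 j), div_mul_cancel₀ _ hjne⟩
  obtain ⟨ψ, ⟨hψ₁, hψ₂⟩, -⟩ := exists_homSet_pair hB φ (HomSet.map (Art.scale β) δ)
    (homSet_subsingleton_base.elim _ _)
  have hψ₁' : ∀ r, q₁ (ψ.1 r) = φ.1 r := fun r => AlgHom.congr_fun (congrArg Subtype.val hψ₁) r
  have hψ₂' : ∀ r, TrivSqZeroExt.snd (q₂ (ψ.1 r)) = β * TrivSqZeroExt.snd (δ.1 r) :=
    fun r => congrArg TrivSqZeroExt.snd (AlgHom.congr_fun (congrArg Subtype.val hψ₂) r)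
  refine ⟨HomSet.map a ψ, homSet_ext fun r => ?_, ?_⟩
  · change p (a (ψ.1 r)) = _
    rw [← hsq.w_apply, hψ₁']
    exact AlgHom.congr_fun (congrArg Subtype.val hφ) r
  · have hj0 : a (ψ.1 j) = 0 := by
      obtain ⟨d, hd⟩ := C.res_surjective (β * TrivSqZeroExt.snd (δ.1 j))
      rw [ha _ d (hd.trans (hψ₂' j).symm), hψ₁', hc, mul_comm t c, ← add_mul]
      have htk : p t = 0 := (ht ▸ Ideal.mem_span_singleton_self t : t ∈ RingHom.ker p.toAlgHom)
      rw [smallExt_mul_eq hp.2.2.2 htk (c' := 0) (by rw [map_add, hd, hβ, add_neg_cancel, map_zero]),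
        zero_mul]
    have hK : J' ⊔ Ideal.span {j} ≤ RingHom.ker (HomSet.map a ψ).1 := by
      refine sup_le (fun r hr => ?_) ((Ideal.span_singleton_le_iff_mem _).2 hj0)
      change a (ψ.1 r) = 0
      rw [ha _ 0 (by rw [hψ₂', hδ r hr, map_zero]; exact (mul_zero β).symm), hψ₁', hφ' r hr,
        zero_mul, add_zero]
    exact fun r hr => hK hr

variable (F) in
/-- A stage of the construction. -/
structure HState where
  /-- The ideal. -/
  J : Ideal P
  sub : IsSub resP J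
  /-- The element over `P/J`. -/
  x : F.obj (pq hres sub)

theorem exists_system (hP : HasLift resP) (hF : S1 F) (s₀ : HState hres F) :
    ∃ s : ℕ → HState hres F, s 0 = s₀ ∧ ∀ q, ∃ hle : (s (q + 1)).J ≤ (s q).J,
      F.map (pqMap hres (s q).sub (s (q + 1)).sub hle) (s (q + 1)).x = (s q).x ∧
      Lifts hres (s q).sub (s q).x (s (q + 1)).J ∧
      Tight (resP := resP) (s q).J (s (q + 1)).J := by
  have step : ∀ t : HState hres F, ∃ t' : HState hres F, ∃ hle : t'.J ≤ t.J,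
      F.map (pqMap hres t.sub t'.sub hle) t'.x = t.x ∧ Lifts hres t.sub t.x t'.J ∧
      Tight (resP := resP) t.J t'.J := fun t => by
    obtain ⟨J', hle, hJ', y, h⟩ := exists_step hres hP hF t.sub t.x
    exact ⟨⟨J', hJ', y⟩, hle, h⟩
  choose nx h using step
  obtain ⟨s, h0, hsucc⟩ : ∃ s : ℕ → HState hres F, s 0 = s₀ ∧ ∀ q, s (q + 1) = nx (s q) :=
    ⟨fun q => Nat.rec s₀ (fun _ t => nx t) q, rfl, fun _ => rfl⟩
  refine ⟨s, h0, fun q => ?_⟩
  rw [hsucc q]
  exact h (s q)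

omit [IsNoetherianRing P] [IsNoetherianRing Λ] [Module.Finite Λ k] in
theorem ker_res_eq (R : CRing Λ k) :
    RingHom.ker (R.res : R.carrier →+* k) = IsLocalRing.maximalIdeal R.carrier :=
  IsLocalRing.eq_maximalIdeal (RingHom.ker_isMaximal_of_surjective _ R.res_surjective)

omit [IsNoetherianRing P] [IsNoetherianRing Λ] [Module.Finite Λ k] in
/-- Factorisation of a map out of a complete ring through a map with small kernel. -/
theorem exists_factor (R : CRing Λ k) {A B : Art Λ k} (φ : HomSet R.carrier R.res A)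
    (π : HomSet R.carrier R.res B) (hπ : Function.Surjective π.1)
    (h : ∀ r, π.1 r = 0 → φ.1 r = 0) : ∃! f : B ⟶ A, HomSet.map f π = φ := by
  let e := Ideal.quotientKerAlgEquivOfSurjective (f := π.1) hπ
  let f : B →ₐ[Λ] A := (Ideal.Quotient.liftₐ (RingHom.ker π.1) φ.1 h).comp e.symm.toAlgHom
  have hf : ∀ r, f (π.1 r) = φ.1 r := fun r => by
    have : e.symm (π.1 r) = Ideal.Quotient.mk (RingHom.ker π.1) r := by
      rw [AlgEquiv.symm_apply_eq]; rfl
    change Ideal.Quotient.liftₐ (RingHom.ker π.1) φ.1 h (e.symm (π.1 r)) = _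
    rw [this]
    rfl
  refine ⟨Art.homMk f (AlgHom.ext fun b => ?_), homSet_ext hf, fun g hg => hom_ext' fun b => ?_⟩
  · obtain ⟨r, rfl⟩ := hπ b
    change A.res (f (π.1 r)) = B.res (π.1 r)
    rw [hf, homSet_res, homSet_res]
  · obtain ⟨r, rfl⟩ := hπ b
    exact (AlgHom.congr_fun (congrArg Subtype.val hg) r).trans (hf r).symm

/-- The family of a system. -/
theorem exists_versal_of_start (hP : HasLift resP) (h1 : S1 F) (h2 : Heps F)
    (s₀ : HState hres F)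
    (hsurj : ∀ e : F.obj (dual Λ k), ∃ τ : pq hres s₀.sub ⟶ dual Λ k, F.map τ s₀.x = e) :
    ∃ (R : CRing Λ k) (ξ : Family R.carrier R.res F)
      (ρ : HomSet R.carrier R.res (pq hres s₀.sub)),
      IsVersal ξ ∧ ξ.app _ ρ = s₀.x ∧
        Function.Bijective (fun τ : pq hres s₀.sub ⟶ dual Λ k => HomSet.map τ ρ) := by
  obtain ⟨s, hs0, hs⟩ := exists_system hres hP h1 s₀
  choose hle hx hlift htight using hs
  obtain ⟨R, π, hπc, hπs, -, hker, hpow⟩ := exists_limit_ring hres (fun q => (s q).J)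
    (fun q => (s q).sub) hle
  have hanti : ∀ {a b : ℕ}, a ≤ b → (s b).J ≤ (s a).J := fun h => antitone_nat_of_succ_le (f := fun q => (s q).J) hle h
  have hcompat : ∀ a b (h : a ≤ b),
      HomSet.map (pqMap hres (s a).sub (s b).sub (hanti h)) (π b) = π a ∧
        F.map (pqMap hres (s a).sub (s b).sub (hanti h)) (s b).x = (s a).x := by
    intro a b h
    induction b, h using Nat.le_induction with
    | base => rw [pqMap_self]; exact ⟨homSet_ext fun _ => rfl, map_id_apply _ _⟩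
    | succ b h ih =>
      rw [← pqMap_comp hres (s a).sub (s b).sub (s (b + 1)).sub (hle b) (hanti h)]
      refine ⟨?_, by rw [map_comp_apply, hx, ih.2]⟩
      rw [← ih.1, ← hπc b]
      rfl
  have hfac : ∀ (A : Art Λ k) (φ : HomSet R.carrier R.res A),
      ∃ q, ∃ f : pq hres (s q).sub ⟶ A, HomSet.map f (π q) = φ := fun A φ => by
    obtain ⟨n, hn⟩ := homSet_pow φ
    obtain ⟨q, hq⟩ := hker n
    obtain ⟨f, hf, -⟩ := exists_factor R φ (π q) (hπs q) fun r hr =>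
      hn r (by rw [ker_res_eq]; exact hq hr)
    exact ⟨q, f, hf⟩
  choose qf f hf using hfac
  have huniq : ∀ {A : Art Λ k} (φ : HomSet R.carrier R.res A) (q : ℕ)
      (g : pq hres (s q).sub ⟶ A), HomSet.map g (π q) = φ →
      F.map (f A φ) (s (qf A φ)).x = F.map g (s q).x := by
    intro A φ q g hg
    obtain ⟨c₁, d₁⟩ := hcompat (qf A φ) (max (qf A φ) q) (le_max_left _ _)
    obtain ⟨c₂, d₂⟩ := hcompat q (max (qf A φ) q) (le_max_right _ _)
    rw [← d₁, ← d₂, ← map_comp_apply, ← map_comp_apply]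
    refine congrArg (fun h => F.map h _) (hom_ext' fun b => ?_)
    obtain ⟨r, rfl⟩ := hπs _ b
    rw [Art.comp_apply, Art.comp_apply,
      show pqMap hres _ _ _ ((π (max (qf A φ) q)).1 r) = (π (qf A φ)).1 r from
        AlgHom.congr_fun (congrArg Subtype.val c₁) r,
      show pqMap hres _ _ _ ((π (max (qf A φ) q)).1 r) = (π q).1 r from
        AlgHom.congr_fun (congrArg Subtype.val c₂) r]
    exact AlgHom.congr_fun (congrArg Subtype.val ((hf A φ).trans hg.symm)) r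
  obtain ⟨ξ, hξ⟩ : ∃ ξ : Family R.carrier R.res F,
      ∀ A φ, ξ.app A φ = F.map (f A φ) (s (qf A φ)).x :=
    ⟨⟨fun A φ => F.map (f A φ) (s (qf A φ)).x, fun {A B} g φ => by
      rw [huniq (HomSet.map g φ) (qf A φ) (f A φ ≫ g)
        (homSet_ext fun r => congrArg g (AlgHom.congr_fun (congrArg Subtype.val (hf A φ)) r)),
        map_comp_apply]⟩, fun _ _ => rfl⟩
  have hval : ∀ {A : Art Λ k} (q : ℕ) (g : pq hres (s q).sub ⟶ A),
      ξ.app A (HomSet.map g (π q)) = F.map g (s q).x :=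
    fun q g => (hξ _ _).trans (huniq _ q g rfl)
  subst hs0
  refine ⟨R, ξ, π 0, (isVersal_iff_isSmoothMap ξ).2 (smooth_criterion _ homSet_subsingleton_base
    heps_hR (hbar_of_s1 h1) h2 (fun e => ?_) fun B A μ hμ φ y e => ?_), ?_, ?_, ?_⟩
  · obtain ⟨τ, hτ⟩ := hsurj e
    exact ⟨HomSet.map τ (π 0), (hval 0 τ).trans hτ⟩
  · obtain ⟨q, g, rfl⟩ : ∃ q, ∃ g : pq hres (s q).sub ⟶ A, HomSet.map g (π q) = φ :=
      ⟨_, _, hf A φ⟩
    obtain ⟨C, p₁, p₂, hC⟩ := exists_fp g μ hμ.1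
    obtain ⟨t, ht⟩ : ∃ t, RingHom.ker μ.toAlgHom = Ideal.span {t} := hμ.2.2.1.principal
    obtain ⟨b, -, -, -, hp₁⟩ := isSmallExt_fst hC hμ ht
    obtain ⟨z, hz₁, -⟩ := (cmp_surjective_iff F hC).1 (h1 _ _ _ _ hC hμ.1) (s q).x y
      ((hval q g).symm.trans e)
    obtain ⟨ψ, hψ, hψ'⟩ := hlift q p₁ hp₁ z hz₁
    refine ⟨HomSet.map (pqLift hres (s (q + 1)).sub ψ hψ' ≫ p₂) (π (q + 1)), ?_⟩
    change HomSet.map μ (HomSet.map (pqLift hres (s (q + 1)).sub ψ hψ' ≫ p₂) (π (q + 1))) =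
      HomSet.map g (π q)
    rw [← hπc q]
    refine homSet_ext fun r => ?_
    obtain ⟨a, ha⟩ := pqMk_surjective hres (s (q + 1)).sub ((π (q + 1)).1 r)
    change μ (p₂ (pqLift hres (s (q + 1)).sub ψ hψ' ((π (q + 1)).1 r))) =
      g (pqMap hres (s q).sub (s (q + 1)).sub (hle q) ((π (q + 1)).1 r))
    rw [← ha, ← hC.w_apply]
    exact congrArg g (AlgHom.congr_fun (congrArg Subtype.val hψ) a)
  · exact (hval 0 (𝟙 _)).trans (map_id_apply _ _)
  · intro τ τ' e
    refine hom_ext' fun b => ?_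
    obtain ⟨r, rfl⟩ := hπs 0 b
    exact AlgHom.congr_fun (congrArg Subtype.val e) r
  · intro φ
    obtain ⟨q, g, rfl⟩ : ∃ q, ∃ g : pq hres (s q).sub ⟶ dual Λ k, HomSet.map g (π q) = φ :=
      ⟨_, _, hf _ φ⟩
    have key : ∀ q, ∀ g : pq hres (s q).sub ⟶ dual Λ k, ∀ a ∈ (s 0).J,
        g ((pqMk hres (s q).sub).1 a) = 0 := by
      intro q
      induction q with
      | zero => intro g a ha; rw [(pqMk_eq_zero hres _).2 ha, map_zero]
      | succ q ih =>
        intro g a ha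
        obtain ⟨φ', hφ'⟩ : ∃ φ', φ' = HomSet.map g (pqMk hres (s (q + 1)).sub) := ⟨_, rfl⟩
        have hk : ∀ b ∈ (s q).J, φ'.1 b = 0 := htight q φ' fun b hb => by
          rw [hφ']
          change g ((pqMk hres (s (q + 1)).sub).1 b) = 0
          rw [(pqMk_eq_zero hres _).2 hb, map_zero]
        have := ih (pqLift hres (s q).sub φ' hk) a ha
        change φ'.1 a = 0 at this
        rw [hφ'] at this
        exact this
    refine ⟨pqLift hres (s 0).sub (HomSet.map g (pqMk hres (s q).sub)) (key q g), ?_⟩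
    change HomSet.map _ (π 0) = HomSet.map g (π q)
    rw [← (hcompat 0 q (Nat.zero_le q)).1]
    refine homSet_ext fun r => ?_
    obtain ⟨a, ha⟩ := pqMk_surjective hres (s q).sub ((π q).1 r)
    change pqLift hres (s 0).sub _ (key q g) (pqMap hres (s 0).sub (s q).sub (hanti (Nat.zero_le q)) ((π q).1 r)) = g ((π q).1 r)
    rw [← ha]
    rfl

end ArtLib
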