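import Groth.Agent.ArtLib.Torsor
import Groth.Agent.ArtLib.Hull
import Groth.Prelude.Def_W4sfdMinVersal
import Mathlib.RingTheory.AdicCompletion.RingHom
import Mathlib.RingTheory.Noetherian.Basic

/-!
# Minimal versal families
-/

set_option autoImplicit false

universe u v

open CategoryTheory

namespace ArtLib

open ArtFun ArtFun.Art

variable {Λ : Type u} {k : Type u} [CommRing Λ] [Field k] [Algebra Λ k]
variable {F : Art Λ k ⥤ Type v}

theorem truncMap_surjective (R : CRing Λ k) (n : ℕ) : Function.Surjective (R.truncMap n) := fun x => by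
  obtain ⟨a, rfl⟩ := Ideal.Quotient.mk_surjective x
  exact ⟨Ideal.Quotient.mk _ a, rfl⟩

theorem truncHom_surjective_min (R : CRing Λ k) (n : ℕ) : Function.Surjective (R.truncHom n).1 :=
  Ideal.Quotient.mk_surjective

theorem formalElt_ext {R : CRing Λ k} {u v : FormalElt F R} (n₀ : ℕ)
    (h : ∀ j, u.elt (n₀ + j) = v.elt (n₀ + j)) : u = v := by
  refine FormalElt.ext' fun n => ?_
  rcases le_total n₀ n with hn | hn
  · obtain ⟨j, rfl⟩ := Nat.exists_eq_add_of_le hn
    exact h j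
  · suffices ∀ d n, n + d = n₀ → u.elt n = v.elt n from this (n₀ - n) n (by omega)
    intro d
    induction d with
    | zero => intro n hn; obtain rfl : n = n₀ := by omega
              exact h 0
    | succ d ih => intro n hn; rw [← u.compat, ← v.compat, ih (n + 1) (by omega)]

theorem push_elt {R S : CRing Λ k} (ξ : Family R.carrier R.res F) (g : R.carrier →ₐ[Λ] S.carrier)
    (hg : S.res.comp g = R.res) (n : ℕ) (ψ : HomSet R.carrier R.res (S.trunc n))
    (h : ∀ r, ψ.1 r = Ideal.Quotient.mk _ (g r)) : (ξ.toFormalElt.push g hg).elt n = ξ.app _ ψ := by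
  change F.map (CRing.truncMapOfHom g hg n) (ξ.app _ (R.truncHom n)) = _
  rw [← ξ.natural]
  exact congrArg _ (homSet_ext fun r => (h r).symm)

theorem along_toFormalElt {R S : CRing Λ k} (ξ : Family R.carrier R.res F) (g : R.carrier →ₐ[Λ] S.carrier)
    (hg : S.res.comp g = R.res) : (ξ.along g hg).toFormalElt = ξ.toFormalElt.push g hg :=
  FormalElt.ext' fun n => ((push_elt ξ g hg n _ fun _ => rfl).trans rfl).symm

/-- The limit of a compatible sequence of maps to the truncations. -/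
theorem exists_limit_hom {R S : CRing Λ k} (n₀ : ℕ) (ψ : ∀ j, HomSet R.carrier R.res (S.trunc (n₀ + j)))
    (hψ : ∀ j, HomSet.map (S.truncMap (n₀ + j)) (ψ (j + 1)) = ψ j) :
    ∃ (g : R.carrier →ₐ[Λ] S.carrier) (_ : S.res.comp g = R.res),
      ∀ j r, (ψ j).1 r = Ideal.Quotient.mk _ (g r) := by
  have := S.isAdicComplete
  have key : ∀ (j i : ℕ), j ≤ i → ∀ r s, (ψ i).1 r = Ideal.Quotient.mk _ s →
      (ψ j).1 r = Ideal.Quotient.mk _ s := by
    intro j i hji
    induction hji with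
    | refl => exact fun _ _ h => h
    | @step i _ ih =>
      intro r s h
      refine ih r s ?_
      rw [← hψ i]
      change S.truncMap (n₀ + i) ((ψ (i + 1)).1 r) = _
      rw [h]
      rfl
  let m := IsLocalRing.maximalIdeal S.carrier
  let a : ∀ n, R.carrier →ₐ[Λ] S.carrier ⧸ m ^ n := fun n =>
    (Ideal.Quotient.factorₐ Λ (Ideal.pow_le_pow_right (show n ≤ n₀ + n + 1 by omega))).comp (ψ n).1
  have haval : ∀ n r s, (ψ n).1 r = Ideal.Quotient.mk _ s → a n r = Ideal.Quotient.mk _ s := fun n r s h => by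
    change Ideal.Quotient.factor (Ideal.pow_le_pow_right (show n ≤ n₀ + n + 1 by omega)) ((ψ n).1 r) = _
    rw [h]
    rfl
  have ha : ∀ {p q : ℕ} (hle : p ≤ q),
      (Ideal.Quotient.factorₐ Λ (Ideal.pow_le_pow_right hle)).comp (a q) = a p := fun {p q} hle => by
    refine AlgHom.ext fun r => ?_
    obtain ⟨s, hs⟩ := Ideal.Quotient.mk_surjective ((ψ q).1 r)
    rw [AlgHom.comp_apply, haval q r s hs.symm, haval p r s (key p q hle r s hs.symm)]
    rfl
  let g := IsAdicComplete.liftAlgHom m a ha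
  have hg : ∀ j r, (ψ j).1 r = Ideal.Quotient.mk _ (g r) := fun j r => by
    obtain ⟨s, hs⟩ := Ideal.Quotient.mk_surjective ((ψ (n₀ + j + 1)).1 r)
    have h1 := (IsAdicComplete.mk_liftAlgHom m a ha (n₀ + j + 1) r).trans (haval _ r s hs.symm)
    exact (key j _ (by omega) r s hs.symm).trans h1.symm
  refine ⟨g, AlgHom.ext fun r => ?_, hg⟩
  have h0 := homSet_res (ψ 0) r
  rw [hg 0 r] at h0
  exact h0

/-- A formal element is pushed forward from a versal family, with prescribed start. -/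
theorem exists_push_of_versal {R S : CRing Λ k} {ξ : Family R.carrier R.res F} (hξ : IsVersal ξ)
    (u : FormalElt F S) (n₀ : ℕ) (ψ₀ : HomSet R.carrier R.res (S.trunc n₀))
    (h₀ : ξ.app _ ψ₀ = u.elt n₀) :
    ∃ (g : R.carrier →ₐ[Λ] S.carrier) (hg : S.res.comp g = R.res),
      (∀ r, ψ₀.1 r = Ideal.Quotient.mk _ (g r)) ∧ ξ.toFormalElt.push g hg = u := by
  have step : ∀ j (φ : {φ : HomSet R.carrier R.res (S.trunc (n₀ + j)) // ξ.app _ φ = u.elt (n₀ + j)}),
      ∃ φ' : {φ : HomSet R.carrier R.res (S.trunc (n₀ + (j + 1))) // ξ.app _ φ = u.elt (n₀ + (j + 1))},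
        HomSet.map (S.truncMap (n₀ + j)) φ'.1 = φ.1 := fun j φ => by
    obtain ⟨ψ, h₁, h₂⟩ := hξ (S.truncMap (n₀ + j)) (truncMap_surjective S _) φ.1 (u.elt (n₀ + (j + 1)))
      ((u.compat _).trans φ.2.symm)
    exact ⟨⟨ψ, h₂⟩, h₁⟩
  choose nx hnx using step
  let ψ : ∀ j, {φ : HomSet R.carrier R.res (S.trunc (n₀ + j)) // ξ.app _ φ = u.elt (n₀ + j)} :=
    fun j => Nat.rec ⟨ψ₀, h₀⟩ (fun j φ => nx j φ) j
  obtain ⟨g, hg, hgψ⟩ := exists_limit_hom n₀ (fun j => (ψ j).1) fun j => hnx j (ψ j)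
  exact ⟨g, hg, hgψ 0, formalElt_ext n₀ fun j => (push_elt ξ g hg _ _ (hgψ j)).trans (ψ j).2⟩

theorem map_mpow_le {R R' : CRing Λ k} (f : R'.carrier →ₐ[Λ] R.carrier) (hf : R.res.comp f = R'.res) (n : ℕ)
    {x : R'.carrier} (hx : x ∈ IsLocalRing.maximalIdeal R'.carrier ^ n) :
    f x ∈ IsLocalRing.maximalIdeal R.carrier ^ n := by
  rcases n with _ | n
  · simp
  · exact CRing.mpow_le_comap f hf n hx

/-- A map of coefficient rings surjective on cotangent spaces is surjective. -/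
theorem cring_surjective_of_cotangent_min {R R' : CRing Λ k} (f : R'.carrier →ₐ[Λ] R.carrier)
    (hf : R.res.comp f = R'.res)
    (h : ∀ x ∈ IsLocalRing.maximalIdeal R.carrier, ∃ a, x - f a ∈ IsLocalRing.maximalIdeal R.carrier ^ 2) :
    Function.Surjective f := by
  have := R.isAdicComplete
  have := R'.isAdicComplete
  let m := IsLocalRing.maximalIdeal R.carrier
  let m' := IsLocalRing.maximalIdeal R'.carrier
  have hres : ∀ a, R.res (f a) = R'.res a := fun a => AlgHom.congr_fun hf a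
  have h1 : ∀ x ∈ m, ∃ a ∈ m', x - f a ∈ m ^ 2 := fun x hx => by
    obtain ⟨a, ha⟩ := h x hx
    refine ⟨a, (CRing.mem_maximalIdeal_iff _ a).2 ?_, ha⟩
    have h2 := (CRing.mem_maximalIdeal_iff _ _).1 (Ideal.pow_le_self two_ne_zero ha)
    rw [map_sub, (CRing.mem_maximalIdeal_iff _ _).1 hx, zero_sub, neg_eq_zero, hres] at h2
    exact h2
  have hgr : ∀ n : ℕ, ∀ x ∈ m ^ n, ∃ a ∈ m' ^ n, x - f a ∈ m ^ (n + 1) := by
    intro n
    induction n with
    | zero =>
      intro x _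
      obtain ⟨a, ha⟩ := R'.res_surjective (R.res x)
      refine ⟨a, by simp, ?_⟩
      rw [pow_one]
      refine (CRing.mem_maximalIdeal_iff _ _).2 ?_
      rw [map_sub, hres, ha, sub_self]
    | succ n ih =>
      intro x hx
      rw [pow_succ] at hx
      induction hx using Submodule.mul_induction_on' with
      | mem_mul_mem y hy z hz =>
        obtain ⟨a, ha, hya⟩ := ih y hy
        obtain ⟨b, hb, hzb⟩ := h1 z hz
        refine ⟨a * b, by rw [pow_succ]; exact Ideal.mul_mem_mul ha hb, ?_⟩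
        rw [map_mul, show y * z - f a * f b = (y - f a) * z + f a * (z - f b) by ring]
        refine add_mem (by rw [pow_succ]; exact Ideal.mul_mem_mul hya hz) ?_
        rw [show n + 1 + 1 = n + 2 from rfl, pow_add]
        refine Ideal.mul_mem_mul ?_ hzb
        exact map_mpow_le f hf n ha
      | add y _ z _ hy hz =>
        obtain ⟨a, ha, hya⟩ := hy
        obtain ⟨b, hb, hzb⟩ := hz
        exact ⟨a + b, add_mem ha hb, by rw [map_add, add_sub_add_comm]; exact add_mem hya hzb⟩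
  intro x
  have step : ∀ n (a : {a : R'.carrier // x - f a ∈ m ^ n}),
      ∃ a' : {a : R'.carrier // x - f a ∈ m ^ (n + 1)}, a'.1 - a.1 ∈ m' ^ n := fun n a => by
    obtain ⟨b, hb, hxb⟩ := hgr n _ a.2
    exact ⟨⟨a.1 + b, by rw [map_add, ← sub_sub]; exact hxb⟩, by simpa using hb⟩
  choose nx hnx using step
  let s : ∀ n, {a : R'.carrier // x - f a ∈ m ^ n} :=
    fun n => Nat.rec ⟨0, by simp⟩ (fun n a => nx n a) n
  have hs : ∀ n, (s (n + 1)).1 - (s n).1 ∈ m' ^ n := fun n => hnx n (s n)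
  obtain ⟨L, hL⟩ := IsPrecomplete.prec' (I := m') (fun n => (s n).1) fun {p q} hpq => by
    induction hpq with
    | refl => exact SModEq.refl _
    | @step q hpq ih =>
      refine ih.trans (SModEq.sub_mem.2 ?_)
      rw [smul_eq_mul, Ideal.mul_top, ← neg_sub]
      exact neg_mem (Ideal.pow_le_pow_right hpq (hs q))
  refine ⟨L, sub_eq_zero.1 (IsHausdorff.haus' (I := m) (f L - x) fun n => SModEq.sub_mem.2 ?_)⟩
  rw [smul_eq_mul, Ideal.mul_top, sub_zero]
  have h2 := SModEq.sub_mem.1 (hL n)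
  rw [smul_eq_mul, Ideal.mul_top] at h2
  have h3 : f ((s n).1 - L) ∈ m ^ n := map_mpow_le f hf n h2
  have h4 := neg_mem (add_mem h3 (s n).2)
  rw [map_sub] at h4
  rwa [show -(f (s n).1 - f L + (x - f (s n).1)) = f L - x by ring] at h4

/-- A miniversal family is minimal. -/
theorem isMinimalVersal_of_miniversal {R : CRing Λ k} (ξ : Family R.carrier R.res F)
    (hξ : IsMiniversal ξ) : ξ.IsMinimalVersal := by
  classical
  refine ⟨hξ.1, fun R' u f hf hu => cring_surjective_of_cotangent_min f hf fun x₀ hx₀ => ?_⟩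
  by_contra hno
  push Not at hno
  let m := IsLocalRing.maximalIdeal R.carrier
  have hres : ∀ a, R.res (f a) = R'.res a := fun a => AlgHom.congr_fun hf a
  -- `W = f(R') + m²` inside `m`
  let W : Ideal R.carrier :=
    { carrier := {x | x ∈ m ∧ ∃ a, x - f a ∈ m ^ 2}
      add_mem' := fun {p q} hp hq => by
        obtain ⟨hp, a, ha⟩ := hp
        obtain ⟨hq, b, hb⟩ := hq
        exact ⟨add_mem hp hq, a + b, by rw [map_add, add_sub_add_comm]; exact add_mem ha hb⟩
      zero_mem' := ⟨zero_mem _, 0, by simp⟩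
      smul_mem' := fun r p hp => by
        obtain ⟨hp, a, ha⟩ := hp
        obtain ⟨b, hb⟩ := R'.res_surjective (R.res r)
        refine ⟨Ideal.mul_mem_left _ r hp, b * a, ?_⟩
        rw [smul_eq_mul, map_mul, show r * p - f b * f a = (r - f b) * p + f b * (p - f a) by ring]
        refine add_mem ?_ (Ideal.mul_mem_left _ _ ha)
        rw [pow_two]
        refine Ideal.mul_mem_mul ((CRing.mem_maximalIdeal_iff _ _).2 ?_) hp
        rw [map_sub, hres, hb, sub_self] }
  have hmW : m ^ 2 ≤ W := fun p hp => ⟨Ideal.pow_le_self two_ne_zero hp, 0, by simpa using hp⟩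
  let mk := Ideal.Quotient.mk W
  let resQ : R.carrier ⧸ W →ₐ[Λ] k :=
    Ideal.Quotient.liftₐ W R.res fun p hp => (CRing.mem_maximalIdeal_iff _ _).1 hp.1
  -- the section
  let t : R'.carrier →ₐ[Λ] R.carrier ⧸ W := (Ideal.Quotient.mkₐ Λ W).comp f
  have hker : ∀ a, R'.res a = 0 → t a = 0 := fun a ha => by
    refine Ideal.Quotient.eq_zero_iff_mem.2 ⟨(CRing.mem_maximalIdeal_iff _ _).2 ((hres a).trans ha), a, ?_⟩
    simp
  obtain ⟨σ, hσ⟩ : ∃ σ : k →ₐ[Λ] R.carrier ⧸ W, ∀ a, σ (R'.res a) = t a := by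
    let e := Ideal.quotientKerAlgEquivOfSurjective (f := R'.res) R'.res_surjective
    refine ⟨(Ideal.Quotient.liftₐ (RingHom.ker R'.res) t hker).comp e.symm.toAlgHom, fun a => ?_⟩
    have : e.symm (R'.res a) = Ideal.Quotient.mk (RingHom.ker R'.res) a := by
      rw [AlgEquiv.symm_apply_eq]; rfl
    change Ideal.Quotient.liftₐ (RingHom.ker R'.res) t hker (e.symm (R'.res a)) = _
    rw [this]
    rfl
  have hresσ : ∀ c, resQ (σ c) = c := fun c => by
    obtain ⟨a, rfl⟩ := R'.res_surjective c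
    rw [hσ]
    exact hres a
  letI : Algebra k (R.carrier ⧸ W) := σ.toRingHom.toAlgebra
  obtain ⟨ℓ, hℓ⟩ : ∃ ℓ : R.carrier ⧸ W →ₗ[k] k, ℓ (mk x₀) = 1 := by
    have hx₀W : mk x₀ ≠ 0 := fun h => by
      obtain ⟨-, a, ha⟩ := Ideal.Quotient.eq_zero_iff_mem.1 h
      exact hno a ha
    obtain ⟨ℓ, hℓ⟩ := Module.Projective.exists_dual_ne_zero k hx₀W
    exact ⟨(ℓ (mk x₀))⁻¹ • ℓ, by rw [LinearMap.smul_apply, smul_eq_mul, inv_mul_cancel₀ hℓ]⟩
  let E : R.carrier ⧸ W → k := fun q => ℓ (q - σ (resQ q))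
  have hsq : ∀ p q : R.carrier ⧸ W, (p - σ (resQ p)) * (q - σ (resQ q)) = 0 := fun p q => by
    obtain ⟨p', hp'⟩ := Ideal.Quotient.mk_surjective (p - σ (resQ p))
    obtain ⟨q', hq'⟩ := Ideal.Quotient.mk_surjective (q - σ (resQ q))
    rw [← hp', ← hq', ← map_mul, Ideal.Quotient.eq_zero_iff_mem]
    refine hmW ?_
    rw [pow_two]
    refine Ideal.mul_mem_mul ((CRing.mem_maximalIdeal_iff _ _).2 ?_) ((CRing.mem_maximalIdeal_iff _ _).2 ?_)
    · show resQ (Ideal.Quotient.mk W p') = 0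
      rw [hp', map_sub, hresσ, sub_self]
    · show resQ (Ideal.Quotient.mk W q') = 0
      rw [hq', map_sub, hresσ, sub_self]
  have hEmul : ∀ p q, E (p * q) = resQ p * E q + resQ q * E p := fun p q => by
    have : p * q - σ (resQ (p * q)) = resQ p • (q - σ (resQ q)) + resQ q • (p - σ (resQ p)) := by
      rw [Algebra.smul_def, Algebra.smul_def, map_mul, map_mul]
      change _ = σ (resQ p) * _ + σ (resQ q) * _
      linear_combination hsq p q
    change ℓ _ = _
    rw [this, map_add, map_smul, map_smul, smul_eq_mul, smul_eq_mul]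
  let φ₁' : R.carrier ⧸ W →ₐ[Λ] TrivSqZeroExt k k :=
    { toFun := fun q => TrivSqZeroExt.inl (resQ q) + TrivSqZeroExt.inr (E q)
      map_one' := by simp [E]
      map_zero' := by simp [E]
      map_add' := fun p q => by
        refine TrivSqZeroExt.ext (by simp) ?_
        simp only [TrivSqZeroExt.snd_add, TrivSqZeroExt.snd_inl, TrivSqZeroExt.snd_inr, zero_add, E]
        rw [← map_add, map_add resQ, map_add σ]
        congr 1
        ring
      map_mul' := fun p q => by
        refine TrivSqZeroExt.ext (by simp) ?_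
        simp only [TrivSqZeroExt.snd_mul, TrivSqZeroExt.snd_add, TrivSqZeroExt.snd_inl, TrivSqZeroExt.snd_inr,
          TrivSqZeroExt.fst_add, TrivSqZeroExt.fst_inl, TrivSqZeroExt.fst_inr, zero_add, add_zero, hEmul,
          smul_eq_mul, op_smul_eq_smul]
      commutes' := fun r => by
        refine TrivSqZeroExt.ext (by simp [TrivSqZeroExt.algebraMap_eq_inl']) ?_
        simp [TrivSqZeroExt.algebraMap_eq_inl', E] }
  let φ₁ : HomSet R.carrier R.res (dual Λ k) := ⟨φ₁'.comp (Ideal.Quotient.mkₐ Λ W), AlgHom.ext fun r => by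
    change TrivSqZeroExt.fst (TrivSqZeroExt.inl (resQ (mk r)) + TrivSqZeroExt.inr (E (mk r))) = R.res r
    rw [TrivSqZeroExt.fst_add, TrivSqZeroExt.fst_inl, TrivSqZeroExt.fst_inr, add_zero]
    rfl⟩
  let φ₀ : HomSet R.carrier R.res (dual Λ k) := HomSet.map baseToDual ⟨R.res, AlgHom.id_comp _⟩
  have hkill : ∀ φ : HomSet R.carrier R.res (dual Λ k), ∀ r ∈ CRing.mpow R 1, φ.1 r = 0 := fun φ r hr => by
    rw [CRing.mpow, pow_succ, pow_one] at hr
    induction hr using Submodule.mul_induction_on' with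
    | mem_mul_mem y hy z hz =>
      rw [map_mul]
      have hy' : TrivSqZeroExt.fst (φ.1 y) = 0 :=
        (homSet_res φ y).trans ((CRing.mem_maximalIdeal_iff _ _).1 hy)
      have hz' : TrivSqZeroExt.fst (φ.1 z) = 0 :=
        (homSet_res φ z).trans ((CRing.mem_maximalIdeal_iff _ _).1 hz)
      refine TrivSqZeroExt.ext ?_ ?_
      · change TrivSqZeroExt.fst (φ.1 y) * TrivSqZeroExt.fst (φ.1 z) = 0
        rw [hy', zero_mul]
      · change (φ.1 y).fst • (φ.1 z).snd + MulOpposite.op (φ.1 z).fst • (φ.1 y).snd = 0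
        rw [hy', hz', MulOpposite.op_zero, zero_smul, zero_smul, add_zero]
    | add y _ z _ hy hz => rw [map_add, hy, hz, add_zero]
  obtain ⟨τ₁, hτ₁, -⟩ := exists_factor R φ₁ (R.truncHom 1) (truncHom_surjective_min R 1)
    fun r hr => hkill φ₁ r (Ideal.Quotient.eq_zero_iff_mem.1 hr)
  obtain ⟨τ₀, hτ₀, -⟩ := exists_factor R φ₀ (R.truncHom 1) (truncHom_surjective_min R 1)
    fun r hr => hkill φ₀ r (Ideal.Quotient.eq_zero_iff_mem.1 hr)
  have hval : ∀ τ : R.trunc 1 ⟶ dual Λ k,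
      ξ.app _ (HomSet.map τ (R.truncHom 1)) = F.map (CRing.truncMapOfHom f hf 1 ≫ τ) (u.elt 1) := fun τ => by
    rw [map_comp_apply, ξ.natural]
    exact congrArg (F.map τ) (congrArg (fun w => FormalElt.elt w 1) hu).symm
  have hcomp : CRing.truncMapOfHom f hf 1 ≫ τ₁ = CRing.truncMapOfHom f hf 1 ≫ τ₀ := by
    refine hom_ext' fun y => ?_
    obtain ⟨a, rfl⟩ := Ideal.Quotient.mk_surjective y
    change τ₁ ((R.truncHom 1).1 (f a)) = τ₀ ((R.truncHom 1).1 (f a))
    refine (AlgHom.congr_fun (congrArg Subtype.val hτ₁) (f a)).trans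
      (Eq.trans ?_ (AlgHom.congr_fun (congrArg Subtype.val hτ₀) (f a)).symm)
    have hEa : E (mk (f a)) = 0 := by
      change ℓ (mk (f a) - σ (resQ (mk (f a)))) = 0
      rw [show resQ (mk (f a)) = R'.res a from hres a, hσ]
      exact (congrArg ℓ (sub_self _)).trans (map_zero ℓ)
    refine TrivSqZeroExt.ext ?_ ?_
    · change TrivSqZeroExt.fst (TrivSqZeroExt.inl (resQ (mk (f a))) + TrivSqZeroExt.inr (E (mk (f a)))) = _
      rw [TrivSqZeroExt.fst_add, TrivSqZeroExt.fst_inl, TrivSqZeroExt.fst_inr, add_zero]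
      rfl
    · change TrivSqZeroExt.snd (TrivSqZeroExt.inl (resQ (mk (f a))) + TrivSqZeroExt.inr (E (mk (f a)))) = 0
      simp [hEa]
  have heq : φ₁ = φ₀ := hξ.2.1 (by rw [← hτ₁, ← hτ₀, hval, hval, hcomp])
  have := congrArg (fun φ : HomSet R.carrier R.res (dual Λ k) => TrivSqZeroExt.snd (φ.1 x₀)) heq
  change TrivSqZeroExt.snd (TrivSqZeroExt.inl (resQ (mk x₀)) + TrivSqZeroExt.inr (E (mk x₀))) = 0 at this
  have hx0 : resQ (mk x₀) = 0 := (CRing.mem_maximalIdeal_iff _ _).1 hx₀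
  simp [E, hx0, hℓ] at this

theorem cring_endo_injective {R : CRing Λ k} (e : R.carrier →ₐ[Λ] R.carrier) (he : Function.Surjective e) :
    Function.Injective e := by
  let c : ℕ →o Ideal R.carrier :=
    ⟨fun n => RingHom.ker ((e ^ n : R.carrier →ₐ[Λ] R.carrier)), monotone_nat_of_le_succ fun n x hx => by
      rw [RingHom.mem_ker] at hx ⊢
      rw [pow_succ']
      change e ((e ^ n) x) = 0
      rw [hx, map_zero]⟩
  obtain ⟨n, hn⟩ := monotone_stabilizes_iff_noetherian.2 inferInstance c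
  have hs : Function.Surjective (e ^ n : R.carrier →ₐ[Λ] R.carrier) := by
    clear hn
    induction n with
    | zero => exact fun x => ⟨x, rfl⟩
    | succ n ih => rw [pow_succ']; exact he.comp ih
  refine (injective_iff_map_eq_zero e).2 fun x hx => ?_
  obtain ⟨y, rfl⟩ := hs x
  have : y ∈ c (n + 1) := RingHom.mem_ker.2 (by rw [pow_succ']; exact hx)
  rw [← hn (n + 1) (Nat.le_succ n)] at this
  exact RingHom.mem_ker.1 this

/-- Minimal versal families are unique up to isomorphism. -/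
theorem minimalVersal_unique (h0 : H0 F) {R₁ R₂ : CRing Λ k}
    (ξ₁ : Family R₁.carrier R₁.res F) (ξ₂ : Family R₂.carrier R₂.res F)
    (h₁ : ξ₁.IsMinimalVersal) (h₂ : ξ₂.IsMinimalVersal) :
    ∃ (e : R₁.carrier ≃ₐ[Λ] R₂.carrier) (he : R₂.res.comp (e : R₁.carrier →ₐ[Λ] R₂.carrier) = R₁.res),
      (ξ₁.along (e : R₁.carrier →ₐ[Λ] R₂.carrier) he).toFormalElt = ξ₂.toFormalElt := by
  obtain ⟨ψ₁, hψ₁⟩ := surjective_app_of_versal h0 ξ₁ h₁.1 (R₂.trunc 0) (ξ₂.toFormalElt.elt 0)
  obtain ⟨f, hf, -, hfu⟩ := exists_push_of_versal h₁.1 ξ₂.toFormalElt 0 ψ₁ hψ₁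
  obtain ⟨ψ₂, hψ₂⟩ := surjective_app_of_versal h0 ξ₂ h₂.1 (R₁.trunc 0) (ξ₁.toFormalElt.elt 0)
  obtain ⟨g, hg, -, hgu⟩ := exists_push_of_versal h₂.1 ξ₁.toFormalElt 0 ψ₂ hψ₂
  have hfs : Function.Surjective f := h₂.2 R₁ _ f hf hfu
  have hgs : Function.Surjective g := h₁.2 R₂ _ g hg hgu
  have hfi : Function.Injective f := by
    have hgf := cring_endo_injective (g.comp f) (hgs.comp hfs)
    exact fun a b h => hgf (show g (f a) = g (f b) by rw [h])
  exact ⟨AlgEquiv.ofBijective f ⟨hfi, hfs⟩, hf, (along_toFormalElt ξ₁ f hf).trans hfu⟩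

variable [IsNoetherianRing Λ] [Module.Finite Λ k]

/-- A minimal versal family is miniversal when `k` has no derivations over `Λ`. -/
theorem isMiniversal_of_minimalVersal (hk : Subsingleton (Derivation Λ k k)) (h0 : H0 F) (h2 : Heps F)
    {R : CRing Λ k} (ξ : Family R.carrier R.res F) (hξ : ξ.IsMinimalVersal) : IsMiniversal ξ := by
  refine ⟨hξ.1, fun φ ψ hval => ?_, tangent_surjective_of_isVersal h0 hξ.1⟩
  by_contra hne
  let m := IsLocalRing.maximalIdeal R.carrier
  let δ : R.carrier → k := fun r => TrivSqZeroExt.snd (φ.1 r) - TrivSqZeroExt.snd (ψ.1 r)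
  have hmul : ∀ χ : HomSet R.carrier R.res (dual Λ k), ∀ a b, TrivSqZeroExt.snd (χ.1 (a * b)) =
      R.res a * TrivSqZeroExt.snd (χ.1 b) + R.res b * TrivSqZeroExt.snd (χ.1 a) := fun χ a b => by
    rw [map_mul]
    change (χ.1 a).fst • (χ.1 b).snd + MulOpposite.op (χ.1 b).fst • (χ.1 a).snd = _
    rw [op_smul_eq_smul, show (χ.1 a).fst = R.res a from homSet_res χ a,
      show (χ.1 b).fst = R.res b from homSet_res χ b, smul_eq_mul, smul_eq_mul]
  have δmul : ∀ a b, δ (a * b) = R.res a * δ b + R.res b * δ a := fun a b => by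
    simp only [δ, hmul]; ring
  have δadd : ∀ a b, δ (a + b) = δ a + δ b := fun a b => by
    simp only [δ, map_add]
    change (TrivSqZeroExt.snd (φ.1 a) + TrivSqZeroExt.snd (φ.1 b)) -
      (TrivSqZeroExt.snd (ψ.1 a) + TrivSqZeroExt.snd (ψ.1 b)) = _
    ring
  have δalg : ∀ c, δ (algebraMap Λ R.carrier c) = 0 := fun c => by
    simp only [δ, AlgHom.commutes, sub_self]
  obtain ⟨e₀, he₀, hδe₀⟩ : ∃ e ∈ m, δ e ≠ 0 := by
    by_contra h
    push Not at h
    choose s hs using R.res_surjective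
    have hδ : ∀ a b, R.res a = R.res b → δ a = δ b := fun a b hab => by
      have h2 := h (a - b) ((CRing.mem_maximalIdeal_iff _ _).2 (by rw [map_sub, hab, sub_self]))
      rw [show a = (a - b) + b by ring, δadd, h2, zero_add]
    let D : Derivation Λ k k := Derivation.mk'
      { toFun := fun c => δ (s c)
        map_add' := fun a b => by
          rw [hδ (s (a + b)) (s a + s b) (by rw [map_add, hs, hs, hs]), δadd]
        map_smul' := fun r a => by
          rw [hδ (s (r • a)) (algebraMap Λ _ r * s a)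
            (by rw [map_mul, hs, hs, AlgHom.commutes, Algebra.smul_def]), δmul, δalg, mul_zero, add_zero,
            RingHom.id_apply, Algebra.smul_def, AlgHom.commutes] }
      fun a b => by
        change δ (s (a * b)) = a • δ (s b) + b • δ (s a)
        rw [hδ (s (a * b)) (s a * s b) (by rw [map_mul, hs, hs, hs]), δmul, hs, hs, smul_eq_mul, smul_eq_mul]
    have hD : ∀ c, δ (s c) = 0 := fun c => DFunLike.congr_fun (Subsingleton.elim D 0) c
    refine hne (homSet_ext fun r => TrivSqZeroExt.ext ((homSet_res φ r).trans (homSet_res ψ r).symm) ?_)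
    exact sub_eq_zero.1 ((hδ r (s (R.res r)) (hs _).symm).trans (hD _))
  obtain ⟨c₀, hc₀⟩ := R.res_surjective (δ e₀)⁻¹
  let e := c₀ * e₀
  have he : e ∈ m := Ideal.mul_mem_left _ _ he₀
  have hδe : δ e = 1 := by
    rw [δmul, (CRing.mem_maximalIdeal_iff _ _).1 he₀, zero_mul, add_zero, hc₀, inv_mul_cancel₀ hδe₀]
  -- the class of `e` in the first truncation
  let B := R.trunc 1
  let q := R.truncHom 1
  let t : B := q.1 e
  have ht0 : t ≠ 0 := fun h => by
    have h' : e ∈ CRing.mpow R 1 := Ideal.Quotient.eq_zero_iff_mem.1 h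
    rw [CRing.mpow, pow_succ, pow_one] at h'
    have : ∀ z ∈ m * m, δ z = 0 := fun z hz => by
      induction hz using Submodule.mul_induction_on' with
      | mem_mul_mem a ha b hb =>
        rw [δmul, (CRing.mem_maximalIdeal_iff _ _).1 ha, (CRing.mem_maximalIdeal_iff _ _).1 hb,
          zero_mul, zero_mul, add_zero]
      | add a _ b _ ha hb => rw [δadd, ha, hb, add_zero]
    exact one_ne_zero (hδe.symm.trans (this e h'))
  have hsub : IsSub R.res (CRing.mpow R 1 ⊔ Ideal.span {e}) :=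
    ⟨fun p hp => (CRing.mem_maximalIdeal_iff _ _).1
      (sup_le (CRing.mpow_le R 1) ((Ideal.span_singleton_le_iff_mem _).2 he) hp),
      2, by rw [ker_res_eq]; exact le_sup_left⟩
  obtain ⟨p, hp, -⟩ := exists_factor R (pqMk R.res_surjective hsub) q (truncHom_surjective_min R 1)
    fun r hr => (pqMk_eq_zero _ _).2 (Ideal.mem_sup_left (Ideal.Quotient.eq_zero_iff_mem.1 hr))
  have hpq : ∀ r, p (q.1 r) = (pqMk R.res_surjective hsub).1 r := fun r =>
    AlgHom.congr_fun (congrArg Subtype.val hp) r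
  have hker : RingHom.ker p.toAlgHom = Ideal.span {t} := by
    ext y
    obtain ⟨r, rfl⟩ := truncHom_surjective_min R 1 y
    rw [RingHom.mem_ker]
    refine (iff_of_eq (congrArg (· = 0) (hpq r))).trans ((pqMk_eq_zero _ _).trans ⟨fun h => ?_, fun h => ?_⟩)
    · obtain ⟨a, ha, b, hb, rfl⟩ := Submodule.mem_sup.1 h
      obtain ⟨w, rfl⟩ := Ideal.mem_span_singleton.1 hb
      rw [map_add, map_mul, show q.1 a = 0 from Ideal.Quotient.eq_zero_iff_mem.2 ha, zero_add]
      exact Ideal.mul_mem_right _ _ (Ideal.mem_span_singleton_self _)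
    · obtain ⟨w, hw⟩ := Ideal.mem_span_singleton.1 h
      obtain ⟨w', rfl⟩ := truncHom_surjective_min R 1 w
      rw [← map_mul] at hw
      have := Ideal.Quotient.eq.1 hw
      rw [show r = (r - e * w') + e * w' by ring]
      exact Submodule.add_mem_sup this (Ideal.mul_mem_right _ _ (Ideal.mem_span_singleton_self _))
  have hm : IsLocalRing.maximalIdeal B * RingHom.ker p.toAlgHom = ⊥ := by
    rw [hker, eq_bot_iff, Ideal.mul_le]
    intro a ha b hb
    obtain ⟨w, rfl⟩ := Ideal.mem_span_singleton.1 hb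
    obtain ⟨a', rfl⟩ := truncHom_surjective_min R 1 a
    rw [Ideal.mem_bot, ← mul_assoc]
    refine mul_eq_zero_of_left ?_ _
    rw [← map_mul]
    refine Ideal.Quotient.eq_zero_iff_mem.2 ?_
    rw [CRing.mpow, pow_succ, pow_one]
    refine Ideal.mul_mem_mul ((CRing.mem_maximalIdeal_iff _ _).2 ?_) he
    exact (homSet_res q a').symm.trans ((Art.mem_maximalIdeal_iff _ _).1 ha)
  obtain ⟨P, q₁, q₂, hP⟩ := exists_fp (toBase B) (toBase (dual Λ k)) (toBase_surjective _)
  obtain ⟨act, hact, -⟩ := exists_act hker ht0 hm hP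
  obtain ⟨ν, hν⟩ : ∃ ν : dual Λ k ⟶ dual Λ k, ∀ x, TrivSqZeroExt.snd (ν x) = - TrivSqZeroExt.snd x :=
    ⟨scale (-1), fun x => by
      change (-1 : k) • TrivSqZeroExt.snd x = _
      rw [neg_one_smul]⟩
  have hpairs : ∀ (a : HomSet R.carrier R.res B) (b : HomSet R.carrier R.res (dual Λ k)),
      ∃ z : HomSet R.carrier R.res P, HomSet.map q₁ z = a ∧ HomSet.map q₂ z = b ∧
        ∀ r c, B.res c = TrivSqZeroExt.snd (b.1 r) → (HomSet.map act z).1 r = a.1 r + c * t := fun a b => by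
    obtain ⟨z, ⟨h₁, h₂⟩, -⟩ := exists_homSet_pair hP a b (homSet_subsingleton_base.elim _ _)
    refine ⟨z, h₁, h₂, fun r c hc => ?_⟩
    refine (hact (z.1 r) c ?_).trans ?_
    · rw [hc, ← h₂]; rfl
    · rw [← h₁]; rfl
  have hlift : ∀ (a : HomSet R.carrier R.res B) (z z' : HomSet R.carrier R.res P),
      HomSet.map q₁ z = a → HomSet.map q₁ z' = a →
      ξ.app _ (HomSet.map q₂ z) = ξ.app _ (HomSet.map q₂ z') →
      ξ.app _ (HomSet.map act z) = ξ.app _ (HomSet.map act z') := fun a z z' e₁ e₁' e₂ => by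
    rw [ξ.natural, ξ.natural, (cmp_injective_iff F hP).1 (h2 _ _ hP).1 (ξ.app _ z) (ξ.app _ z')
      (by rw [← ξ.natural, ← ξ.natural, e₁, e₁']) (by rw [← ξ.natural, ← ξ.natural, e₂])]
  -- `χ = q - φ(·) e`
  obtain ⟨z₀, -, -, hz₀⟩ := hpairs q (HomSet.map ν φ)
  let χ := HomSet.map act z₀
  obtain ⟨z₁, hz₁a, hz₁b, hz₁⟩ := hpairs χ φ
  obtain ⟨z₂, hz₂a, hz₂b, hz₂⟩ := hpairs χ ψ
  let θ := HomSet.map act z₂
  have hθ : ξ.app _ θ = ξ.app _ q := by
    refine (hlift χ z₂ z₁ hz₂a hz₁a (by rw [hz₁b, hz₂b, hval])).trans (congrArg _ (homSet_ext fun r => ?_))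
    obtain ⟨c, hc⟩ := B.res_surjective (TrivSqZeroExt.snd (φ.1 r))
    rw [hz₁ r c hc, hz₀ r (-c) (by rw [map_neg, hc]; exact (hν _).symm)]
    ring
  have hθe : θ.1 e = 0 := by
    obtain ⟨c, hc⟩ := B.res_surjective (TrivSqZeroExt.snd (ψ.1 e))
    obtain ⟨d, hd⟩ := B.res_surjective (TrivSqZeroExt.snd (φ.1 e))
    rw [hz₂ e c hc, hz₀ e (-d) (by rw [map_neg, hd]; exact (hν _).symm),
      show q.1 e + -d * t + c * t = (1 - d + c) * t by ring]
    rw [← zero_mul t]
    refine smallExt_mul_eq hm (hker ▸ Ideal.mem_span_singleton_self t : t ∈ RingHom.ker p.toAlgHom) ?_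
    rw [map_add, map_sub, map_one, map_zero, hc, hd]
    have hδe' : TrivSqZeroExt.snd (φ.1 e) - TrivSqZeroExt.snd (ψ.1 e) = 1 := hδe
    linear_combination -hδe'
  obtain ⟨g, hg, hgθ, hgu⟩ := exists_push_of_versal hξ.1 ξ.toFormalElt 1 θ hθ
  have hgs : Function.Surjective g := hξ.2 R ξ.toFormalElt g hg hgu
  obtain ⟨θ', hθ', -⟩ := exists_factor R θ q (truncHom_surjective_min R 1) fun r hr => by
    rw [hgθ]
    exact Ideal.Quotient.eq_zero_iff_mem.2 (CRing.mpow_le_comap g hg 1 (Ideal.Quotient.eq_zero_iff_mem.1 hr))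
  have hθ's : Function.Surjective θ'.toAlgHom := fun y => by
    obtain ⟨r, rfl⟩ := truncHom_surjective_min R 1 y
    obtain ⟨r', rfl⟩ := hgs r
    exact ⟨q.1 r', ((AlgHom.congr_fun (congrArg Subtype.val hθ') r').trans (hgθ r')).trans rfl⟩
  have hθ'i : Function.Injective θ'.toAlgHom := by
    haveI := B.isArtinianRing
    let c : ℕ →o Ideal B :=
      ⟨fun n => RingHom.ker ((θ'.toAlgHom ^ n : B →ₐ[Λ] B)), monotone_nat_of_le_succ fun n x hx => by
        rw [RingHom.mem_ker] at hx ⊢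
        rw [pow_succ']
        change θ'.toAlgHom ((θ'.toAlgHom ^ n) x) = 0
        rw [hx, map_zero]⟩
    obtain ⟨n, hn⟩ := monotone_stabilizes_iff_noetherian.2 inferInstance c
    have hs : Function.Surjective (θ'.toAlgHom ^ n : B →ₐ[Λ] B) := by
      clear hn
      induction n with
      | zero => exact fun x => ⟨x, rfl⟩
      | succ n ih => rw [pow_succ']; exact hθ's.comp ih
    refine (injective_iff_map_eq_zero θ'.toAlgHom).2 fun x hx => ?_
    obtain ⟨y, rfl⟩ := hs x
    have : y ∈ c (n + 1) := RingHom.mem_ker.2 (by rw [pow_succ']; exact hx)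
    rw [← hn (n + 1) (Nat.le_succ n)] at this
    exact RingHom.mem_ker.1 this
  refine ht0 (hθ'i ?_)
  rw [map_zero]
  exact (AlgHom.congr_fun (congrArg Subtype.val hθ') e).trans hθe

/-- Versal families lift along surjections of coefficient rings. -/
theorem exists_lift_of_surjective
    (hRS : ∀ ⦃B A A₁ A₂ : Art Λ k⦄ (p₁ : B ⟶ A₁) (p₂ : B ⟶ A₂) (f₁ : A₁ ⟶ A) (f₂ : A₂ ⟶ A)
      (h : IsFibreProd p₁ p₂ f₁ f₂), Function.Surjective f₂ → Function.Bijective (cmp F h))
    (R : CRing Λ k) (ξ : Family R.carrier R.res F) (hξ : IsVersal ξ) (A' A : CRing Λ k)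
    (g : A'.carrier →ₐ[Λ] A.carrier) (hg : A.res.comp g = A'.res) (hgs : Function.Surjective g)
    (η : FormalElt F A') (φ : R.carrier →ₐ[Λ] A.carrier) (hφ : A.res.comp φ = R.res)
    (hsq : (ξ.along φ hφ).toFormalElt = η.push g hg) :
    ∃ (ψ : R.carrier →ₐ[Λ] A'.carrier) (hψ : A'.res.comp ψ = R.res),
      g.comp ψ = φ ∧ (ξ.along ψ hψ).toFormalElt = η := by
  let gn := fun n => CRing.truncMapOfHom g hg n
  let φn : ∀ n, HomSet R.carrier R.res (A.trunc n) := fun n => HomSet.map (CRing.truncMapOfHom φ hφ n) (R.truncHom n)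
  have hφn : ∀ n, ξ.app _ (φn n) = F.map (gn n) (η.elt n) := fun n => by
    rw [ξ.natural]
    exact congrArg (fun w => FormalElt.elt w n) ((along_toFormalElt ξ φ hφ).symm.trans hsq)
  let Good := fun n => {w : HomSet R.carrier R.res (A'.trunc n) //
    HomSet.map (gn n) w = φn n ∧ ξ.app _ w = η.elt n}
  have h0 : Nonempty (Good 0) := by
    have hinj : Function.Injective (A'.trunc 0).res := fun x y hxy => by
      obtain ⟨a, rfl⟩ := Ideal.Quotient.mk_surjective x
      obtain ⟨b, rfl⟩ := Ideal.Quotient.mk_surjective y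
      refine Ideal.Quotient.eq.2 ?_
      rw [CRing.mpow, pow_one, CRing.mem_maximalIdeal_iff, map_sub]
      exact sub_eq_zero.2 hxy
    have hb : Function.Bijective (gn 0) :=
      ⟨fun x y h => hinj ((Art.res_app (gn 0) x).symm.trans ((congrArg _ h).trans (Art.res_app (gn 0) y))),
        fun y => by
          obtain ⟨a, rfl⟩ := Ideal.Quotient.mk_surjective y
          obtain ⟨a', rfl⟩ := hgs a
          exact ⟨Ideal.Quotient.mk _ a', rfl⟩⟩
    haveI := (isIso_iff_bijective (gn 0)).2 hb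
    have hw : HomSet.map (gn 0) (HomSet.map (inv (gn 0)) (φn 0)) = φn 0 :=
      homSet_ext fun r => hom_congr (IsIso.inv_hom_id (gn 0)) ((φn 0).1 r)
    exact ⟨⟨HomSet.map (inv (gn 0)) (φn 0), hw, (map_bijective F (gn 0) hb).1 (by rw [← ξ.natural, hw, hφn])⟩⟩
  have step : ∀ n (w : Good n), ∃ w' : Good (n + 1), HomSet.map (A'.truncMap n) w'.1 = w.1 := by
    intro n w
    obtain ⟨P, p₁, p₂, hP⟩ := exists_fp (gn n) (A.truncMap n) (truncMap_surjective A n)
    have hc : A'.truncMap n ≫ gn n = gn (n + 1) ≫ A.truncMap n :=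
      (CRing.truncMapOfHom_truncMap g hg n).symm
    let l := fpLift hP (A'.truncMap n) (gn (n + 1)) hc
    have hl₁ := fpLift_fst hP (A'.truncMap n) (gn (n + 1)) hc
    have hl₂ := fpLift_snd hP (A'.truncMap n) (gn (n + 1)) hc
    have hls : Function.Surjective l := fun z => by
      obtain ⟨a, ha⟩ := Ideal.Quotient.mk_surjective (p₁ z)
      obtain ⟨b, hb⟩ := Ideal.Quotient.mk_surjective (p₂ z)
      have hw := hP.w_apply z
      rw [← ha, ← hb] at hw
      have hmem : b - g a ∈ CRing.mpow A n := Ideal.Quotient.eq.1 hw.symm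
      have hmap : CRing.mpow A n ≤ (CRing.mpow A' n).map g := by
        rw [CRing.mpow, CRing.mpow, Ideal.map_pow]
        refine Ideal.pow_right_mono (fun x hx => ?_) _
        obtain ⟨x', rfl⟩ := hgs x
        refine Ideal.mem_map_of_mem g ((CRing.mem_maximalIdeal_iff _ _).2 ?_)
        rw [← CRing.res_comp_apply g hg]
        exact (CRing.mem_maximalIdeal_iff _ _).1 hx
      obtain ⟨c, hc, hc'⟩ := (Ideal.mem_map_iff_of_surjective g hgs).1 (hmap hmem)
      refine ⟨Ideal.Quotient.mk _ (a + c), hP.inj _ _ ((hom_congr hl₁ _).trans ?_) ((hom_congr hl₂ _).trans ?_)⟩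
      · rw [← ha]
        exact Ideal.Quotient.eq.2 (by rwa [add_sub_cancel_left])
      · rw [← hb]
        change Ideal.Quotient.mk _ (g (a + c)) = _
        rw [map_add, hc', add_sub_cancel]
    obtain ⟨ν, ⟨hν₁, hν₂⟩, -⟩ := exists_homSet_pair hP w.1 (φn (n + 1))
      (w.2.1.trans (homSet_ext fun _ => rfl))
    have hval : F.map l (η.elt (n + 1)) = ξ.app _ ν := by
      refine (cmp_injective_iff F hP).1 (hRS _ _ _ _ hP (truncMap_surjective A n)).1 _ _ ?_ ?_
      · rw [← map_comp_apply, hl₁, η.compat, ← ξ.natural, hν₁, w.2.2]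
      · rw [← map_comp_apply, hl₂, ← ξ.natural, hν₂, hφn]
    obtain ⟨w', hw'₁, hw'₂⟩ := hξ l hls ν (η.elt (n + 1)) hval
    refine ⟨⟨w', ?_, hw'₂⟩, ?_⟩
    · refine (Eq.trans ?_ (congrArg (HomSet.map p₂) hw'₁)).trans hν₂
      exact homSet_ext fun r => (hom_congr hl₂ (w'.1 r)).symm
    · refine (Eq.trans ?_ (congrArg (HomSet.map p₁) hw'₁)).trans hν₁
      exact homSet_ext fun r => (hom_congr hl₁ (w'.1 r)).symm
  choose nx hnx using step
  let ws : ∀ n, Good n := fun n => Nat.rec h0.some (fun n w => nx n w) n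
  let ws' : ∀ j, Good (0 + j) := fun j => (Nat.zero_add j).symm ▸ ws j
  obtain ⟨ψ, hψ, hψw⟩ := exists_limit_hom 0 (fun j => (ws' j).1) (fun j => by
    have key : ∀ (a b : ℕ) (ha : a = j) (hb : b = a + 1),
        HomSet.map (A'.truncMap a) (hb ▸ (show Good b from (show j + 1 = b by omega) ▸ ws (j + 1))).1 =
          (ha ▸ ws j : Good a).1 := by
      rintro a b rfl rfl
      exact hnx a (ws a)
    exact key (0 + j) _ (Nat.zero_add j) rfl)
  have := A.isAdicComplete
  refine ⟨ψ, hψ, AlgHom.ext fun r => sub_eq_zero.1 (IsHausdorff.haus'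
    (I := IsLocalRing.maximalIdeal A.carrier) _ fun n => SModEq.sub_mem.2 ?_), ?_⟩
  · rw [smul_eq_mul, Ideal.mul_top, sub_zero, AlgHom.comp_apply]
    refine Ideal.pow_le_pow_right (show n ≤ 0 + n + 1 by omega) (Ideal.Quotient.eq.1 ?_)
    have h := AlgHom.congr_fun (congrArg Subtype.val (ws' n).2.1) r
    change gn (0 + n) ((ws' n).1.1 r) = _ at h
    rw [hψw n r] at h
    exact h
  · exact (along_toFormalElt ξ ψ hψ).trans
      (formalElt_ext 0 fun j => (push_elt ξ ψ hψ _ _ (hψw j)).trans (ws' j).2.2)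

end ArtLib
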