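import Groth.Agent.ArtLib.Hull

/-!
# Hulls, versal pairs and pro-representability
-/

set_option autoImplicit false

universe u v

open CategoryTheory

namespace ArtLib

open ArtFun ArtFun.Art

variable {Λ : Type u} {k : Type u} [CommRing Λ] [Field k] [Algebra Λ k]
  [IsNoetherianRing Λ] [Module.Finite Λ k] {F : Art Λ k ⥤ Type v}

/-- A versal family extending a given pair. -/
theorem exists_versal_of_pair (h1 : S1 F) (h2 : Heps F) (A : Art Λ k) (x : F.obj A)
    (hsurj : ∀ e : F.obj (dual Λ k), ∃ τ : A ⟶ dual Λ k, F.map τ x = e) :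
    ∃ (R : CRing Λ k) (ξ : Family R.carrier R.res F) (ρ : HomSet R.carrier R.res A),
      IsVersal ξ ∧ ξ.app A ρ = x ∧
        Function.Bijective (fun τ : A ⟶ dual Λ k => HomSet.map τ ρ) := by
  have := finite_carrier A
  obtain ⟨N, g, hg⟩ := Module.Finite.exists_fin (R := Λ) (M := A)
  let φ : MvPolynomial (ULift.{u} (Fin N)) Λ →ₐ[Λ] A := MvPolynomial.aeval fun i => g i.down
  have hφ : Function.Surjective φ := fun a => by
    have : a ∈ Submodule.span Λ (Set.range g) := hg ▸ Submodule.mem_top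
    induction this using Submodule.span_induction with
    | mem y hy =>
      obtain ⟨i, rfl⟩ := hy
      exact ⟨MvPolynomial.X ⟨i⟩, MvPolynomial.aeval_X _ _⟩
    | zero => exact ⟨0, map_zero _⟩
    | add y z _ _ ihy ihz =>
      obtain ⟨a, rfl⟩ := ihy
      obtain ⟨b, rfl⟩ := ihz
      exact ⟨a + b, map_add _ _ _⟩
    | smul r y _ ihy =>
      obtain ⟨a, rfl⟩ := ihy
      exact ⟨r • a, map_smul _ _ _⟩
  obtain ⟨resP, hresP⟩ : ∃ resP : MvPolynomial (ULift.{u} (Fin N)) Λ →ₐ[Λ] k,
      resP = A.res.comp φ := ⟨_, rfl⟩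
  have hres : Function.Surjective resP := hresP ▸ A.res_surjective.comp hφ
  obtain ⟨φ₀, hφ₀⟩ : ∃ φ₀ : HomSet _ resP A, φ₀.1 = φ := ⟨⟨φ, hresP.symm⟩, rfl⟩
  have hJ : IsSub resP (RingHom.ker φ) := by
    obtain ⟨n, hn⟩ := homSet_pow φ₀
    refine ⟨fun p hp => ?_, n, fun p hp => ?_⟩
    · rw [hresP, AlgHom.comp_apply, show φ p = 0 from hp, map_zero]
    · rw [RingHom.mem_ker, ← hφ₀]
      exact hn p hp
  obtain ⟨i, hi⟩ : ∃ i : pq hres hJ ⟶ A,
      i = pqLift hres hJ φ₀ fun p hp => (AlgHom.congr_fun hφ₀ p).trans hp := ⟨_, rfl⟩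
  have hib : Function.Bijective i := by
    refine ⟨(injective_iff_map_eq_zero i.toAlgHom).2 fun b hb => ?_, fun a => ?_⟩
    · obtain ⟨p, rfl⟩ := pqMk_surjective hres hJ b
      rw [hi] at hb
      refine (pqMk_eq_zero hres hJ).2 ?_
      rw [RingHom.mem_ker, ← hφ₀]
      exact hb
    · obtain ⟨p, rfl⟩ := hφ a
      refine ⟨(pqMk hres hJ).1 p, ?_⟩
      rw [hi]
      exact AlgHom.congr_fun hφ₀ p
  obtain ⟨y, hy⟩ := (map_bijective F i hib).2 x
  have := (isIso_iff_bijective i).2 hib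
  obtain ⟨R, ξ, ρ, hv, hρ, hb⟩ := exists_versal_of_start (F := F) hres (hasLift_mvPolynomial resP)
    h1 h2 ⟨RingHom.ker φ, hJ, y⟩ (fun e => by
      obtain ⟨τ, hτ⟩ := hsurj e
      exact ⟨i ≫ τ, by rw [map_comp_apply, hy, hτ]⟩)
  refine ⟨R, ξ, HomSet.map i ρ, hv, by rw [ξ.natural, hρ, hy], ?_⟩
  have hc : Function.Bijective (fun τ : A ⟶ dual Λ k => i ≫ τ) :=
    ⟨fun τ τ' e => (cancel_epi i).1 e, fun τ => ⟨inv i ≫ τ, IsIso.hom_inv_id_assoc i τ⟩⟩
  exact hb.comp hc

omit [IsNoetherianRing Λ] [Module.Finite Λ k] in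
/-- Linear combinations of tangent vectors along an object. -/
theorem exists_comb [TangentStr F] {A : Art Λ k} (x : F.obj A) (τ σ : A ⟶ dual Λ k) (c : k) :
    ∃ ρ : A ⟶ dual Λ k,
      (∀ a, TrivSqZeroExt.snd (ρ a) = TrivSqZeroExt.snd (τ a) + c * TrivSqZeroExt.snd (σ a)) ∧
      TangentSpace.mk (F.map ρ x) =
        TangentSpace.mk (F.map τ x) + c • TangentSpace.mk (F.map σ x) := by
  have e : τ ≫ toBase _ = (σ ≫ scale c) ≫ toBase _ := by
    rw [Art.eq_toBase (τ ≫ _), Art.eq_toBase ((σ ≫ scale c) ≫ _)]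
  obtain ⟨L, hL₁, hL₂⟩ : ∃ L : A ⟶ dual2 Λ k, L ≫ pr₁ = τ ∧ L ≫ pr₂ = σ ≫ scale c :=
    ⟨fpLift isFibreProd_dual2 τ (σ ≫ scale c) e, fpLift_fst .., fpLift_snd ..⟩
  refine ⟨L ≫ plus, fun a => ?_, ?_⟩
  · rw [← hom_congr hL₁ a]
    have h2 := congrArg TrivSqZeroExt.snd (hom_congr hL₂ a)
    exact congrArg (_ + ·) h2
  · have h := TangentStr.add_eq (F := F) (F.map L x)
    rw [← map_comp_apply, ← map_comp_apply, ← map_comp_apply, hL₁, hL₂, map_comp_apply F σ,
      ← TangentStr.smul_eq] at h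
    exact h.symm

omit [IsNoetherianRing Λ] [Module.Finite Λ k] in
theorem dual_hom_ext {A : Art Λ k} {τ σ : A ⟶ dual Λ k}
    (h : ∀ a, TrivSqZeroExt.snd (τ a) = TrivSqZeroExt.snd (σ a)) : τ = σ :=
  hom_ext' fun a => TrivSqZeroExt.ext ((Art.res_app τ a).trans (Art.res_app σ a).symm) (h a)

omit [IsNoetherianRing Λ] [Module.Finite Λ k] in
theorem map_zeroD_eq [TangentStr F] {A : Art Λ k} (x : F.obj A) :
    TangentSpace.mk (F.map (zeroD A) x) = (0 : TangentSpace F) := by
  obtain ⟨ρ, hρ, hρx⟩ := exists_comb x (zeroD A) (zeroD A) (-1)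
  have : ρ = zeroD A := dual_hom_ext fun a => by
    rw [hρ, snd_zeroD, mul_zero, add_zero]
  rw [this, neg_one_smul, add_neg_cancel] at hρx
  exact hρx

omit [IsNoetherianRing Λ] [Module.Finite Λ k] in
/-- Shrinking a pair along a redundant tangent vector. -/
theorem exists_bijective_pair [TangentStr F] (A : Art Λ k) (x : F.obj A)
    (hsurj : ∀ e : F.obj (dual Λ k), ∃ τ : A ⟶ dual Λ k, F.map τ x = e)
    (hinj : ∀ x₀ : F.obj (base Λ k),
      Function.Injective (fun σ : base Λ k ⟶ dual Λ k => F.map σ x₀)) :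
    ∃ (A' : Art Λ k) (x' : F.obj A'),
      Function.Bijective (fun τ : A' ⟶ dual Λ k => F.map τ x') := by
  obtain ⟨I, ⟨hI, hIs⟩, hmax⟩ := set_has_maximal_iff_noetherian.2
    (inferInstance : IsNoetherian A A) {I : Ideal A | I ≤ IsLocalRing.maximalIdeal A ∧
      ∀ e : F.obj (dual Λ k), ∃ τ : A ⟶ dual Λ k, (∀ a ∈ I, τ a = 0) ∧ F.map τ x = e}
    ⟨⊥, bot_le, fun e => by
      obtain ⟨τ, hτ⟩ := hsurj e
      exact ⟨τ, fun a ha => by rw [Ideal.mem_bot.1 ha, map_zero], hτ⟩⟩
  refine ⟨quot A I hI, F.map (quotMk A I hI) x, fun τ₁ τ₂ h => ?_, fun e => ?_⟩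
  · by_contra hne
    obtain ⟨δ, hδ, hδx⟩ := exists_comb x (quotMk A I hI ≫ τ₁) (quotMk A I hI ≫ τ₂) (-1)
    have hδx' : TangentSpace.mk (F.map δ x) = (0 : TangentSpace F) := by
      rw [hδx, map_comp_apply, map_comp_apply,
        show F.map τ₁ (F.map (quotMk A I hI) x) = F.map τ₂ (F.map (quotMk A I hI) x) from h,
        neg_one_smul, add_neg_cancel]
    have hδI : ∀ a ∈ I, δ a = 0 := fun a ha => TrivSqZeroExt.ext
      ((Art.res_app δ a).trans ((Art.mem_maximalIdeal_iff _ _).1 (hI ha))) (by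
        rw [hδ, Art.comp_apply, Art.comp_apply, quotMk_eq_zero.2 ha, map_zero, map_zero]
        change (0 : k) + -1 * 0 = 0
        rw [mul_zero, add_zero])
    obtain ⟨j, hj, hj0⟩ : ∃ j ∈ IsLocalRing.maximalIdeal A, TrivSqZeroExt.snd (δ j) ≠ 0 := by
      by_contra hall
      push Not at hall
      refine hne (dual_hom_ext fun b => ?_)
      obtain ⟨a, rfl⟩ := quotMk_surjective A I hI b
      -- `δ` factors through `k`
      have hδm : ∀ a ∈ IsLocalRing.maximalIdeal A, δ a = 0 := fun a ha =>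
        TrivSqZeroExt.ext ((Art.res_app δ a).trans ((Art.mem_maximalIdeal_iff _ _).1 ha)) (hall a ha)
      obtain ⟨σ, hσ⟩ : ∃ σ : base Λ k ⟶ dual Λ k, toBase A ≫ σ = δ := by
        have hm : RingHom.ker (toBase A).toAlgHom ≤ IsLocalRing.maximalIdeal A :=
          ker_le_maximalIdeal (toBase A)
        let u := quotLift hm (toBase A) fun _ ha => ha
        have hu : Function.Bijective u := by
          refine ⟨(injective_iff_map_eq_zero u.toAlgHom).2 fun b hb => ?_, fun c => ?_⟩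
          · obtain ⟨a, rfl⟩ := quotMk_surjective A _ hm b
            exact quotMk_eq_zero.2 hb
          · obtain ⟨a, rfl⟩ := toBase_surjective A c
            exact ⟨quotMk A _ hm a, rfl⟩
        have := (isIso_iff_bijective u).2 hu
        refine ⟨inv u ≫ quotLift hm δ fun a ha => hδm a (hm ha), ?_⟩
        refine Eq.trans ?_ (quotMk_comp_quotLift hm δ fun a ha => hδm a (hm ha))
        rw [← Category.assoc]
        congr 1
        rw [IsIso.comp_inv_eq]
        exact (quotMk_comp_quotLift hm _ _).symm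
      have hσ0 : σ = baseToDual := hinj (F.map (toBase A) x) (by
        change F.map σ (F.map (toBase A) x) = F.map baseToDual (F.map (toBase A) x)
        rw [← map_comp_apply, ← map_comp_apply, hσ]
        exact hδx'.trans (map_zeroD_eq x).symm)
      have h0 : TrivSqZeroExt.snd (δ a) = 0 := by
        rw [← hσ, hσ0]; rfl
      rw [hδ, neg_one_mul, add_neg_eq_zero] at h0
      exact h0
    refine hmax (I ⊔ Ideal.span {j})
      ⟨sup_le hI ((Ideal.span_singleton_le_iff_mem _).2 hj), fun e => ?_⟩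
      (lt_of_le_of_ne le_sup_left fun h' => hj0 (by
        rw [hδI j (h' ▸ Ideal.mem_sup_right (Ideal.mem_span_singleton_self j))]
        rfl))
    obtain ⟨τ, hτI, hτ⟩ := hIs e
    obtain ⟨τ', hτ', hτ'x⟩ :=
      exists_comb x τ δ (-TrivSqZeroExt.snd (τ j) / TrivSqZeroExt.snd (δ j))
    refine ⟨τ', ?_, ?_⟩
    · have : I ⊔ Ideal.span {j} ≤ RingHom.ker τ'.toAlgHom := by
        refine sup_le (fun a ha => ?_) ((Ideal.span_singleton_le_iff_mem _).2 ?_)
        · refine TrivSqZeroExt.ext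
            ((Art.res_app τ' a).trans ((Art.mem_maximalIdeal_iff _ _).1 (hI ha))) ?_
          rw [hτ', hτI a ha, hδI a ha]
          change (0 : k) + _ * 0 = 0
          rw [mul_zero, add_zero]
        · refine TrivSqZeroExt.ext
            ((Art.res_app τ' j).trans ((Art.mem_maximalIdeal_iff _ _).1 hj)) ?_
          rw [hτ', div_mul_cancel₀ _ hj0, add_neg_cancel]
          rfl
      exact fun a ha => this ha
    · rw [hδx', smul_zero, add_zero] at hτ'x
      exact hτ'x.trans hτ
  · obtain ⟨τ, hτI, hτ⟩ := hIs e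
    exact ⟨quotLift hI τ hτI, by
      change F.map (quotLift hI τ hτI) (F.map (quotMk A I hI) x) = e
      rw [← map_comp_apply, quotMk_comp_quotLift, hτ]⟩

omit [IsNoetherianRing Λ] [Module.Finite Λ k] in
theorem exists_start [TangentStr F] (h0 : H0 F) (h2 : Heps F) (h3 : Hfin F) :
    ∃ (A : Art Λ k) (x : F.obj A), ∀ e : F.obj (dual Λ k), ∃ τ : A ⟶ dual Λ k, F.map τ x = e := by
  have : Module.Finite k (TangentSpace F) := h3
  obtain ⟨d, g, hg⟩ := Module.Finite.exists_fin (R := k) (M := TangentSpace F)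
  obtain ⟨w, hw⟩ := exists_coords h0 h2 d fun i => (g i).val
  refine ⟨tz Λ k d, w, fun e => ?_⟩
  have : TangentSpace.mk e ∈ Submodule.span k (Set.range g) := hg ▸ Submodule.mem_top
  obtain ⟨c, hc⟩ := (Submodule.mem_span_range_iff_exists_fun k).1 this
  refine ⟨toD (∑ i, c i • LinearMap.proj i), ?_⟩
  have := evalTz_sum w c
  simp only [hw] at this
  exact this.trans hc

theorem hasVersal_of_conditions [TangentStr F] (h0 : H0 F) (h1 : S1 F) (h2 : Heps F)
    (h3 : Hfin F) : HasVersal F := by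
  obtain ⟨A, x, hx⟩ := exists_start h0 h2 h3
  obtain ⟨R, ξ, ρ, hv, -⟩ := exists_versal_of_pair h1 h2 A x hx
  exact ⟨⟨R, ξ, hv⟩⟩

theorem hasHull_of_conditions [TangentStr F] (h0 : H0 F) (h1 : S1 F) (h2 : Heps F) (h3 : Hfin F)
    (hinj : ∀ x₀ : F.obj (base Λ k),
      Function.Injective (fun σ : base Λ k ⟶ dual Λ k => F.map σ x₀)) : HasHull F := by
  obtain ⟨A, x, hx⟩ := exists_start h0 h2 h3
  obtain ⟨A', x', hx'⟩ := exists_bijective_pair A x hx hinj
  obtain ⟨R, ξ, ρ, hv, hρ, hb⟩ := exists_versal_of_pair h1 h2 A' x' fun e => hx'.2 e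
  refine ⟨⟨R, ξ, hv, ?_⟩⟩
  have he : ξ.app (dual Λ k) ∘ (fun τ : A' ⟶ dual Λ k => HomSet.map τ ρ) =
      fun τ => F.map τ x' := funext fun τ => by
    rw [Function.comp_apply, ξ.natural, hρ]
  exact (Function.Bijective.of_comp_iff _ hb).1 (he ▸ hx')

omit [IsNoetherianRing Λ] [Module.Finite Λ k] in
theorem inj_of_derivation (hk : Subsingleton (Derivation Λ k k)) (x₀ : F.obj (base Λ k)) :
    Function.Injective (fun σ : base Λ k ⟶ dual Λ k => F.map σ x₀) := by
  have key : ∀ σ : base Λ k ⟶ dual Λ k, σ = baseToDual := fun σ => by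
    have hfst : ∀ c : k, TrivSqZeroExt.fst (σ c) = c := fun c => Art.res_app σ c
    let D : Derivation Λ k k := Derivation.mk'
      { toFun := fun c => TrivSqZeroExt.snd (σ c)
        map_add' := fun a b => congrArg TrivSqZeroExt.snd (map_add σ.toAlgHom a b)
        map_smul' := fun r a => congrArg TrivSqZeroExt.snd (map_smul σ.toAlgHom r a) }
      fun a b => by
        change TrivSqZeroExt.snd (σ.toAlgHom (a * b)) =
          a • TrivSqZeroExt.snd (σ b) + b • TrivSqZeroExt.snd (σ a)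
        refine (congrArg TrivSqZeroExt.snd (map_mul σ.toAlgHom a b)).trans ?_
        change (σ a).fst • (σ b).snd + MulOpposite.op (σ b).fst • (σ a).snd = _
        rw [op_smul_eq_smul, hfst, hfst]
    exact dual_hom_ext fun c => (DFunLike.congr_fun (Subsingleton.elim D 0) c).trans rfl
  exact fun σ σ' _ => (key σ).trans (key σ').symm

theorem universal_of_miniversal (h0 : H0 F) (hG : HSq F) {R : Type u} [CommRing R] [Algebra Λ R]
    {resR : R →ₐ[Λ] k} (ξ : Family R resR F) (hξ : IsMiniversal ξ) : IsUniversal ξ := fun A =>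
  ⟨injective_app (NatMap.ofFamily ξ) homSet_subsingleton_base hbar_hR heps_hR hG hξ.2.1 A,
    surjective_app_of_versal h0 ξ hξ.1 A⟩

omit [IsNoetherianRing Λ] in
theorem hfin_of_bijective [TangentStr F] (R : CRing Λ k) (ξ : Family R.carrier R.res F)
    (hξ : Function.Bijective (ξ.app (dual Λ k))) : Hfin F := by
  classical
  have hs : IsSub R.res (RingHom.ker (R.res : R.carrier →+* k) ^ 2) := isSub_pow two_ne_zero
  have := finite_carrier (pq R.res_surjective hs)
  obtain ⟨N, g, hg⟩ := Module.Finite.exists_fin (R := Λ) (M := pq R.res_surjective hs)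
  choose r hr using fun i => pqMk_surjective R.res_surjective hs (g i)
  choose inv hinv using hξ.2
  let Φ : TangentSpace F →ₗ[k] (Fin N → k) :=
    { toFun := fun e i => TrivSqZeroExt.snd ((inv e.val).1 (r i))
      map_add' := fun e e' => by
        obtain ⟨ψ, ⟨hψ₁, hψ₂⟩, -⟩ := exists_homSet_pair (resR := R.res) isFibreProd_dual2
          (inv e.val) (inv e'.val) (homSet_subsingleton_base.elim _ _)
        have hval : HomSet.map Art.plus ψ = inv (e + e').val := hξ.1 (by
          rw [hinv, ξ.natural]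
          have h := TangentStr.add_eq (F := F) (ξ.app _ ψ)
          rw [← ξ.natural, ← ξ.natural, hψ₁, hψ₂, hinv, hinv] at h
          exact h.symm)
        funext i
        change TrivSqZeroExt.snd ((inv (e + e').val).1 (r i)) = _
        rw [← hval, ← hψ₁, ← hψ₂]
        rfl
      map_smul' := fun c e => by
        have hval : HomSet.map (Art.scale c) (inv e.val) = inv (c • e).val := hξ.1 (by
          rw [hinv, ξ.natural, hinv]
          exact (TangentStr.smul_eq (F := F) c e.val).symm)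
        funext i
        change TrivSqZeroExt.snd ((inv (c • e).val).1 (r i)) = _
        rw [← hval]
        rfl }
  refine Module.Finite.of_injective Φ fun e e' h => ?_
  have key : inv e.val = inv e'.val := by
    have hfac : ∀ φ : HomSet R.carrier R.res (dual Λ k),
        ∀ a ∈ RingHom.ker (R.res : R.carrier →+* k) ^ 2, φ.1 a = 0 := fun φ a ha => by
      rw [sq] at ha
      induction ha using Submodule.mul_induction_on' with
      | mem_mul_mem x hx y hy =>
        have hx' : TrivSqZeroExt.fst (φ.1 x) = 0 := (homSet_res φ x).trans hx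
        have hy' : TrivSqZeroExt.fst (φ.1 y) = 0 := (homSet_res φ y).trans hy
        rw [map_mul]
        refine TrivSqZeroExt.ext ?_ ?_
        · change (φ.1 x).fst * (φ.1 y).fst = 0
          rw [hx', zero_mul]
        · change (φ.1 x).fst • (φ.1 y).snd + MulOpposite.op (φ.1 y).fst • (φ.1 x).snd = 0
          rw [hx', hy', MulOpposite.op_zero, zero_smul, zero_smul, add_zero]
      | add x _ y _ hx hy => rw [map_add, hx, hy, add_zero]
    have hEq : (pqLift R.res_surjective hs (inv e.val) (hfac _)).toAlgHom.toLinearMap =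
        (pqLift R.res_surjective hs (inv e'.val) (hfac _)).toAlgHom.toLinearMap :=
      LinearMap.ext_on_range hg fun i => by
        rw [← hr i]
        exact TrivSqZeroExt.ext ((homSet_res (inv e.val) (r i)).trans (homSet_res (inv e'.val) (r i)).symm) (congrFun h i)
    exact homSet_ext fun a => LinearMap.congr_fun hEq ((pqMk R.res_surjective hs).1 a)
  have := congrArg (ξ.app (dual Λ k)) key
  rw [hinv, hinv] at this
  exact this

omit [IsNoetherianRing Λ] in
theorem conditions_of_hull [TangentStr F] (h0 : H0 F) (h : HasHull F) :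
    S1 F ∧ Heps F ∧ Hfin F := by
  obtain ⟨H⟩ := h
  have hs := surjective_app_of_versal h0 H.family H.miniversal.1
  exact ⟨s1_of_versal H.family H.miniversal.1 hs, heps_of_miniversal H.family H.miniversal hs,
    hfin_of_bijective H.ring H.family H.miniversal.2⟩

omit [IsNoetherianRing Λ] [Module.Finite Λ k] in
theorem universal_facts {R : Type u} [CommRing R] [Algebra Λ R] {resR : R →ₐ[Λ] k}
    (hresR : Function.Surjective resR) (ξ : Family R resR F) (hξ : IsUniversal ξ) :
    H0 F ∧ IsLeftExact F ∧ ∀ x₀ : F.obj (base Λ k),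
      Function.Injective (fun σ : base Λ k ⟶ dual Λ k => F.map σ x₀) := by
  have h0 : H0 F := h0_of_versal ξ (hξ _).2
  refine ⟨h0, fun B A A' A'' p' p'' f' f'' h => ⟨(cmp_injective_iff F h).2 fun z z' e₁ e₂ => ?_,
    (cmp_surjective_iff F h).2 fun x y e => ?_⟩, fun x₀ σ σ' e => ?_⟩
  · obtain ⟨ψ, rfl⟩ := (hξ B).2 z
    obtain ⟨ψ', rfl⟩ := (hξ B).2 z'
    rw [← ξ.natural, ← ξ.natural] at e₁ e₂
    refine congrArg (ξ.app B) ((cmp_injective_iff _ h).1 (isLeftExact_hR _ _ _ _ h).1 ψ ψ' ?_ ?_)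
    · exact (hξ A').1 e₁
    · exact (hξ A'').1 e₂
  · obtain ⟨φ', rfl⟩ := (hξ A').2 x
    obtain ⟨φ'', rfl⟩ := (hξ A'').2 y
    rw [← ξ.natural, ← ξ.natural] at e
    obtain ⟨ψ, ⟨h₁, h₂⟩, -⟩ := exists_homSet_pair h φ' φ'' ((hξ A).1 e)
    exact ⟨ξ.app B ψ, by rw [← ξ.natural, h₁], by rw [← ξ.natural, h₂]⟩
  · obtain ⟨φ, rfl⟩ := (hξ (base Λ k)).2 x₀
    have e' : F.map σ (ξ.app _ φ) = F.map σ' (ξ.app _ φ) := e
    rw [← ξ.natural, ← ξ.natural] at e'
    refine hom_ext' fun c => ?_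
    obtain ⟨r, rfl⟩ := hresR c
    have h := AlgHom.congr_fun (congrArg Subtype.val ((hξ _).1 e')) r
    rw [← homSet_res φ r]
    exact h

theorem isProrepresentable_of_conditions [TangentStr F] (h0 : H0 F) (h1 : S1 F) (h2 : Heps F)
    (h3 : Hfin F) (h4 : HSq F)
    (hinj : ∀ x₀ : F.obj (base Λ k),
      Function.Injective (fun σ : base Λ k ⟶ dual Λ k => F.map σ x₀)) : IsProrepresentable F := by
  obtain ⟨H⟩ := hasHull_of_conditions h0 h1 h2 h3 hinj
  exact ⟨⟨H.ring, H.family, universal_of_miniversal h0 h4 H.family H.miniversal⟩⟩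

omit [IsNoetherianRing Λ] in
theorem conditions_of_prorep [TangentStr F] (h : IsProrepresentable F) :
    H0 F ∧ IsLeftExact F ∧ Hfin F ∧ ∀ x₀ : F.obj (base Λ k),
      Function.Injective (fun σ : base Λ k ⟶ dual Λ k => F.map σ x₀) := by
  obtain ⟨⟨R, ξ, hξ⟩⟩ := h
  obtain ⟨a, b, c⟩ := universal_facts R.res_surjective ξ hξ
  exact ⟨a, b, hfin_of_bijective R ξ (hξ _), c⟩

omit [Module.Finite Λ k] [IsNoetherianRing Λ] in
theorem subsingleton_derivation_of_surjective (hk : Function.Surjective (algebraMap Λ k)) :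
    Subsingleton (Derivation Λ k k) := ⟨fun D D' => Derivation.ext fun c => by
  obtain ⟨r, rfl⟩ := hk c
  rw [Derivation.map_algebraMap, Derivation.map_algebraMap]⟩

end ArtLib
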