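import Groth.Agent.ArtLib.Formal
import Groth.Agent.CompleteLib.TwoIdeals

/-!
# Power series rings as smooth coefficient rings
-/

set_option autoImplicit false

universe u v

open CategoryTheory

namespace ArtLib

open ArtFun ArtFun.Art

local notation "PS" Λ:max n:max => MvPowerSeries (Fin n) Λ

section Basic

variable {σ : Type*} [Finite σ] {Λ : Type*} [CommRing Λ]

theorem sub_trunc_mem (f : MvPowerSeries σ Λ) (N : ℕ) :
    f - (MvPowerSeries.truncTotal N f : MvPolynomial σ Λ) ∈
      (Ideal.span (Set.range MvPowerSeries.X) : Ideal (MvPowerSeries σ Λ)) ^ N := by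
  let I := MvPolynomial.idealOfVars σ Λ
  let e := MvPowerSeries.toAdicCompletionAlgEquiv σ Λ
  have hI : (Ideal.span (Set.range MvPowerSeries.X) : Ideal (MvPowerSeries σ Λ)).map e.toRingEquiv =
      I.map (algebraMap _ (AdicCompletion I (MvPolynomial σ Λ))) := by
    simp_rw [I, Ideal.map_span, ← Set.range_comp]
    congr 2; ext1
    simp [e, AdicCompletion.algebraMap_apply, ← MvPolynomial.coe_X,
      MvPowerSeries.toAdicCompletion_coe]
  have key : e (f - (MvPowerSeries.truncTotal N f : MvPolynomial σ Λ)) ∈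
      I.map (algebraMap _ (AdicCompletion I (MvPolynomial σ Λ))) ^ N := by
    have h0 : AdicCompletion.eval I (MvPolynomial σ Λ) N
        (e (f - (MvPowerSeries.truncTotal N f : MvPolynomial σ Λ))) = 0 := by
      rw [map_sub, map_sub, sub_eq_zero, MvPowerSeries.toAdicCompletionAlgEquiv_apply,
        MvPowerSeries.toAdicCompletionAlgEquiv_apply, MvPowerSeries.toAdicCompletion_coe]
      rfl
    have h1 : e (f - (MvPowerSeries.truncTotal N f : MvPolynomial σ Λ)) ∈
        (AdicCompletion.eval I (MvPolynomial σ Λ) N).ker := h0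
    rw [← AdicCompletion.pow_smul_top_eq_ker_eval (MvPolynomial.idealOfVars_fg σ Λ),
      Ideal.smul_top_eq_map] at h1
    rw [← Ideal.map_pow]
    exact h1
  rw [← hI, ← Ideal.map_pow] at key
  obtain ⟨g, hg, hge⟩ := (Ideal.mem_map_iff_of_surjective _ e.toRingEquiv.surjective).1 key
  rwa [e.injective hge] at hg

omit [Finite σ] in
theorem constantCoeff_X' (i : σ) :
    MvPowerSeries.constantCoeff (MvPowerSeries.X i : MvPowerSeries σ Λ) = 0 :=
  MvPowerSeries.constantCoeff_X i

theorem sub_C_constantCoeff_mem (f : MvPowerSeries σ Λ) :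
    f - MvPowerSeries.C (MvPowerSeries.constantCoeff f) ∈
      (Ideal.span (Set.range MvPowerSeries.X) : Ideal (MvPowerSeries σ Λ)) := by
  obtain ⟨X, hX⟩ : ∃ X : Ideal (MvPowerSeries σ Λ), X = Ideal.span (Set.range MvPowerSeries.X) :=
    ⟨_, rfl⟩
  rw [← hX]
  have hsub : X ≤ RingHom.ker (MvPowerSeries.constantCoeff (σ := σ) (R := Λ)) := by
    rw [hX, Ideal.span_le]
    rintro _ ⟨i, rfl⟩
    exact constantCoeff_X' i
  have hp : ∀ p : MvPolynomial σ Λ,
      (p : MvPowerSeries σ Λ) - MvPowerSeries.C (MvPowerSeries.constantCoeff (p : MvPowerSeries σ Λ)) ∈ X := by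
    intro p
    induction p using MvPolynomial.induction_on with
    | C a => simp
    | add p q hp hq =>
      rw [MvPolynomial.coe_add, map_add, map_add, add_sub_add_comm]
      exact add_mem hp hq
    | mul_X p i _ =>
      rw [MvPolynomial.coe_mul, MvPolynomial.coe_X, map_mul, constantCoeff_X', mul_zero, map_zero,
        sub_zero]
      exact Ideal.mul_mem_left _ _ (hX ▸ Ideal.subset_span ⟨i, rfl⟩)
  have h1 : f - (MvPowerSeries.truncTotal 1 f : MvPolynomial σ Λ) ∈ X := by
    have := sub_trunc_mem f 1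
    rwa [pow_one, ← hX] at this
  have hc : MvPowerSeries.constantCoeff f =
      MvPowerSeries.constantCoeff ((MvPowerSeries.truncTotal 1 f : MvPolynomial σ Λ) : MvPowerSeries σ Λ) := by
    have := hsub h1
    rwa [RingHom.mem_ker, map_sub, sub_eq_zero] at this
  rw [hc, ← sub_add_sub_cancel f ((MvPowerSeries.truncTotal 1 f : MvPolynomial σ Λ) : MvPowerSeries σ Λ)]
  exact add_mem h1 (hp _)

end Basic

variable {Λ : Type u} {k : Type u} [CommRing Λ] [Field k] [Algebra Λ k]

theorem psHom_ext {n : ℕ} {A : Art Λ k} {ψ ψ' : MvPowerSeries (Fin n) Λ →ₐ[Λ] A}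
    (h : ∀ i, ψ (MvPowerSeries.X i) = ψ' (MvPowerSeries.X i))
    (hm : ∀ i, A.res (ψ (MvPowerSeries.X i)) = 0) : ψ = ψ' := by
  obtain ⟨N, hN⟩ := isNilpotent_maximalIdeal A
  have hkill : ∀ χ : MvPowerSeries (Fin n) Λ →ₐ[Λ] A, (∀ i, A.res (χ (MvPowerSeries.X i)) = 0) →
      ∀ f ∈ (Ideal.span (Set.range MvPowerSeries.X) : Ideal (MvPowerSeries (Fin n) Λ)) ^ N, χ f = 0 := by
    intro χ hχ f hf
    have hle : Ideal.map χ (Ideal.span (Set.range MvPowerSeries.X)) ≤ IsLocalRing.maximalIdeal A := by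
      rw [Ideal.map_span, Ideal.span_le]
      rintro _ ⟨_, ⟨i, rfl⟩, rfl⟩
      exact (Art.mem_maximalIdeal_iff _ _).2 (hχ i)
    have h1 := Ideal.mem_map_of_mem χ hf
    rw [Ideal.map_pow] at h1
    have h2 := Ideal.pow_right_mono hle N h1
    rwa [hN] at h2
  have hpoly : ψ.comp (MvPolynomial.coeToMvPowerSeries.algHom Λ) =
      ψ'.comp (MvPolynomial.coeToMvPowerSeries.algHom Λ) := MvPolynomial.algHom_ext fun i => by
    simp [MvPolynomial.coeToMvPowerSeries.algHom_apply, h i]
  refine AlgHom.ext fun f => ?_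
  have h1 := hkill ψ hm _ (sub_trunc_mem f N)
  have h2 := hkill ψ' (fun i => h i ▸ hm i) _ (sub_trunc_mem f N)
  rw [map_sub, sub_eq_zero] at h1 h2
  rw [h1, h2]
  have := AlgHom.congr_fun hpoly (MvPowerSeries.truncTotal N f)
  simpa [MvPolynomial.coeToMvPowerSeries.algHom_apply] using this

theorem exists_psHom {n : ℕ} {A : Art Λ k} (a : Fin n → A) (ha : ∀ i, A.res (a i) = 0) :
    ∃ ψ : MvPowerSeries (Fin n) Λ →ₐ[Λ] A, ∀ i, ψ (MvPowerSeries.X i) = a i := by
  obtain ⟨N, hN⟩ := isNilpotent_maximalIdeal A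
  obtain ⟨θ, hθ⟩ : ∃ θ : MvPolynomial (Fin n) Λ →ₐ[Λ] A, θ = MvPolynomial.aeval a := ⟨_, rfl⟩
  have hkill : ∀ p ∈ MvPolynomial.idealOfVars (Fin n) Λ ^ N, θ p = 0 := by
    intro p hp
    have hle : Ideal.map θ (MvPolynomial.idealOfVars (Fin n) Λ) ≤ IsLocalRing.maximalIdeal A := by
      rw [MvPolynomial.idealOfVars, Ideal.map_span, Ideal.span_le]
      rintro _ ⟨_, ⟨i, rfl⟩, rfl⟩
      rw [hθ, MvPolynomial.aeval_X]
      exact (Art.mem_maximalIdeal_iff _ _).2 (ha i)
    have h1 := Ideal.mem_map_of_mem θ hp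
    rw [Ideal.map_pow] at h1
    have h2 := Ideal.pow_right_mono hle N h1
    rwa [hN] at h2
  refine ⟨(Ideal.Quotient.liftₐ _ θ hkill).comp
    ((MvPowerSeries.truncTotalAlgHom (Fin n) Λ N).restrictScalars Λ), fun i => ?_⟩
  have h := (MvPowerSeries.truncTotalAlgHom (Fin n) Λ N).commutes (MvPolynomial.X i)
  rw [show algebraMap (MvPolynomial (Fin n) Λ) (MvPowerSeries (Fin n) Λ) (MvPolynomial.X i) =
    MvPowerSeries.X i by simp [MvPowerSeries.algebraMap_apply']] at h
  change Ideal.Quotient.liftₐ _ θ hkill (MvPowerSeries.truncTotalAlgHom (Fin n) Λ N (MvPowerSeries.X i)) = a i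
  rw [h]
  change θ (MvPolynomial.X i) = a i
  rw [hθ, MvPolynomial.aeval_X]

variable (k) in
/-- The augmentation of a power series ring. -/
noncomputable def psRes (n : ℕ) : MvPowerSeries (Fin n) Λ →ₐ[Λ] k :=
  { (algebraMap Λ k).comp MvPowerSeries.constantCoeff with
    commutes' := fun r => by
      change algebraMap Λ k (MvPowerSeries.constantCoeff (algebraMap Λ (MvPowerSeries (Fin n) Λ) r)) = _
      rw [MvPowerSeries.algebraMap_apply, MvPowerSeries.constantCoeff_C, Algebra.algebraMap_self,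
        RingHom.id_apply] }

theorem psRes_X (n : ℕ) (i : Fin n) : psRes k n (MvPowerSeries.X i : MvPowerSeries (Fin n) Λ) = 0 := by
  change algebraMap Λ k (MvPowerSeries.constantCoeff (MvPowerSeries.X i)) = 0
  rw [constantCoeff_X', map_zero]

theorem psRes_comp {n : ℕ} {A : Art Λ k} (ψ : MvPowerSeries (Fin n) Λ →ₐ[Λ] A)
    (h : ∀ i, A.res (ψ (MvPowerSeries.X i)) = 0) : A.res.comp ψ = psRes k n :=
  psHom_ext (A := base Λ k) (ψ := A.res.comp ψ) (ψ' := psRes k n)
    (fun i => (h i).trans (psRes_X n i).symm) h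

theorem isLocalRing_quotient_ps [IsLocalRing Λ] (n : ℕ) : IsLocalRing (MvPowerSeries (Fin n) Λ) :=
  inferInstance

theorem isAdicComplete_ps [IsNoetherianRing Λ] [IsLocalRing Λ]
    [IsAdicComplete (IsLocalRing.maximalIdeal Λ) Λ] (n : ℕ) :
    IsAdicComplete (IsLocalRing.maximalIdeal (MvPowerSeries (Fin n) Λ)) (MvPowerSeries (Fin n) Λ) := by
  obtain ⟨I, hI⟩ : ∃ I : Ideal (MvPowerSeries (Fin n) Λ), I = Ideal.span (Set.range MvPowerSeries.X) :=
    ⟨_, rfl⟩
  have hcomp : IsAdicComplete I (MvPowerSeries (Fin n) Λ) := hI ▸ inferInstance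
  have hIker : I ≤ RingHom.ker (MvPowerSeries.constantCoeff (σ := Fin n) (R := Λ)) := by
    rw [hI, Ideal.span_le]
    rintro _ ⟨i, rfl⟩
    exact constantCoeff_X' i
  obtain ⟨c, hc⟩ : ∃ c : Λ ≃+* MvPowerSeries (Fin n) Λ ⧸ I,
      ∀ r, c r = Ideal.Quotient.mk I (MvPowerSeries.C r) := by
    refine ⟨RingEquiv.ofBijective ((Ideal.Quotient.mk I).comp MvPowerSeries.C) ⟨?_, fun x => ?_⟩,
      fun _ => rfl⟩
    · refine (injective_iff_map_eq_zero _).2 fun r hr => ?_
      have := hIker (Ideal.Quotient.eq_zero_iff_mem.1 hr)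
      rwa [RingHom.mem_ker, MvPowerSeries.constantCoeff_C] at this
    · obtain ⟨f, rfl⟩ := Ideal.Quotient.mk_surjective x
      refine ⟨MvPowerSeries.constantCoeff f, (Ideal.Quotient.eq.2 ?_).symm⟩
      rw [hI]
      exact sub_C_constantCoeff_mem f
  have hm : (IsLocalRing.maximalIdeal (MvPowerSeries (Fin n) Λ)).map (Ideal.Quotient.mk I) =
      (IsLocalRing.maximalIdeal Λ).map c := by
    apply le_antisymm
    · rw [Ideal.map_le_iff_le_comap]
      intro f hf
      obtain ⟨r, hr⟩ := c.surjective (Ideal.Quotient.mk I f)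
      rw [Ideal.mem_comap, ← hr]
      refine Ideal.mem_map_of_mem _ ?_
      rw [IsLocalRing.mem_maximalIdeal] at hf ⊢
      intro hu
      refine hf ?_
      rw [MvPowerSeries.isUnit_iff_constantCoeff]
      rw [hc, Ideal.Quotient.eq] at hr
      have := hIker hr
      rw [RingHom.mem_ker, map_sub, MvPowerSeries.constantCoeff_C, sub_eq_zero] at this
      rwa [← this]
    · rw [Ideal.map_le_iff_le_comap]
      intro r hr
      rw [Ideal.mem_comap, hc]
      refine Ideal.mem_map_of_mem _ ?_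
      rw [IsLocalRing.mem_maximalIdeal] at hr ⊢
      intro hu
      refine hr ?_
      have := hu.map (MvPowerSeries.constantCoeff (σ := Fin n) (R := Λ))
      rwa [MvPowerSeries.constantCoeff_C] at this
  have : IsAdicComplete ((IsLocalRing.maximalIdeal (MvPowerSeries (Fin n) Λ)).map (Ideal.Quotient.mk I))
      (MvPowerSeries (Fin n) Λ ⧸ I) := by
    rw [hm, IsAdicComplete.congr_ringEquiv]
    infer_instance
  exact CompleteLib.isAdicComplete_of_quotient I (IsLocalRing.maximalIdeal (MvPowerSeries (Fin n) Λ))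

section Equiv

variable [IsNoetherianRing Λ] [IsLocalRing Λ] [IsAdicComplete (IsLocalRing.maximalIdeal Λ) Λ]
  (hk : Function.Surjective (algebraMap Λ k))
include hk

/-- The power series coefficient ring. -/
@[reducible]
noncomputable def psRing (n : ℕ) : CRing Λ k :=
  { carrier := MvPowerSeries (Fin n) Λ
    res := psRes k n
    res_surjective := fun c => by
      obtain ⟨r, rfl⟩ := hk c
      exact ⟨algebraMap Λ _ r, AlgHom.commutes _ _⟩
    isAdicComplete := isAdicComplete_ps n }

theorem isSmoothFunctor_ps (n : ℕ) : IsSmoothFunctor (hR (psRing hk n).carrier (psRing hk n).res) := by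
  intro B A μ hμ φ
  choose b hb using fun i => hμ (φ.1 (MvPowerSeries.X i))
  have hres0 : ∀ i, A.res (φ.1 (MvPowerSeries.X i)) = 0 := fun i => (homSet_res φ _).trans (psRes_X n i)
  obtain ⟨ψ, hψ⟩ := exists_psHom b fun i => by rw [← Art.res_app μ, hb, hres0]
  refine ⟨⟨ψ, psRes_comp ψ fun i => by rw [hψ, ← Art.res_app μ, hb, hres0]⟩, Subtype.ext ?_⟩
  exact psHom_ext (fun i => (congrArg μ (hψ i)).trans (hb i)) fun i => by
    change A.res (μ (ψ (MvPowerSeries.X i))) = 0
    rw [hψ, hb, hres0]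

theorem isSmoothFunctor_of_equiv {R : CRing Λ k} {n : ℕ}
    (e : R.carrier ≃ₐ[Λ] MvPowerSeries (Fin n) Λ) : IsSmoothFunctor (hR R.carrier R.res) := by
  have he : R.res.comp e.symm.toAlgHom = (psRing hk n).res := by
    refine psHom_ext (A := base Λ k) (fun i => ?_) ?_
    · refine Eq.trans ?_ (psRes_X (k := k) n i).symm
      change R.res (e.symm (MvPowerSeries.X i)) = 0
      rw [← cring_res_mem, IsLocalRing.mem_maximalIdeal]
      intro hu
      have := (hu.map e).map (MvPowerSeries.constantCoeff (σ := Fin n) (R := Λ))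
      rw [AlgEquiv.apply_symm_apply, constantCoeff_X'] at this
      exact not_isUnit_zero this
    · intro i
      change R.res (e.symm (MvPowerSeries.X i)) = 0
      rw [← cring_res_mem, IsLocalRing.mem_maximalIdeal]
      intro hu
      have := (hu.map e).map (MvPowerSeries.constantCoeff (σ := Fin n) (R := Λ))
      rw [AlgEquiv.apply_symm_apply, constantCoeff_X'] at this
      exact not_isUnit_zero this
  intro B A μ hμ φ
  obtain ⟨ψ, hψ⟩ := isSmoothFunctor_ps hk n μ hμ
    ⟨φ.1.comp e.symm.toAlgHom, by rw [← AlgHom.comp_assoc, φ.2, he]⟩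
  refine ⟨⟨ψ.1.comp e.toAlgHom, ?_⟩, homSet_ext fun r => ?_⟩
  · rw [← AlgHom.comp_assoc, ψ.2, ← he, AlgHom.comp_assoc]
    exact AlgHom.ext fun r => congrArg R.res (e.symm_apply_apply r)
  · refine (AlgHom.congr_fun (congrArg Subtype.val hψ) (e r)).trans ?_
    exact congrArg φ.1 (e.symm_apply_apply r)

omit hk in
/-- Coordinates generate. -/
theorem exists_psSurj (hk : Function.Surjective (algebraMap Λ k)) (R : CRing Λ k) {n : ℕ}
    (x : Fin n → R.carrier) (hx0 : ∀ i, R.res (x i) = 0)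
    (hx : ∀ a : Fin n → k, ∃! φ : HomSet R.carrier R.res (dual Λ k),
      ∀ i, TrivSqZeroExt.snd (φ.1 (x i)) = a i) :
    ∃ g : MvPowerSeries (Fin n) Λ →ₐ[Λ] R.carrier,
      R.res.comp g = (psRing hk n).res ∧ Function.Surjective g ∧
        ∀ i, g (MvPowerSeries.X i) = x i := by
  have := finite_of_surjective hk
  have hval : ∀ (N : ℕ) (i : Fin n), (R.trunc N).res ((R.truncHom N).1 (x i)) = 0 :=
    fun N i => (homSet_res _ _).trans (hx0 i)
  choose φ hφ using fun N => exists_psHom (fun i => (R.truncHom N).1 (x i)) (hval N)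
  obtain ⟨Φ, hΦ⟩ : ∃ Φ : ∀ N, HomSet (psRing hk n).carrier (psRing hk n).res (R.trunc N),
      ∀ N i, (Φ N).1 (MvPowerSeries.X i) = (R.truncHom N).1 (x i) :=
    ⟨fun N => ⟨φ N, psRes_comp _ fun i => by rw [hφ, hval]⟩, hφ⟩
  obtain ⟨g, hg, hgΦ⟩ := exists_hom_of_compatible R Φ (fun N => Subtype.ext <| psHom_ext
    (fun i => (congrArg (R.truncMap N) (hΦ (N + 1) i)).trans
      ((AlgHom.congr_fun (congrArg Subtype.val (CRing.truncMap_truncHom R N)) (x i)).trans (hΦ N i).symm))
    (fun i => (homSet_res (HomSet.map (R.truncMap N) (Φ (N + 1))) _).trans (psRes_X n i)))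
  have hgX : ∀ i, g (MvPowerSeries.X i) = x i := fun i => by
    refine (IsHausdorff.eq_iff_smodEq (I := IsLocalRing.maximalIdeal R.carrier)
      («R» := R.carrier)).2 fun N => ?_
    rw [SModEq.sub_mem, smul_eq_mul, Ideal.mul_top]
    refine Ideal.pow_le_pow_right (Nat.le_succ N) ((truncHom_eq_zero R N _).1 ?_)
    rw [map_sub, hgΦ, hΦ, sub_self]
  have hsurj : Function.Surjective g := cring_surjective_of_dual (R := psRing hk n) g hg fun ψ ψ' h =>
    (hx fun i => TrivSqZeroExt.snd (ψ.1 (x i))).unique (fun _ => rfl) fun i => by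
      rw [← hgX, h]
  exact ⟨g, hg, hsurj, hgX⟩

/-- A smooth coefficient ring with a tangent coordinate system is a power series ring. -/
theorem exists_psEquiv (R : CRing Λ k) (hR' : IsSmoothFunctor (hR R.carrier R.res)) {n : ℕ}
    (x : Fin n → R.carrier) (hx0 : ∀ i, R.res (x i) = 0)
    (hx : ∀ a : Fin n → k, ∃! φ : HomSet R.carrier R.res (dual Λ k),
      ∀ i, TrivSqZeroExt.snd (φ.1 (x i)) = a i) :
    Nonempty (R.carrier ≃ₐ[Λ] MvPowerSeries (Fin n) Λ) := by
  have := finite_of_surjective hk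
  obtain ⟨g, hg, hsurj, hgX⟩ := exists_psSurj hk R x hx0 hx
  obtain ⟨η, hη⟩ : ∃ η : NatMap (hR R.carrier R.res) (hR (psRing hk n).carrier (psRing hk n).res),
      ∀ A ψ, (η.app A ψ).1 = ψ.1.comp g :=
    ⟨⟨fun A ψ => ⟨ψ.1.comp g, by rw [← AlgHom.comp_assoc, ψ.2, hg]⟩,
      fun f ψ => Subtype.ext (AlgHom.ext fun _ => rfl)⟩, fun _ _ => rfl⟩
  have hsm : IsSmoothMap η := by
    refine smooth_criterion η homSet_subsingleton_base heps_hR hbar_hR heps_hR (fun τ => ?_)
      fun B A μ hμ φ _ _ => hR' μ hμ.1 φ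
    obtain ⟨ψ, hψ, -⟩ := hx fun i => TrivSqZeroExt.snd (τ.1 (MvPowerSeries.X i))
    refine ⟨ψ, Subtype.ext ((hη _ _).trans ?_)⟩
    refine psHom_ext (fun i => TrivSqZeroExt.ext ?_ ?_) fun i => ?_
    · rw [AlgHom.comp_apply, hgX]
      exact ((homSet_res ψ _).trans (hx0 i)).trans ((homSet_res τ _).trans (psRes_X n i)).symm
    · rw [AlgHom.comp_apply, hgX, hψ]
    · rw [AlgHom.comp_apply, hgX, homSet_res, hx0]
  have hinj : Function.Injective g := (injective_iff_map_eq_zero g).2 fun r hr => by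
    have hmem : ∀ N, r ∈ IsLocalRing.maximalIdeal (psRing hk n).carrier ^ (N + 1) := fun N => by
      obtain ⟨ψ, hψ⟩ := surjective_of_isSmoothMap η hsm
        (fun y => ⟨⟨R.res, AlgHom.id_comp _⟩, homSet_subsingleton_base.elim _ _⟩) _
        ((psRing hk n).truncHom N)
      rw [← truncHom_eq_zero, ← hψ, hη, AlgHom.comp_apply, hr, map_zero]
    have := (psRing hk n).isAdicComplete
    refine (IsHausdorff.eq_iff_smodEq (I := IsLocalRing.maximalIdeal (psRing hk n).carrier)).2 fun N => ?_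
    rw [SModEq.sub_mem, smul_eq_mul, Ideal.mul_top, sub_zero]
    exact Ideal.pow_le_pow_right (Nat.le_succ N) (hmem N)
  exact ⟨(AlgEquiv.ofBijective g ⟨hinj, hsurj⟩).symm⟩

omit [IsNoetherianRing Λ] [IsLocalRing Λ] [IsAdicComplete (IsLocalRing.maximalIdeal Λ) Λ] in
/-- Tangent coordinates exist. -/
theorem exists_coordinates (R : CRing Λ k) :
    ∃ (n : ℕ) (x : Fin n → R.carrier), (∀ i, R.res (x i) = 0) ∧
      ∀ a : Fin n → k, ∃! φ : HomSet R.carrier R.res (dual Λ k),
        ∀ i, TrivSqZeroExt.snd (φ.1 (x i)) = a i := by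
  have := finite_of_surjective hk
  obtain ⟨T⟩ := nonempty_tangentStr (F := hR R.carrier R.res) h0_hR heps_hR
  have : Module.Finite k (TangentSpace (hR R.carrier R.res)) :=
    hfin_of_bijective R (Family.self R.carrier R.res) ⟨fun _ _ h => h, fun y => ⟨y, rfl⟩⟩
  obtain ⟨ev, hev⟩ : ∃ ev : R.carrier → (TangentSpace (hR R.carrier R.res) →ₗ[k] k),
      ∀ r (e : HomSet R.carrier R.res (dual Λ k)),
        ev r (TangentSpace.mk e) = TrivSqZeroExt.snd (e.1 r) := by
    refine ⟨fun r => { toFun := fun e => TrivSqZeroExt.snd (e.val.1 r), map_add' := fun e e' => ?_,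
                       map_smul' := fun c e => ?_ }, fun _ _ => rfl⟩
    · obtain ⟨ψ, ⟨hψ₁, hψ₂⟩, -⟩ := exists_homSet_pair (resR := R.res) isFibreProd_dual2
        e.val e'.val (homSet_subsingleton_base.elim _ _)
      have h := TangentStr.add_eq (F := hR R.carrier R.res) ψ
      have h' : (e + e').val = HomSet.map Art.plus ψ := by
        refine Eq.trans ?_ h
        exact congrArg TangentSpace.val (congrArg₂ (· + ·)
          (show e = TangentSpace.mk (F := hR R.carrier R.res) (HomSet.map Art.pr₁ ψ) from hψ₁.symm)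
          (show e' = TangentSpace.mk (F := hR R.carrier R.res) (HomSet.map Art.pr₂ ψ) from hψ₂.symm))
      rw [h', ← hψ₁, ← hψ₂]
      rfl
    · have h' : (c • e).val = HomSet.map (Art.scale c) e.val :=
        TangentStr.smul_eq (F := hR R.carrier R.res) c e.val
      rw [h']
      rfl
  let W : Submodule k (Module.Dual k (TangentSpace (hR R.carrier R.res))) :=
    { carrier := {f | ∃ r, R.res r = 0 ∧ ev r = f}
      zero_mem' := ⟨0, map_zero _, LinearMap.ext fun e => (hev 0 e.val).trans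
        (congrArg TrivSqZeroExt.snd (map_zero e.val.1))⟩
      add_mem' := by
        rintro _ _ ⟨r, hr, rfl⟩ ⟨r', hr', rfl⟩
        exact ⟨r + r', by rw [map_add, hr, hr', add_zero], LinearMap.ext fun e =>
          (hev (r + r') e.val).trans ((congrArg TrivSqZeroExt.snd (map_add e.val.1 r r')).trans
            (congrArg₂ (· + ·) (hev r e.val).symm (hev r' e.val).symm))⟩
      smul_mem' := by
        rintro c _ ⟨r, hr, rfl⟩
        obtain ⟨s, hs⟩ := R.res_surjective c
        refine ⟨s * r, by rw [map_mul, hr, mul_zero], LinearMap.ext fun e => ?_⟩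
        have h1 : TrivSqZeroExt.fst (e.val.1 s) = c := (homSet_res e.val s).trans hs
        have h2 : TrivSqZeroExt.fst (e.val.1 r) = 0 := (homSet_res e.val r).trans hr
        refine (hev (s * r) e.val).trans ?_
        rw [map_mul, LinearMap.smul_apply, ← TangentSpace.mk.eq_def e.val]
        change (e.val.1 s).fst • (e.val.1 r).snd + MulOpposite.op (e.val.1 r).fst • (e.val.1 s).snd = _
        rw [h1, h2, MulOpposite.op_zero, zero_smul, add_zero]
        exact congrArg (c • ·) (hev r e.val).symm }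
  have hW : W = ⊤ := by
    have hW' : W.dualCoannihilator = ⊥ := by
      refine eq_bot_iff.2 fun e he => ?_
      rw [Submodule.mem_dualCoannihilator] at he
      rw [Submodule.mem_bot]
      have h0 : ∀ r, R.res r = 0 → TrivSqZeroExt.snd (e.val.1 r) = 0 := fun r hr =>
        (hev r e.val).symm.trans (he _ ⟨r, hr, rfl⟩)
      have hz : e.val = HomSet.map (baseToDual (Λ := Λ) (k := k)) ⟨R.res, AlgHom.id_comp _⟩ := by
        refine homSet_ext fun r => TrivSqZeroExt.ext (homSet_res e.val r) ?_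
        obtain ⟨c, hc⟩ := hk (R.res r)
        have h1 := h0 (r - algebraMap Λ R.carrier c) (by rw [map_sub, AlgHom.commutes, hc, sub_self])
        rw [map_sub, AlgHom.commutes] at h1
        have h2 : (algebraMap Λ (TrivSqZeroExt k k) c).snd = 0 := by
          rw [TrivSqZeroExt.algebraMap_eq_inl', TrivSqZeroExt.snd_inl]
        have h3 := (TrivSqZeroExt.snd_sub _ _).symm.trans h1
        exact (sub_eq_zero.1 h3).trans h2
      have hzero : TangentSpace.mk (e.val) = (0 : k) • e := by
        have h := TangentStr.smul_eq (F := hR R.carrier R.res) (0 : k) e.val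
        refine Eq.trans ?_ h.symm
        rw [hz]
        refine homSet_ext fun r => TrivSqZeroExt.ext rfl ?_
        exact (zero_mul _).symm
      exact hzero.trans (zero_smul k e)
    rw [← Subspace.dualCoannihilator_dualAnnihilator_eq (W := W), hW', Submodule.dualAnnihilator_bot]
  obtain ⟨d, ⟨b⟩⟩ : ∃ d, Nonempty (Module.Basis (Fin d) k (TangentSpace (hR R.carrier R.res))) :=
    ⟨_, ⟨Module.finBasis k _⟩⟩
  have hb : ∀ i, b.coord i ∈ W := fun i => hW ▸ Submodule.mem_top
  choose x hx0 hx using hb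
  refine ⟨d, x, hx0, fun a => ⟨(b.equivFun.symm a).val, fun i => ?_, fun φ hφ => ?_⟩⟩
  · refine (hev (x i) _).symm.trans ?_
    rw [hx]
    change b.coord i (b.equivFun.symm a) = a i
    rw [Module.Basis.coord_apply, ← Module.Basis.equivFun_apply, LinearEquiv.apply_symm_apply]
  · have h : b.equivFun (TangentSpace.mk φ) = a := funext fun i => by
      rw [Module.Basis.equivFun_apply, ← Module.Basis.coord_apply, ← hx, hev, hφ]
    rw [← h, LinearEquiv.symm_apply_apply]
    rfl

theorem smooth_iff_powerSeries (R : CRing Λ k) :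
    IsSmoothFunctor (hR R.carrier R.res) ↔
      ∃ n : ℕ, Nonempty (R.carrier ≃ₐ[Λ] MvPowerSeries (Fin n) Λ) := by
  constructor
  · intro h
    obtain ⟨n, x, hx0, hx⟩ := exists_coordinates hk R
    exact ⟨n, exists_psEquiv hk R h x hx0 hx⟩
  · rintro ⟨n, ⟨e⟩⟩
    exact isSmoothFunctor_of_equiv hk e

end Equiv

end ArtLib
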