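import Groth.Agent.ArtLib.Power

/-!
# Change of coefficient ring
-/

set_option autoImplicit false

universe u v

open CategoryTheory

namespace ArtLib

open ArtFun ArtFun.Art

variable {Λ : Type u} {k : Type u} [CommRing Λ] [Field k] [Algebra Λ k]
variable {R : Type u} [CommRing R] [Algebra Λ R] [Algebra R k] [IsScalarTower Λ R k]

/-- An object over `R` seen as an object over `Λ`. -/
@[reducible]
def toArt (A : Art R k) : Art Λ k :=
  letI := ((algebraMap R A).comp (algebraMap Λ R)).toAlgebra
  { carrier := A
    res :=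
      { A.res.toRingHom with
        commutes' := fun l => by
          change A.res (algebraMap R A (algebraMap Λ R l)) = algebraMap Λ k l
          rw [AlgHom.commutes, ← IsScalarTower.algebraMap_apply] }
    res_surjective := A.res_surjective }

/-- An object over `Λ` under `R` seen as an object over `R`. -/
@[reducible]
def ofArt (A : Art Λ k) (y : R →ₐ[Λ] A) (hy : ∀ r, A.res (y r) = algebraMap R k r) : Art R k :=
  letI := y.toRingHom.toAlgebra
  { carrier := A
    res := { A.res.toRingHom with commutes' := hy }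
    res_surjective := A.res_surjective }

theorem smooth_iff_versal (S : Type u) [CommRing S] [Algebra Λ S] [Algebra R S] [IsScalarTower Λ R S]
    (resΛ : S →ₐ[Λ] k) (resR : S →ₐ[R] k) (hres : ∀ s, resR s = resΛ s)
    (h : resΛ.comp (IsScalarTower.toAlgHom Λ R S) = IsScalarTower.toAlgHom Λ R k) :
    IsVersal ((Family.self R (IsScalarTower.toAlgHom Λ R k)).along (IsScalarTower.toAlgHom Λ R S) h) ↔
      IsSmoothFunctor (hR S resR) := by
  constructor
  · intro hv B A μ hμ φ
    let μ' : toArt (Λ := Λ) B ⟶ toArt (Λ := Λ) A :=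
      ⟨{ μ.toAlgHom.toRingHom with
          commutes' := fun l => μ.toAlgHom.commutes (algebraMap Λ R l) },
        AlgHom.ext fun b => Art.res_app μ b⟩
    let φ' : HomSet S resΛ (toArt (Λ := Λ) A) :=
      ⟨{ φ.1.toRingHom with
          commutes' := fun l => by
            change φ.1 (algebraMap Λ S l) = algebraMap R A (algebraMap Λ R l)
            rw [IsScalarTower.algebraMap_apply Λ R S, AlgHom.commutes] },
        AlgHom.ext fun s => (homSet_res φ s).trans (hres s)⟩
    let y : HomSet R (IsScalarTower.toAlgHom Λ R k) (toArt (Λ := Λ) B) :=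
      ⟨{ algebraMap R B with commutes' := fun l => rfl },
        AlgHom.ext fun r => B.res.commutes r⟩
    obtain ⟨ψ, hψ, hψy⟩ := hv μ' hμ φ' y (Subtype.ext <| AlgHom.ext fun r =>
      (μ.toAlgHom.commutes r).trans (φ.1.commutes r).symm)
    refine ⟨⟨{ ψ.1.toRingHom with commutes' := fun r => ?_ }, ?_⟩, ?_⟩
    · exact AlgHom.congr_fun (congrArg Subtype.val hψy) r
    · exact AlgHom.ext fun s => (homSet_res ψ s).trans (hres s).symm
    · exact homSet_ext fun s => AlgHom.congr_fun (congrArg Subtype.val hψ) s
  · intro hs B A μ hμ φ y e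
    have hy : ∀ r, B.res (y.1 r) = algebraMap R k r := fun r => homSet_res y r
    obtain ⟨z, hz⟩ : ∃ z : R →ₐ[Λ] A, z = φ.1.comp (IsScalarTower.toAlgHom Λ R S) := ⟨_, rfl⟩
    have hz' : ∀ r, A.res (z r) = algebraMap R k r := fun r => by
      rw [hz]
      exact (homSet_res φ _).trans (AlgHom.congr_fun h r)
    have e' : ∀ r, μ (y.1 r) = z r := fun r => by
      rw [hz]
      exact AlgHom.congr_fun (congrArg Subtype.val e) r
    let μ' : ofArt B y.1 hy ⟶ ofArt A z hz' :=
      ⟨{ μ.toAlgHom.toRingHom with commutes' := e' }, AlgHom.ext fun b => Art.res_app μ b⟩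
    let φ' : HomSet S resR (ofArt A z hz') :=
      ⟨{ φ.1.toRingHom with commutes' := fun r => (AlgHom.congr_fun hz r).symm },
        AlgHom.ext fun s => (homSet_res φ s).trans (hres s).symm⟩
    obtain ⟨ψ, hψ⟩ := hs μ' hμ φ'
    refine ⟨⟨{ ψ.1.toRingHom with commutes' := fun l => ?_ }, ?_⟩, ?_, ?_⟩
    · change ψ.1 (algebraMap Λ S l) = algebraMap Λ B l
      rw [IsScalarTower.algebraMap_apply Λ R S, AlgHom.commutes]
      exact y.1.commutes l
    · exact AlgHom.ext fun s => (homSet_res ψ s).trans (hres s)
    · exact homSet_ext fun s => AlgHom.congr_fun (congrArg Subtype.val hψ) s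
    · exact homSet_ext fun r => ψ.1.commutes r

end ArtLib
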