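import Groth.Agent.ArtLib.Basic

/-!
# Small extensions
-/

set_option autoImplicit false

universe u v

open CategoryTheory

namespace ArtLib

open ArtFun ArtFun.Art

variable {Λ : Type u} {k : Type u} [CommRing Λ] [Field k] [Algebra Λ k]

theorem exists_socle_ring {R : Type*} [CommRing R] {m I J : Ideal R} (n : ℕ) (hn : m ^ n * J ≤ I)
    (hIJ : I < J) : ∃ t ∈ J, t ∉ I ∧ ∀ x ∈ m, x * t ∈ I := by
  induction n with
  | zero => rw [pow_zero, one_mul] at hn; exact absurd hn hIJ.not_ge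
  | succ n ih =>
    by_cases h : m ^ n * J ≤ I
    · exact ih h
    · obtain ⟨t, ht, htI⟩ := SetLike.not_le_iff_exists.1 h
      refine ⟨t, (Ideal.mul_le.2 fun r _ s hs => J.mul_mem_left r hs) ht, htI, fun x hx => hn ?_⟩
      rw [pow_succ', mul_assoc]
      exact Ideal.mul_mem_mul hx ht

theorem exists_socle {B : Art Λ k} {I J : Ideal B} (hIJ : I < J) :
    ∃ t ∈ J, t ∉ I ∧ ∀ m ∈ IsLocalRing.maximalIdeal B, m * t ∈ I := by
  obtain ⟨n, hn⟩ := isNilpotent_maximalIdeal B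
  refine exists_socle_ring n ?_ hIJ
  rw [hn, Submodule.zero_eq_bot, Ideal.bot_mul]
  exact bot_le

theorem isSmallExt_quot {B : Art Λ k} {I : Ideal B} (hI : I ≤ IsLocalRing.maximalIdeal B) {t : B}
    (ht : t ∈ IsLocalRing.maximalIdeal B) (htI : t ∉ I)
    (hmt : ∀ m ∈ IsLocalRing.maximalIdeal B, m * t ∈ I) :
    IsSmallExt (quotLift (A := B) (B := quot B (I ⊔ Ideal.span {t})
      (sup_le hI ((Ideal.span_singleton_le_iff_mem _).2 ht))) hI (quotMk B _ _)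
      (fun _ ha => quotMk_eq_zero.2 (Ideal.mem_sup_left ha))) := by
  have hJ : I ⊔ Ideal.span {t} ≤ IsLocalRing.maximalIdeal B :=
    sup_le hI ((Ideal.span_singleton_le_iff_mem _).2 ht)
  set p := quotLift (A := B) (B := quot B (I ⊔ Ideal.span {t}) hJ) hI (quotMk B _ _)
    (fun _ ha => quotMk_eq_zero.2 (Ideal.mem_sup_left ha)) with hp
  have hker : RingHom.ker p.toAlgHom = Ideal.span {quotMk B I hI t} := by
    refine le_antisymm (fun x hx => ?_) ((Ideal.span_singleton_le_iff_mem _).2 ?_)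
    · obtain ⟨b, rfl⟩ := quotMk_surjective B I hI x
      have hb : b ∈ I ⊔ Ideal.span {t} := quotMk_eq_zero.1 hx
      obtain ⟨i, hi, y, hy, rfl⟩ := Submodule.mem_sup.1 hb
      obtain ⟨c, rfl⟩ := Ideal.mem_span_singleton.1 hy
      rw [Ideal.mem_span_singleton]
      refine ⟨quotMk B I hI c, ?_⟩
      rw [map_add, map_mul, quotMk_eq_zero.2 hi, zero_add]
    · exact quotMk_eq_zero.2 (Ideal.mem_sup_right (Ideal.mem_span_singleton_self t))
  refine ⟨fun x => ?_, ?_, ⟨⟨_, hker⟩⟩, ?_⟩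
  · obtain ⟨b, rfl⟩ := quotMk_surjective B _ hJ x
    exact ⟨quotMk B I hI b, rfl⟩
  · rw [hker]
    exact fun h => htI (quotMk_eq_zero.1 (Ideal.span_singleton_eq_bot.1 h))
  · rw [hker, eq_bot_iff, Ideal.mul_le]
    intro x hx y hy
    obtain ⟨b, rfl⟩ := quotMk_surjective B I hI x
    obtain ⟨c, rfl⟩ := Ideal.mem_span_singleton.1 hy
    have hb : b ∈ IsLocalRing.maximalIdeal B := (Art.mem_maximalIdeal_iff _ _).2
      ((Art.res_app (quotMk B I hI) b).symm.trans ((Art.mem_maximalIdeal_iff _ _).1 hx))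
    rw [Ideal.mem_bot, ← mul_assoc, ← map_mul, quotMk_eq_zero.2 (hmt b hb), zero_mul]

/-- Every surjection is a composite of small extensions. -/
theorem surjective_induction (P : ∀ ⦃A B : Art Λ k⦄, (B ⟶ A) → Prop)
    (hiso : ∀ ⦃A B : Art Λ k⦄ (e : B ⟶ A), IsIso e → P e)
    (hsmall : ∀ ⦃A B : Art Λ k⦄ (p : B ⟶ A), IsSmallExt p → P p)
    (hcomp : ∀ ⦃A B C : Art Λ k⦄ (p : C ⟶ B) (q : B ⟶ A), P p → P q → P (p ≫ q))
    {A B : Art Λ k} (f : B ⟶ A) (hf : Function.Surjective f) : P f := by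
  suffices key : ∀ (I : Ideal B) (hI : I ≤ RingHom.ker f.toAlgHom),
      P (quotLift (hI.trans (ker_le_maximalIdeal f)) f hI) by
    have h0 : (⊥ : Ideal B) ≤ IsLocalRing.maximalIdeal B := bot_le
    have he : P (quotMk B ⊥ h0) := hiso _ ((isIso_iff_bijective _).2
      ⟨(injective_iff_map_eq_zero (quotMk B ⊥ h0).toAlgHom).2
        fun a ha => Ideal.mem_bot.1 (quotMk_eq_zero.1 ha), quotMk_surjective _ _ _⟩)
    have := hcomp _ _ he (key ⊥ bot_le)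
    exact (congrArg (P (A := A) (B := B)) (hom_ext' fun _ => rfl : quotMk B ⊥ h0 ≫ _ = f)).mp this
  intro I
  induction I using IsWellFounded.induction (α := Ideal B) (r := (· > ·)) with
  | ind I ih =>
    intro hI
    rcases hI.lt_or_eq with hlt | heq
    · obtain ⟨t, ht, htI, hmt⟩ := exists_socle hlt
      have hJ : I ⊔ Ideal.span {t} ≤ RingHom.ker f.toAlgHom :=
        sup_le hI ((Ideal.span_singleton_le_iff_mem _).2 ht)
      have hlt' : I ⊔ Ideal.span {t} > I :=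
        lt_of_le_of_ne le_sup_left fun h => htI (h ▸ Ideal.mem_sup_right
          (Ideal.mem_span_singleton_self t))
      have := hcomp _ _ (hsmall _ (isSmallExt_quot (hI.trans (ker_le_maximalIdeal f))
        (ker_le_maximalIdeal f ht) htI hmt)) (ih _ hlt' hJ)
      refine (congrArg (P (A := A) (B := quot B I _)) (?_ : _ = _)).mp this
      exact hom_ext' fun x => by
        obtain ⟨b, rfl⟩ := quotMk_surjective B I (hI.trans (ker_le_maximalIdeal f)) x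
        rfl
    · refine hiso _ ((isIso_iff_bijective _).2 ⟨?_, fun a => ?_⟩)
      · refine (injective_iff_map_eq_zero (quotLift (hI.trans (ker_le_maximalIdeal f)) f hI).toAlgHom).2
          fun x hx => ?_
        obtain ⟨b, rfl⟩ := quotMk_surjective B I (hI.trans (ker_le_maximalIdeal f)) x
        refine quotMk_eq_zero.2 ?_
        rw [heq]
        exact hx
      · obtain ⟨b, rfl⟩ := hf a
        exact ⟨quotMk B I _ b, rfl⟩

variable {F G : Art Λ k ⥤ Type v}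

theorem cmp_val (F : Art Λ k ⥤ Type v) {B A A' A'' : Art Λ k} {p' : B ⟶ A'} {p'' : B ⟶ A''}
    {f' : A' ⟶ A} {f'' : A'' ⟶ A} (h : IsFibreProd p' p'' f' f'') (z : F.obj B) :
    (cmp F h z).1 = (F.map p' z, F.map p'' z) := rfl

theorem cmp_surjective_iff (F : Art Λ k ⥤ Type v) {B A A' A'' : Art Λ k} {p' : B ⟶ A'}
    {p'' : B ⟶ A''} {f' : A' ⟶ A} {f'' : A'' ⟶ A} (h : IsFibreProd p' p'' f' f'') :
    Function.Surjective (cmp F h) ↔ ∀ (x : F.obj A') (y : F.obj A''),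
      F.map f' x = F.map f'' y → ∃ z, F.map p' z = x ∧ F.map p'' z = y := by
  constructor
  · intro hs x y hxy
    obtain ⟨z, hz⟩ := hs ⟨(x, y), hxy⟩
    exact ⟨z, congrArg (fun t => t.1.1) hz, congrArg (fun t => t.1.2) hz⟩
  · intro hs t
    obtain ⟨z, h₁, h₂⟩ := hs t.1.1 t.1.2 t.2
    exact ⟨z, FibProd.ext h₁ h₂⟩

theorem cmp_injective_iff (F : Art Λ k ⥤ Type v) {B A A' A'' : Art Λ k} {p' : B ⟶ A'}
    {p'' : B ⟶ A''} {f' : A' ⟶ A} {f'' : A'' ⟶ A} (h : IsFibreProd p' p'' f' f'') :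
    Function.Injective (cmp F h) ↔
      ∀ z z', F.map p' z = F.map p' z' → F.map p'' z = F.map p'' z' → z = z' :=
  ⟨fun hi z z' h₁ h₂ => hi (FibProd.ext h₁ h₂),
    fun hi z z' e => hi z z' (congrArg (fun t => t.1.1) e) (congrArg (fun t => t.1.2) e)⟩

theorem cmp_of_iso (F : Art Λ k ⥤ Type v) {B A A' A'' : Art Λ k} {p' : B ⟶ A'} {p'' : B ⟶ A''}
    {f' : A' ⟶ A} {f'' : A'' ⟶ A} (h : IsFibreProd p' p'' f' f'') (hf : IsIso f'') :
    Function.Bijective (cmp F h) := by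
  have hp : Function.Bijective p' := ⟨fun b₁ b₂ e => h.inj b₁ b₂ e
    (((isIso_iff_bijective f'').1 hf).1 (by rw [← h.w_apply, ← h.w_apply, e])),
    fp_fst_surjective h ((isIso_iff_bijective f'').1 hf).2⟩
  have hFp := map_bijective F p' hp
  have hFf := map_bijective_of_isIso F f''
  refine ⟨(cmp_injective_iff F h).2 fun z z' e _ => hFp.1 e,
    (cmp_surjective_iff F h).2 fun x y e => ?_⟩
  obtain ⟨z, hz⟩ := hFp.2 x
  refine ⟨z, hz, hFf.1 ?_⟩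
  rw [← e, ← hz, ← map_comp_apply, ← map_comp_apply, h.w]

theorem relCmp_surjective_iff (η : F ⟶ G) {B A : Art Λ k} (μ : B ⟶ A) :
    Function.Surjective (relCmp η μ) ↔ ∀ (x : F.obj A) (y : G.obj B),
      η.app A x = G.map μ y → ∃ z, F.map μ z = x ∧ η.app B z = y := by
  constructor
  · intro hs x y e
    obtain ⟨z, hz⟩ := hs ⟨(x, y), e⟩
    exact ⟨z, congrArg (fun t => t.1.1) hz, congrArg (fun t => t.1.2) hz⟩
  · intro hs t
    obtain ⟨z, h₁, h₂⟩ := hs t.1.1 t.1.2 t.2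
    exact ⟨z, Subtype.ext (Prod.ext h₁ h₂)⟩

theorem isSmooth_of_smallExt (η : F ⟶ G)
    (h : ∀ ⦃B A : Art Λ k⦄ (μ : B ⟶ A), IsSmallExt μ → Function.Surjective (relCmp η μ)) :
    IsSmooth η := by
  intro B A μ hμ
  refine surjective_induction (P := fun A B μ => Function.Surjective (relCmp η μ)) ?_ ?_ ?_ μ hμ
  · intro A B e he
    refine (relCmp_surjective_iff η e).2 fun x y hxy => ?_
    obtain ⟨z, hz⟩ := (map_bijective_of_isIso F e).2 x
    exact ⟨z, hz, (map_bijective_of_isIso G e).1 (by rw [← hxy, ← nat_app, hz])⟩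
  · exact fun A B p hp => h p hp
  · intro A B C p q hp hq
    refine (relCmp_surjective_iff η _).2 fun x y hxy => ?_
    rw [map_comp_apply] at hxy
    obtain ⟨z₁, h₁, h₂⟩ := (relCmp_surjective_iff η q).1 hq x (G.map p y) hxy
    obtain ⟨z, h₃, h₄⟩ := (relCmp_surjective_iff η p).1 hp z₁ y h₂
    exact ⟨z, by rw [map_comp_apply, h₃, h₁], h₄⟩

theorem isSmoothFunctor_of_smallExt (F : Art Λ k ⥤ Type v)
    (h : ∀ ⦃B A : Art Λ k⦄ (μ : B ⟶ A), IsSmallExt μ → Function.Surjective (F.map μ)) :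
    IsSmoothFunctor F := by
  intro B A μ hμ
  refine surjective_induction (P := fun A B μ => Function.Surjective (F.map μ)) ?_ ?_ ?_ μ hμ
  · exact fun A B e he => (map_bijective_of_isIso F e).2
  · exact fun A B p hp => h p hp
  · intro A B C p q hp hq x
    obtain ⟨y, rfl⟩ := hq x
    obtain ⟨z, rfl⟩ := hp y
    exact ⟨z, map_comp_apply F p q z⟩

theorem toBase_surjective (A : Art Λ k) : Function.Surjective (toBase A) := A.res_surjective

theorem surjective_app_of_isSmooth (η : F ⟶ G) (hη : IsSmooth η)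
    (h0 : Function.Surjective (η.app (base Λ k))) (A : Art Λ k) :
    Function.Surjective (η.app A) := fun y => by
  obtain ⟨x, hx⟩ := h0 (G.map (toBase A) y)
  obtain ⟨z, -, hz⟩ := (relCmp_surjective_iff η _).1 (hη _ (toBase_surjective A)) x y hx
  exact ⟨z, hz⟩

theorem s1_of_hbar [IsNoetherianRing Λ] [Module.Finite Λ k] (hF : Hbar F) : S1 F := by
  intro D A A₁ A₂ d₁ d₂ f₁ f₂ hD hf₂
  refine surjective_induction
    (P := fun A A₂ f₂ => Function.Surjective f₂ ∧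
      ∀ ⦃D A₁ : Art Λ k⦄ (d₁ : D ⟶ A₁) (d₂ : D ⟶ A₂) (f₁ : A₁ ⟶ A)
      (hD : IsFibreProd d₁ d₂ f₁ f₂), Function.Surjective (cmp F hD)) ?_ ?_ ?_ f₂ hf₂ |>.2
      d₁ d₂ f₁ hD
  · exact fun A B e he => ⟨((isIso_iff_bijective e).1 he).2,
      fun D A₁ d₁ d₂ f₁ hD => (cmp_of_iso F hD he).2⟩
  · exact fun A B p hp => ⟨hp.1, fun D A₁ d₁ d₂ f₁ hD => hF _ _ _ _ hD hp⟩
  · rintro A C A₂ g h ⟨hg, hg'⟩ ⟨hh, hh'⟩
    refine ⟨hh.comp hg, fun D A₁ d₁ d₂ f₁ hD => (cmp_surjective_iff F hD).2 fun x y hxy => ?_⟩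
    obtain ⟨E, e₁, e₂, hE⟩ := exists_fp f₁ h hh
    obtain ⟨q, hq₁, hq₂⟩ : ∃ q : D ⟶ E, q ≫ e₁ = d₁ ∧ q ≫ e₂ = d₂ ≫ g :=
      ⟨fpLift hE d₁ (d₂ ≫ g) (by rw [hD.w, Category.assoc]), fpLift_fst .., fpLift_snd ..⟩
    have hDE := fp_of_outer hE hD q hq₁ hq₂
    rw [map_comp_apply] at hxy
    obtain ⟨w, hw₁, hw₂⟩ := (cmp_surjective_iff F hE).1 (hh' _ _ _ hE) x (F.map g y) hxy
    obtain ⟨z, hz₁, hz₂⟩ := (cmp_surjective_iff F hDE).1 (hg' _ _ _ hDE) w y hw₂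
    exact ⟨z, by rw [← hq₁, map_comp_apply, hz₁, hw₁], hz₂⟩

theorem hbar_of_s1 (hF : S1 F) : Hbar F := fun _ _ _ _ _ _ _ _ h hs => hF _ _ _ _ h hs.1

theorem rs_of_smallExt [IsNoetherianRing Λ] [Module.Finite Λ k]
    (hF : ∀ ⦃B A A' A'' : Art Λ k⦄ (p' : B ⟶ A') (p'' : B ⟶ A'') (f' : A' ⟶ A) (f'' : A'' ⟶ A)
      (h : IsFibreProd p' p'' f' f''), IsSmallExt f'' → Function.Bijective (cmp F h))
    ⦃D A A₁ A₂ : Art Λ k⦄ (d₁ : D ⟶ A₁) (d₂ : D ⟶ A₂) (f₁ : A₁ ⟶ A) (f₂ : A₂ ⟶ A)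
    (hD : IsFibreProd d₁ d₂ f₁ f₂) (hf₂ : Function.Surjective f₂) :
    Function.Bijective (cmp F hD) := by
  refine ⟨?_, s1_of_hbar (fun _ _ _ _ _ _ _ _ h hs => (hF _ _ _ _ h hs).2) _ _ _ _ hD hf₂⟩
  refine surjective_induction
    (P := fun A A₂ f₂ => Function.Surjective f₂ ∧
      ∀ ⦃D A₁ : Art Λ k⦄ (d₁ : D ⟶ A₁) (d₂ : D ⟶ A₂) (f₁ : A₁ ⟶ A)
      (hD : IsFibreProd d₁ d₂ f₁ f₂), Function.Injective (cmp F hD)) ?_ ?_ ?_ f₂ hf₂ |>.2
      d₁ d₂ f₁ hD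
  · exact fun A B e he => ⟨((isIso_iff_bijective e).1 he).2,
      fun D A₁ d₁ d₂ f₁ hD => (cmp_of_iso F hD he).1⟩
  · exact fun A B p hp => ⟨hp.1, fun D A₁ d₁ d₂ f₁ hD => (hF _ _ _ _ hD hp).1⟩
  · rintro A C A₂ g h ⟨hg, hg'⟩ ⟨hh, hh'⟩
    refine ⟨hh.comp hg, fun D A₁ d₁ d₂ f₁ hD => (cmp_injective_iff F hD).2 fun z z' h₁ h₂ => ?_⟩
    obtain ⟨E, e₁, e₂, hE⟩ := exists_fp f₁ h hh
    obtain ⟨q, hq₁, hq₂⟩ : ∃ q : D ⟶ E, q ≫ e₁ = d₁ ∧ q ≫ e₂ = d₂ ≫ g :=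
      ⟨fpLift hE d₁ (d₂ ≫ g) (by rw [hD.w, Category.assoc]), fpLift_fst .., fpLift_snd ..⟩
    have hDE := fp_of_outer hE hD q hq₁ hq₂
    refine (cmp_injective_iff F hDE).1 (hg' _ _ _ hDE) z z' ?_ h₂
    refine (cmp_injective_iff F hE).1 (hh' _ _ _ hE) _ _ ?_ ?_
    · rw [← map_comp_apply, ← map_comp_apply, hq₁, h₁]
    · rw [← map_comp_apply, ← map_comp_apply, hq₂, map_comp_apply, map_comp_apply, h₂]

end ArtLib
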