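import Groth.Agent.ArtLib.Cotangent

/-!
# Square-zero objects and tangent spaces
-/

set_option autoImplicit false

universe u v w

open CategoryTheory

namespace ArtLib

open ArtFun ArtFun.Art

variable {Λ : Type u} {k : Type u} [CommRing Λ] [Field k] [Algebra Λ k]

/-- A natural family of maps between functors with values in possibly different universes. -/
structure NatMap (F : Art Λ k ⥤ Type v) (G : Art Λ k ⥤ Type w) where
  /-- The components. -/
  app : ∀ A : Art Λ k, F.obj A → G.obj A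
  nat : ∀ {A B : Art Λ k} (f : A ⟶ B) (x : F.obj A), app B (F.map f x) = G.map f (app A x)

/-- A natural transformation as a `NatMap`. -/
@[reducible]
def NatMap.ofNat {F G : Art Λ k ⥤ Type v} (η : F ⟶ G) : NatMap F G :=
  ⟨fun A x => η.app A x, fun f x => nat_app η f x⟩

/-- A family as a `NatMap` out of `h_R`. -/
@[reducible]
def NatMap.ofFamily {R : Type u} [CommRing R] [Algebra Λ R] {resR : R →ₐ[Λ] k}
    {F : Art Λ k ⥤ Type v} (ξ : Family R resR F) : NatMap (hR R resR) F :=
  ⟨fun A φ => ξ.app A φ, fun f φ => ξ.natural f φ⟩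

/-! ## the objects `k ⊕ kⁿ` -/

variable (Λ k) in
/-- `k ⊕ kⁿ`. -/
def tz (n : ℕ) : Art Λ k :=
  { carrier := TrivSqZeroExt k (Fin n → k)
    isLocalRing := Art.isLocalRing_tsze k (Fin n → k)
    isArtinianRing := Art.isArtinianRing_tsze k (Fin n → k)
    res := TrivSqZeroExt.fstHom Λ k (Fin n → k)
    res_surjective := fun a => ⟨TrivSqZeroExt.inl a, rfl⟩ }

/-- The map `k ⊕ kⁿ → k[ε]` of a functional. -/
def toD {n : ℕ} (f : (Fin n → k) →ₗ[k] k) : tz Λ k n ⟶ dual Λ k :=
  Art.homMk (tszeMap f) (AlgHom.ext fun _ => rfl)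

/-- The map `k ⊕ kⁿ → k ⊕ kᵐ` of a linear map. -/
def tzMap {n m : ℕ} (f : (Fin n → k) →ₗ[k] (Fin m → k)) : tz Λ k n ⟶ tz Λ k m :=
  Art.homMk (tszeMap f) (AlgHom.ext fun _ => rfl)

/-- The map `k ⊕ kⁿ → k[ε₁, ε₂]` of a pair of functionals. -/
def toD2 {n : ℕ} (f g : (Fin n → k) →ₗ[k] k) : tz Λ k n ⟶ dual2 Λ k :=
  Art.homMk (tszeMap (f.prod g)) (AlgHom.ext fun _ => rfl)

theorem tzMap_comp_toD {n m : ℕ} (f : (Fin n → k) →ₗ[k] (Fin m → k))
    (g : (Fin m → k) →ₗ[k] k) : (tzMap f ≫ toD g : tz Λ k n ⟶ _) = toD (g.comp f) :=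
  hom_ext' fun _ => rfl

theorem toD2_pr₁ {n : ℕ} (f g : (Fin n → k) →ₗ[k] k) :
    (toD2 f g ≫ pr₁ : tz Λ k n ⟶ _) = toD f := hom_ext' fun _ => rfl

theorem toD2_pr₂ {n : ℕ} (f g : (Fin n → k) →ₗ[k] k) :
    (toD2 f g ≫ pr₂ : tz Λ k n ⟶ _) = toD g := hom_ext' fun _ => rfl

theorem toD2_plus {n : ℕ} (f g : (Fin n → k) →ₗ[k] k) :
    (toD2 f g ≫ plus : tz Λ k n ⟶ _) = toD (f + g) := hom_ext' fun _ => rfl

theorem toD_scale {n : ℕ} (f : (Fin n → k) →ₗ[k] k) (c : k) :
    (toD f ≫ scale c : tz Λ k n ⟶ _) = toD (c • f) := hom_ext' fun _ => rfl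

theorem toD_zero (n : ℕ) :
    (toD 0 : tz Λ k n ⟶ _) = toBase (tz Λ k n) ≫ baseToDual :=
  hom_ext' fun _ => TrivSqZeroExt.ext rfl rfl

theorem tz_isSq (n : ℕ) : IsLocalRing.maximalIdeal (tz Λ k n) ^ 2 = ⊥ := by
  rw [sq, eq_bot_iff, Ideal.mul_le]
  intro x hx y hy
  rw [Art.mem_maximalIdeal_iff] at hx hy
  have hx' : x.fst = 0 := hx
  have hy' : y.fst = 0 := hy
  rw [Ideal.mem_bot]
  refine TrivSqZeroExt.ext ?_ ?_
  · change x.fst * y.fst = 0
    rw [hx', zero_mul]
  · change x.fst • y.snd + MulOpposite.op y.fst • x.snd = 0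
    rw [hx', hy', MulOpposite.op_zero, zero_smul, zero_smul, add_zero]

theorem isFibreProd_tz_succ (n : ℕ) :
    IsFibreProd (tzMap (LinearMap.funLeft k k Fin.castSucc) : tz Λ k (n + 1) ⟶ tz Λ k n)
      (toD (LinearMap.proj (Fin.last n))) (toBase _) (toBase _) where
  w := by rw [Art.eq_toBase (tzMap _ ≫ toBase _), Art.eq_toBase (toD _ ≫ toBase _)]
  inj b₁ b₂ h₁ h₂ := by
    have e₁ : b₁.fst = b₂.fst := by have e := congrArg TrivSqZeroExt.fst h₁; exact e
    have e₂ : ∀ i : Fin n, b₁.snd i.castSucc = b₂.snd i.castSucc :=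
      fun i => by have e := congrArg TrivSqZeroExt.snd h₁; exact congrFun e i
    have e₃ : b₁.snd (Fin.last n) = b₂.snd (Fin.last n) := by
      have e := congrArg TrivSqZeroExt.snd h₂; exact e
    exact TrivSqZeroExt.ext e₁ (funext fun i => Fin.lastCases e₃ e₂ i)
  surj a' a'' h := by
    refine ⟨TrivSqZeroExt.inl a'.fst + TrivSqZeroExt.inr (Fin.snoc a'.snd a''.snd), ?_, ?_⟩
    · refine TrivSqZeroExt.ext ?_ (funext fun i => ?_)
      · change a'.fst + 0 = a'.fst
        rw [add_zero]
      · change (0 : k) + (Fin.snoc a'.snd a''.snd : Fin (n + 1) → k) i.castSucc = a'.snd i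
        rw [Fin.snoc_castSucc, zero_add]
    · refine TrivSqZeroExt.ext ?_ ?_
      · change a'.fst + 0 = a''.fst
        rw [add_zero]
        exact h
      · change (0 : k) + (Fin.snoc a'.snd a''.snd : Fin (n + 1) → k) (Fin.last n) = a''.snd
        rw [Fin.snoc_last, zero_add]

theorem toBase_tz_zero_bijective : Function.Bijective (toBase (tz Λ k 0)) :=
  ⟨fun x y h => TrivSqZeroExt.ext h (funext fun i => i.elim0), toBase_surjective _⟩

theorem cmp_tz_bijective [IsNoetherianRing Λ] [Module.Finite Λ k] {F : Art Λ k ⥤ Type v}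
    (hF : Heps F) : ∀ (n : ℕ) ⦃B A : Art Λ k⦄ (p' : B ⟶ A) (p'' : B ⟶ tz Λ k n)
      (h : IsFibreProd p' p'' (toBase A) (toBase (tz Λ k n))), Function.Bijective (cmp F h) := by
  intro n
  induction n with
  | zero =>
    intro B A p' p'' h
    exact cmp_of_iso F h ((isIso_iff_bijective _).2 toBase_tz_zero_bijective)
  | succ n ih =>
    intro B A p' p'' h
    obtain ⟨c, hc⟩ : ∃ c : tz Λ k (n + 1) ⟶ tz Λ k n, c = tzMap (LinearMap.funLeft k k Fin.castSucc) :=
      ⟨_, rfl⟩
    obtain ⟨l, hl⟩ : ∃ l : tz Λ k (n + 1) ⟶ dual Λ k, l = toD (LinearMap.proj (Fin.last n)) :=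
      ⟨_, rfl⟩
    have hS : IsFibreProd c l (toBase _) (toBase _) := by rw [hc, hl]; exact isFibreProd_tz_succ n
    obtain ⟨B', b₁, b₂, hB'⟩ := exists_fp (toBase A) (toBase (tz Λ k n)) (toBase_surjective _)
    obtain ⟨q, hq₁, hq₂⟩ : ∃ q : B ⟶ B', q ≫ b₁ = p' ∧ q ≫ b₂ = p'' ≫ c :=
      ⟨fpLift hB' p' (p'' ≫ c) (by rw [Art.eq_toBase (p' ≫ _), Art.eq_toBase ((p'' ≫ c) ≫ _)]),
        fpLift_fst .., fpLift_snd ..⟩
    have hB : IsFibreProd q (p'' ≫ l) (toBase B') (toBase (dual Λ k)) :=
      { w := by rw [Art.eq_toBase (q ≫ _), Art.eq_toBase ((p'' ≫ l) ≫ _)]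
        inj := fun z z' e₁ e₂ => h.inj z z'
          (by rw [← hom_congr hq₁ z, ← hom_congr hq₁ z', Art.comp_apply, Art.comp_apply, e₁])
          (hS.inj _ _
            (by
              have := congrArg b₂ e₁
              rw [← Art.comp_apply, ← Art.comp_apply, hq₂] at this
              exact this) e₂)
        surj := fun x e hxe => by
          obtain ⟨y, hy₁, hy₂⟩ := hS.surj (b₂ x) e (by
            have h' : B'.res x = (dual Λ k).res e := hxe
            exact (Art.res_app b₂ x).trans h')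
          obtain ⟨z, hz₁, hz₂⟩ := h.surj (b₁ x) y (by
            change A.res (b₁ x) = (tz Λ k (n + 1)).res y
            rw [Art.res_app, ← Art.res_app c y, hy₁, Art.res_app])
          refine ⟨z, hB'.inj _ _ ((hom_congr hq₁ z).trans hz₁) ((hom_congr hq₂ z).trans ?_), ?_⟩
          · rw [Art.comp_apply, hz₂, hy₁]
          · rw [Art.comp_apply, hz₂, hy₂] }
    have ihB := ih b₁ b₂ hB'
    constructor
    · refine (cmp_injective_iff F h).2 fun z z' e₁ e₂ => ?_
      refine (cmp_injective_iff F hB).1 (hF _ _ hB).1 z z' ?_ (by rw [map_comp_apply, map_comp_apply, e₂])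
      refine (cmp_injective_iff F hB').1 ihB.1 _ _ ?_ ?_
      · rw [← map_comp_apply, ← map_comp_apply, hq₁, e₁]
      · rw [← map_comp_apply, ← map_comp_apply, hq₂, map_comp_apply, map_comp_apply, e₂]
    · refine (cmp_surjective_iff F h).2 fun x y e => ?_
      obtain ⟨w, hw₁, hw₂⟩ := (cmp_surjective_iff F hB').1 ihB.2 x (F.map c y)
        (by rw [e, ← map_comp_apply, Art.eq_toBase (c ≫ _)])
      obtain ⟨z, hz₁, hz₂⟩ := (cmp_surjective_iff F hB).1 (hF _ _ hB).2 w (F.map l y)
        (by rw [← Art.eq_toBase (b₂ ≫ toBase _), map_comp_apply, hw₂, ← map_comp_apply,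
          ← map_comp_apply, Art.eq_toBase (c ≫ _), Art.eq_toBase (l ≫ _)])
      refine ⟨z, by rw [← hq₁, map_comp_apply, hz₁, hw₁], ?_⟩
      refine (cmp_injective_iff F hS).1 (hF _ _ hS).1 _ _ ?_ ?_
      · rw [← map_comp_apply, ← hq₂, map_comp_apply, hz₁, hw₂]
      · rw [← map_comp_apply, hz₂]

/-- Elements of `F (k ⊕ kⁿ)` with prescribed coordinates. -/
theorem exists_coords {F : Art Λ k ⥤ Type v} (h0 : H0 F) (hF : Heps F) :
    ∀ (n : ℕ) (x : Fin n → F.obj (dual Λ k)), ∃ w : F.obj (tz Λ k n),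
      ∀ i, F.map (toD (LinearMap.proj i)) w = x i := by
  intro n
  induction n with
  | zero =>
    intro x
    obtain ⟨a⟩ := h0.1
    obtain ⟨w, -⟩ := (map_bijective F _ (toBase_tz_zero_bijective (Λ := Λ) (k := k))).2 a
    exact ⟨w, fun i => i.elim0⟩
  | succ n ih =>
    intro x
    obtain ⟨w, hw⟩ := ih fun i => x i.castSucc
    obtain ⟨z, hz₁, hz₂⟩ := (cmp_surjective_iff F (isFibreProd_tz_succ (Λ := Λ) (k := k) n)).1
      (hF _ _ (isFibreProd_tz_succ n)).2 w (x (Fin.last n)) (h0.2.elim _ _)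
    refine ⟨z, fun i => ?_⟩
    induction i using Fin.lastCases with
    | last => exact hz₂
    | cast i =>
      rw [← hw i, ← hz₁, ← map_comp_apply, tzMap_comp_toD]
      rfl

theorem coords_ext {F : Art Λ k ⥤ Type v} (h0 : H0 F) (hF : Heps F) :
    ∀ (n : ℕ) (w w' : F.obj (tz Λ k n)),
      (∀ i, F.map (toD (LinearMap.proj i)) w = F.map (toD (LinearMap.proj i)) w') → w = w' := by
  intro n
  induction n with
  | zero =>
    intro w w' _
    exact (map_bijective F _ (toBase_tz_zero_bijective (Λ := Λ) (k := k))).1 (h0.2.elim _ _)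
  | succ n ih =>
    intro w w' h
    refine (cmp_injective_iff F (isFibreProd_tz_succ (Λ := Λ) (k := k) n)).1
      (hF _ _ (isFibreProd_tz_succ n)).1 w w' (ih _ _ fun i => ?_) (h (Fin.last n))
    rw [← map_comp_apply, ← map_comp_apply, tzMap_comp_toD]
    exact h i.castSucc

/-! ## square-zero objects with a section are `k ⊕ kⁿ` -/

theorem exists_tz_iso {E : Art Λ k} (σ : base Λ k ⟶ E)
    (hE : IsLocalRing.maximalIdeal E ^ 2 = ⊥) :
    ∃ (n : ℕ) (e : tz Λ k n ⟶ E), Function.Bijective e ∧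
      ∀ c : k, e (TrivSqZeroExt.inl c) = σ c := by
  let alg : Algebra k E := (σ.toAlgHom : k →ₐ[Λ] E).toRingHom.toAlgebra
  have hΛ : ∀ c : k, E.res (algebraMap k E c) = c := fun c => Art.res_app σ c
  let resk : E →ₗ[k] k :=
    { toFun := E.res
      map_add' := map_add _
      map_smul' := fun c x => by
        change E.res (algebraMap k E c * x) = c • E.res x
        rw [map_mul, hΛ, smul_eq_mul] }
  have : IsScalarTower k E E := IsScalarTower.right
  have : Module.Finite k E := by
    let r : E →+* k := (E.res : E →+* k)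
    have : ∀ {M : Type u} [AddCommGroup M] [Module E M], IsFiniteLength E M →
        ∀ [Module k M] [IsScalarTower k E M], Module.Finite k M := by
      intro M _ _ h
      induction h with
      | of_subsingleton => intros; infer_instance
      | @of_simple_quotient M _ _ N _ _ ih =>
        intros
        obtain ⟨x, hx⟩ : ∃ x : M ⧸ N, ∀ y : M ⧸ N, ∃ c : k, c • x = y := by
          obtain ⟨I, hI, ⟨e⟩⟩ :=
            (isSimpleModule_iff_quot_maximal (R := E) (M := M ⧸ N)).1 inferInstance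
          obtain rfl := IsLocalRing.eq_maximalIdeal hI
          refine ⟨e.symm 1, fun y => ?_⟩
          obtain ⟨a, ha⟩ := Ideal.Quotient.mk_surjective (e y)
          refine ⟨E.res a, ?_⟩
          apply e.injective
          rw [← algebraMap_smul E (E.res a) (e.symm 1), map_smul, e.apply_symm_apply, ← ha,
            ← map_one (Ideal.Quotient.mk (IsLocalRing.maximalIdeal E))]
          change Ideal.Quotient.mk _ (algebraMap k E (E.res a) * 1) = Ideal.Quotient.mk _ a
          rw [mul_one, Ideal.Quotient.eq, Art.mem_maximalIdeal_iff, map_sub, hΛ, sub_self]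
        have h1 : Module.Finite k (N.restrictScalars k) := ih
        have h2 : Module.Finite k (M ⧸ N) :=
          Module.Finite.of_surjective (LinearMap.toSpanSingleton k _ x) hx
        have h3 : Module.Finite k (M ⧸ N.restrictScalars k) :=
          Module.Finite.equiv (Submodule.Quotient.restrictScalarsEquiv k N).symm
        exact Module.Finite.of_submodule_quotient (N.restrictScalars k)
    exact this (isFiniteLength_iff_isNoetherian_isArtinian.2 ⟨inferInstance, inferInstance⟩)
  obtain ⟨n, ⟨b⟩⟩ : ∃ n, Nonempty (Module.Basis (Fin n) k (LinearMap.ker resk)) :=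
    ⟨_, ⟨Module.finBasis k _⟩⟩
  let L : (Fin n → k) →ₗ[k] E :=
    (LinearMap.ker resk).subtype.comp b.equivFun.symm.toLinearMap
  have hLm : ∀ v, L v ∈ IsLocalRing.maximalIdeal E := fun v =>
    (Art.mem_maximalIdeal_iff _ _).2 (b.equivFun.symm v).2
  have hLmul : ∀ v v', L v * L v' = 0 := fun v v' => by
    have := Ideal.mul_mem_mul (hLm v) (hLm v')
    rw [← sq, hE] at this
    exact this
  let e : tz Λ k n ⟶ E := Art.homMk
    { toFun := fun x => algebraMap k E x.fst + L x.snd
      map_one' := by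
        change algebraMap k E 1 + L 0 = 1
        rw [map_one, map_zero, add_zero]
      map_mul' := fun x y => by
        change algebraMap k E (x.fst * y.fst) + L (x.fst • y.snd + MulOpposite.op y.fst • x.snd) = _
        rw [op_smul_eq_smul, map_add, map_smul, map_smul, Algebra.smul_def, Algebra.smul_def, map_mul]
        linear_combination (norm := ring1) -(hLmul x.snd y.snd)
      map_zero' := by
        change algebraMap k E 0 + L 0 = 0
        rw [map_zero, map_zero, add_zero]
      map_add' := fun x y => by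
        change algebraMap k E (x.fst + y.fst) + L (x.snd + y.snd) = _
        rw [map_add, map_add]
        abel
      commutes' := fun r => by
        change σ (algebraMap Λ k r) + L ((algebraMap Λ (TrivSqZeroExt k (Fin n → k)) r).snd) = _
        rw [TrivSqZeroExt.algebraMap_eq_inl', TrivSqZeroExt.snd_inl, map_zero, add_zero]
        exact σ.toAlgHom.commutes r }
    (AlgHom.ext fun x => by
      change E.res (algebraMap k E x.fst + L x.snd) = x.fst
      rw [map_add, hΛ, (Art.mem_maximalIdeal_iff _ _).1 (hLm x.snd), add_zero])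
  refine ⟨n, e, ⟨(injective_iff_map_eq_zero e.toAlgHom).2 fun x hx => ?_, fun y => ?_⟩,
    fun c => ?_⟩
  · change algebraMap k E x.fst + L x.snd = 0 at hx
    have h1 : x.fst = 0 := by
      have := congrArg E.res hx
      rwa [map_add, hΛ, (Art.mem_maximalIdeal_iff _ _).1 (hLm x.snd), add_zero, map_zero] at this
    rw [h1, map_zero, zero_add] at hx
    exact TrivSqZeroExt.ext h1 (b.equivFun.symm.injective
      (Subtype.ext (hx.trans (show (0 : E) = L 0 from (map_zero L).symm))))
  · refine ⟨TrivSqZeroExt.inl (E.res y) + TrivSqZeroExt.inr (b.equivFun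
      ⟨y - algebraMap k E (E.res y), ?_⟩), ?_⟩
    · change E.res (y - algebraMap k E (E.res y)) = 0
      rw [map_sub, hΛ, sub_self]
    · change algebraMap k E (E.res y + 0) + L (0 + b.equivFun _) = y
      rw [add_zero, zero_add]
      change algebraMap k E (E.res y) + ((b.equivFun.symm (b.equivFun _) : LinearMap.ker resk) : E) = y
      rw [LinearEquiv.symm_apply_apply]
      exact add_sub_cancel _ _
  · change algebraMap k E c + L 0 = σ c
    rw [map_zero, add_zero]
    rfl

/-! ## tangent structures -/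

section Str

variable {F : Art Λ k ⥤ Type v}

theorem toBase_baseToDual_scale (A : Art Λ k) (c : k) :
    toBase A ≫ baseToDual ≫ scale c = toBase A ≫ baseToDual :=
  hom_ext' fun _ => TrivSqZeroExt.ext rfl (smul_zero c)

/-- The linear map `(kⁿ)* → t_F` given by an element of `F (k ⊕ kⁿ)`. -/
def evalTz [TangentStr F] {n : ℕ} (w : F.obj (tz Λ k n)) :
    ((Fin n → k) →ₗ[k] k) →ₗ[k] TangentSpace F where
  toFun f := TangentSpace.mk (F.map (toD f) w)
  map_add' f g := by
    have h := TangentStr.add_eq (F := F) (F.map (toD2 f g) w)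
    rw [← map_comp_apply, ← map_comp_apply, ← map_comp_apply, toD2_pr₁, toD2_pr₂, toD2_plus] at h
    exact h.symm
  map_smul' c f := by
    have h := TangentStr.smul_eq (F := F) c (F.map (toD f) w)
    rw [← map_comp_apply, toD_scale] at h
    exact h.symm

theorem evalTz_sum [TangentStr F] {n : ℕ} (w : F.obj (tz Λ k n)) (c : Fin n → k) :
    evalTz w (∑ i, c i • LinearMap.proj i) =
      ∑ i, c i • TangentSpace.mk (F.map (toD (LinearMap.proj i)) w) := by
  rw [map_sum]
  exact Finset.sum_congr rfl fun i _ => map_smul _ _ _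

variable (h0 : H0 F) (hF : Heps F)

include h0 hF in
theorem exists_pair (x y : F.obj (dual Λ k)) :
    ∃! z : F.obj (dual2 Λ k), F.map pr₁ z = x ∧ F.map pr₂ z = y := by
  obtain ⟨z, h⟩ := (cmp_surjective_iff F isFibreProd_dual2).1 (hF _ _ isFibreProd_dual2).2 x y
    (h0.2.elim _ _)
  exact ⟨z, h, fun z' h' => (cmp_injective_iff F isFibreProd_dual2).1 (hF _ _ isFibreProd_dual2).1
    z' z (h'.1.trans h.1.symm) (h'.2.trans h.2.symm)⟩

/-- Addition on `F (k[ε])`. -/
noncomputable def tadd (x y : F.obj (dual Λ k)) : F.obj (dual Λ k) :=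
  F.map plus (exists_pair h0 hF x y).choose

theorem tadd_toD {n : ℕ} (w : F.obj (tz Λ k n)) (f g : (Fin n → k) →ₗ[k] k) :
    tadd h0 hF (F.map (toD f) w) (F.map (toD g) w) = F.map (toD (f + g)) w := by
  obtain ⟨-, huniq⟩ := (exists_pair h0 hF (F.map (toD f) w) (F.map (toD g) w)).choose_spec
  rw [← toD2_plus, map_comp_apply, huniq (F.map (toD2 f g) w)
    ⟨by rw [← map_comp_apply, toD2_pr₁], by rw [← map_comp_apply, toD2_pr₂]⟩]
  rfl

include h0 in
theorem toD_zero_eq {n m : ℕ} (w : F.obj (tz Λ k n)) (w' : F.obj (tz Λ k m)) :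
    F.map (toD 0) w = F.map (toD 0) w' := by
  rw [toD_zero, toD_zero, map_comp_apply, map_comp_apply, h0.2.elim (F.map (toBase _) w)]

include h0 hF in
theorem nonempty_tangentStr : Nonempty (TangentStr F) := by
  obtain ⟨w₀, -⟩ := exists_coords h0 hF 0 fun i => i.elim0
  obtain ⟨O, hO⟩ : ∃ O, O = F.map (toD (0 : (Fin 0 → k) →ₗ[k] k)) w₀ := ⟨_, rfl⟩
  have hz : ∀ {n : ℕ} (w : F.obj (tz Λ k n)), F.map (toD 0) w = O := fun w =>
    (toD_zero_eq h0 w w₀).trans hO.symm
  have lift3 : ∀ x y z : F.obj (dual Λ k), ∃ (w : F.obj (tz Λ k 3))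
      (a b c : (Fin 3 → k) →ₗ[k] k),
      F.map (toD a) w = x ∧ F.map (toD b) w = y ∧ F.map (toD c) w = z := fun x y z => by
    obtain ⟨w, hw⟩ := exists_coords h0 hF 3 ![x, y, z]
    exact ⟨w, LinearMap.proj 0, LinearMap.proj 1, LinearMap.proj 2, hw 0, hw 1, hw 2⟩
  let add : Add (F.obj (dual Λ k)) := ⟨tadd h0 hF⟩
  let zero : Zero (F.obj (dual Λ k)) := ⟨O⟩
  let sm : SMul k (F.obj (dual Λ k)) := ⟨fun c x => F.map (scale c) x⟩
  let neg : Neg (F.obj (dual Λ k)) := ⟨fun x => F.map (scale (-1)) x⟩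
  have hadd : ∀ {n : ℕ} (w : F.obj (tz Λ k n)) (f g : (Fin n → k) →ₗ[k] k),
      F.map (toD f) w + F.map (toD g) w = F.map (toD (f + g)) w := fun w f g => tadd_toD h0 hF w f g
  have hsm : ∀ {n : ℕ} (w : F.obj (tz Λ k n)) (c : k) (f : (Fin n → k) →ₗ[k] k),
      c • F.map (toD f) w = F.map (toD (c • f)) w := fun w c f =>
    (map_comp_apply F _ _ w).symm.trans (by rw [toD_scale])
  let grp : AddCommGroup (F.obj (dual Λ k)) :=
    { add := (· + ·)
      zero := 0
      neg := Neg.neg
      nsmul := nsmulRec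
      zsmul := zsmulRec
      add_assoc := fun x y z => by
        obtain ⟨w, a, b, c, rfl, rfl, rfl⟩ := lift3 x y z
        rw [hadd, hadd, hadd, hadd, add_assoc]
      zero_add := fun x => by
        obtain ⟨w, a, b, c, rfl, -, -⟩ := lift3 x x x
        change O + F.map (toD a) w = _
        rw [← hz w, hadd, zero_add]
      add_zero := fun x => by
        obtain ⟨w, a, b, c, rfl, -, -⟩ := lift3 x x x
        change F.map (toD a) w + O = _
        rw [← hz w, hadd, add_zero]
      neg_add_cancel := fun x => by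
        obtain ⟨w, a, b, c, rfl, -, -⟩ := lift3 x x x
        change (-1 : k) • F.map (toD a) w + F.map (toD a) w = O
        rw [hsm, hadd, ← hz w, show (-1 : k) • a + a = 0 from LinearMap.ext fun v => (show (-1 : k) * a v + a v = 0 by ring)]
      add_comm := fun x y => by
        obtain ⟨w, a, b, c, rfl, rfl, -⟩ := lift3 x y y
        rw [hadd, hadd, add_comm] }
  let mod : @Module k (F.obj (dual Λ k)) _ grp.toAddCommMonoid :=
    { smul := (· • ·)
      one_smul := fun x => by
        obtain ⟨w, a, b, c, rfl, -, -⟩ := lift3 x x x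
        rw [hsm, one_smul]
      mul_smul := fun r s x => by
        obtain ⟨w, a, b, c, rfl, -, -⟩ := lift3 x x x
        rw [hsm, hsm, hsm, mul_smul]
      smul_zero := fun r => by
        change r • O = O
        rw [hO, hsm, smul_zero]
      smul_add := fun r x y => by
        obtain ⟨w, a, b, c, rfl, rfl, -⟩ := lift3 x y y
        rw [hadd, hsm, hsm, hsm, hadd, smul_add]
      add_smul := fun r s x => by
        obtain ⟨w, a, b, c, rfl, -, -⟩ := lift3 x x x
        rw [hsm, hsm, hsm, hadd, add_smul]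
      zero_smul := fun x => by
        obtain ⟨w, a, b, c, rfl, -, -⟩ := lift3 x x x
        change (0 : k) • F.map (toD a) w = O
        rw [hsm, zero_smul, hz] }
  refine ⟨{ addCommGroup := grp, module := mod, smul_eq := fun _ _ => rfl, add_eq := fun z => ?_ }⟩
  obtain ⟨-, huniq⟩ := (exists_pair h0 hF (F.map pr₁ z) (F.map pr₂ z)).choose_spec
  exact congrArg (F.map plus) (huniq z ⟨rfl, rfl⟩).symm

include h0 hF in
theorem natMap_linear {G : Art Λ k ⥤ Type w} [TangentStr F] [TangentStr G] (η : NatMap F G) :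
    ∃ f : TangentSpace F →ₗ[k] TangentSpace G,
      ∀ x : F.obj (dual Λ k), f (TangentSpace.mk x) = TangentSpace.mk (η.app _ x) := by
  refine ⟨
    { toFun := fun x => TangentSpace.mk (η.app _ x)
      map_add' := fun x y => ?_
      map_smul' := fun c x => ?_ }, fun _ => rfl⟩
  · obtain ⟨z, ⟨h₁, h₂⟩, -⟩ := exists_pair h0 hF x y
    have hx := TangentStr.add_eq (F := F) z
    have hy := TangentStr.add_eq (F := G) (η.app _ z)
    rw [← η.nat, ← η.nat, ← η.nat, h₁, h₂, ← hx, h₁, h₂] at hy
    exact hy.symm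
  · have hx := TangentStr.smul_eq (F := F) c x
    have hy := TangentStr.smul_eq (F := G) c (η.app _ x)
    exact ((congrArg (η.app _) hx).trans (η.nat _ _)).trans hy.symm

end Str

end ArtLib
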