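import Groth.Agent.ArtLib.Tangent

/-!
# The tangent action on lifts along a small extension
-/

set_option autoImplicit false

universe u v w

open CategoryTheory

namespace ArtLib

open ArtFun ArtFun.Art

variable {Λ : Type u} {k : Type u} [CommRing Λ] [Field k] [Algebra Λ k]

/-- The zero tangent vector of an object: `A → k → k[ε]`. -/
def zeroD (A : Art Λ k) : A ⟶ dual Λ k := toBase A ≫ baseToDual

theorem comp_zeroD {A B : Art Λ k} (f : A ⟶ B) : f ≫ zeroD B = zeroD A := by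
  rw [zeroD, ← Category.assoc, Art.eq_toBase (f ≫ toBase B)]; rfl

theorem snd_zeroD {A : Art Λ k} (a : A) : TrivSqZeroExt.snd (zeroD A a) = 0 := rfl

theorem fst_zeroD {A : Art Λ k} (a : A) : TrivSqZeroExt.fst (zeroD A a) = A.res a := rfl

/-- Equal `res` of a coefficient, when it annihilates a nonzero kernel element. -/
theorem res_eq_of_mul_eq {A : Art Λ k} {t : A} (ht0 : t ≠ 0) {c c' : A} (h : c * t = c' * t) :
    A.res c = A.res c' := by
  by_contra hne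
  have hu : IsUnit (c - c') :=
    (isUnit_iff_res_ne_zero A _).2 (by rw [map_sub, sub_ne_zero]; exact hne)
  exact ht0 ((hu.mul_right_eq_zero).1 (by rw [sub_mul, h, sub_self]))

/-- The action map of a small extension. -/
theorem exists_act {A B P : Art Λ k} {p : B ⟶ A} {t : B}
    (ht : RingHom.ker p.toAlgHom = Ideal.span {t}) (ht0 : t ≠ 0)
    (hm : IsLocalRing.maximalIdeal B * RingHom.ker p.toAlgHom = ⊥)
    {q₁ : P ⟶ B} {q₂ : P ⟶ dual Λ k}
    (hP : IsFibreProd q₁ q₂ (toBase B) (toBase (dual Λ k))) :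
    ∃ a : P ⟶ B, (∀ (z : P) (c : B), B.res c = TrivSqZeroExt.snd (q₂ z) → a z = q₁ z + c * t) ∧
      IsFibreProd q₁ a p p := by
  have htk : p t = 0 := (ht ▸ Ideal.mem_span_singleton_self t : t ∈ RingHom.ker p.toAlgHom)
  have htres : B.res t = 0 := (Art.mem_maximalIdeal_iff _ _).1 (ker_le_maximalIdeal p htk)
  choose σ hσ using B.res_surjective
  have key : ∀ (c : B) (r : k), B.res c = r → σ r * t = c * t :=
    fun c r h => smallExt_mul_eq hm htk ((hσ r).trans h.symm)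
  have hsq : t * t = 0 := by
    have := smallExt_mul_eq hm htk (c := t) (c' := 0) (by rw [htres, map_zero])
    rwa [zero_mul] at this
  have hfst : ∀ z, B.res (q₁ z) = TrivSqZeroExt.fst (q₂ z) :=
    fun z => (Art.res_app q₁ z).trans (Art.res_app q₂ z).symm
  obtain ⟨g, hg⟩ : ∃ g : P → k, ∀ z, g z = TrivSqZeroExt.snd (q₂ z) := ⟨_, fun _ => rfl⟩
  have g1 : g 1 = 0 := by rw [hg, map_one]; rfl
  have g0 : g 0 = 0 := by rw [hg, map_zero]; rfl
  have gadd : ∀ x y, g (x + y) = g x + g y := fun x y => by rw [hg, hg, hg, map_add]; rfl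
  have gmul : ∀ x y, g (x * y) = B.res (q₁ x) * g y + B.res (q₁ y) * g x := fun x y => by
    rw [hg, hg, hg, map_mul, hfst, hfst]
    change (q₂ x).fst • (q₂ y).snd + MulOpposite.op (q₂ y).fst • (q₂ x).snd = _
    rw [op_smul_eq_smul]
    rfl
  have galg : ∀ r, g (algebraMap Λ P r) = 0 := fun r => by
    rw [hg, AlgHom.commutes]
    change (algebraMap Λ (TrivSqZeroExt k k) r).snd = 0
    rw [TrivSqZeroExt.algebraMap_eq_inl', TrivSqZeroExt.snd_inl]
  let a : P ⟶ B := Art.homMk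
    { toFun := fun z => q₁ z + σ (g z) * t
      map_one' := by rw [g1, key 0 0 (map_zero _), map_one, zero_mul, add_zero]
      map_mul' := fun x y => by
        rw [gmul, key (q₁ x * σ (g y) + q₁ y * σ (g x)) _
          (by rw [map_add, map_mul, map_mul, hσ, hσ]), map_mul]
        linear_combination -(σ (g x) * σ (g y)) * hsq
      map_zero' := by rw [g0, key 0 0 (map_zero _), map_zero, zero_mul, add_zero]
      map_add' := fun x y => by
        rw [gadd, key (σ (g x) + σ (g y)) _ (by rw [map_add, hσ, hσ]), map_add]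
        ring
      commutes' := fun r => by
        rw [galg, key 0 0 (map_zero _), AlgHom.commutes, zero_mul, add_zero] }
    (AlgHom.ext fun z => by
      change B.res (q₁ z + σ (g z) * t) = P.res z
      rw [map_add, map_mul, htres, mul_zero, add_zero, Art.res_app])
  have ha : ∀ (z : P) (c : B), B.res c = TrivSqZeroExt.snd (q₂ z) → a z = q₁ z + c * t :=
    fun z c hc => by
      change q₁ z + σ (g z) * t = _
      rw [key c _ (hc.trans (hg z).symm)]
  refine ⟨a, ha, hom_ext' fun z => ?_, fun z z' h₁ h₂ => ?_, fun b b' hbb => ?_⟩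
  · change p (q₁ z) = p (q₁ z + σ (g z) * t)
    rw [map_add, map_mul, htk, mul_zero, add_zero]
  · refine hP.inj z z' h₁ (TrivSqZeroExt.ext ?_ ?_)
    · rw [← hfst, ← hfst, h₁]
    · change q₁ z + σ (g z) * t = q₁ z' + σ (g z') * t at h₂
      rw [h₁, add_left_cancel_iff] at h₂
      have := res_eq_of_mul_eq ht0 h₂
      rw [hσ, hσ, hg, hg] at this
      exact this
  · have : b' - b ∈ RingHom.ker p.toAlgHom := by
      change p (b' - b) = 0
      rw [map_sub, hbb, sub_self]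
    obtain ⟨c, hc⟩ := Ideal.mem_span_singleton.1 (ht ▸ this)
    obtain ⟨z, hz₁, hz₂⟩ := hP.surj b (TrivSqZeroExt.inl (B.res b) + TrivSqZeroExt.inr (B.res c)) (by
      change B.res b = B.res b + 0
      rw [add_zero])
    refine ⟨z, hz₁, ?_⟩
    rw [ha z c (by rw [hz₂]; change B.res c = 0 + B.res c; rw [zero_add]), hz₁, mul_comm, ← hc,
      add_sub_cancel]

/-- A small extension comes with its action square. -/
theorem exists_act_square [IsNoetherianRing Λ] [Module.Finite Λ k] {A B : Art Λ k} {p : B ⟶ A}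
    (hp : IsSmallExt p) :
    ∃ (t : B) (P : Art Λ k) (q₁ : P ⟶ B) (q₂ : P ⟶ dual Λ k) (a : P ⟶ B),
      RingHom.ker p.toAlgHom = Ideal.span {t} ∧
      IsFibreProd q₁ q₂ (toBase B) (toBase (dual Λ k)) ∧ IsFibreProd q₁ a p p ∧
      (∀ (z : P) (c : B), B.res c = TrivSqZeroExt.snd (q₂ z) → a z = q₁ z + c * t) ∧
      ∃ s : B ⟶ P, s ≫ q₁ = 𝟙 B ∧ s ≫ q₂ = zeroD B ∧ s ≫ a = 𝟙 B := by
  obtain ⟨-, hne, ⟨⟨t, ht⟩⟩, hm⟩ := hp
  have ht0 : t ≠ 0 := fun h => hne (ht.trans (Ideal.span_singleton_eq_bot.2 h))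
  obtain ⟨P, q₁, q₂, hP⟩ := exists_fp (toBase B) (toBase (dual Λ k)) (toBase_surjective _)
  obtain ⟨a, ha, hsq⟩ := exists_act ht ht0 hm hP
  have e : 𝟙 B ≫ toBase B = zeroD B ≫ toBase _ := by
    rw [Art.eq_toBase (zeroD B ≫ _), Category.id_comp]
  refine ⟨t, P, q₁, q₂, a, ht, hP, hsq, ha, fpLift hP (𝟙 B) (zeroD B) e, fpLift_fst ..,
    fpLift_snd .., hom_ext' fun b => ?_⟩
  have h₁ := hom_congr (fpLift_fst hP (𝟙 B) (zeroD B) e) b
  have h₂ := hom_congr (fpLift_snd hP (𝟙 B) (zeroD B) e) b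
  rw [Art.comp_apply] at h₁ h₂ ⊢
  rw [ha _ 0 (by rw [h₂, map_zero]; rfl), zero_mul, add_zero, h₁]

theorem isSmallExt_fst {B A A₁ A₂ : Art Λ k} {p₁ : B ⟶ A₁} {p₂ : B ⟶ A₂} {f₁ : A₁ ⟶ A}
    {f₂ : A₂ ⟶ A} (h : IsFibreProd p₁ p₂ f₁ f₂) (hf₂ : IsSmallExt f₂) {t : A₂}
    (ht : RingHom.ker f₂.toAlgHom = Ideal.span {t}) :
    ∃ b : B, p₁ b = 0 ∧ p₂ b = t ∧ RingHom.ker p₁.toAlgHom = Ideal.span {b} ∧ IsSmallExt p₁ := by
  obtain ⟨hsurj, hne, -, hm⟩ := hf₂
  have ht0 : f₂ t = 0 := (ht ▸ Ideal.mem_span_singleton_self t : t ∈ RingHom.ker f₂.toAlgHom)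
  obtain ⟨b, hb₁, hb₂⟩ := h.surj 0 t (by rw [map_zero, ht0])
  have hker : RingHom.ker p₁.toAlgHom = Ideal.span {b} := by
    refine le_antisymm (fun x hx => ?_) ((Ideal.span_singleton_le_iff_mem _).2 hb₁)
    have hx0 : p₁ x = 0 := hx
    have : p₂ x ∈ RingHom.ker f₂.toAlgHom := by
      change f₂ (p₂ x) = 0
      rw [← h.w_apply, hx0, map_zero]
    obtain ⟨c, hc⟩ := Ideal.mem_span_singleton.1 (ht ▸ this)
    obtain ⟨e, he⟩ := B.res_surjective (A₂.res c)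
    refine Ideal.mem_span_singleton.2 ⟨e, h.inj _ _ ?_ ?_⟩
    · rw [hx0, map_mul, hb₁, zero_mul]
    · rw [map_mul, hb₂, hc, mul_comm t c, mul_comm t]
      exact smallExt_mul_eq hm ht0 (by rw [Art.res_app, he])
  refine ⟨b, hb₁, hb₂, hker, fp_fst_surjective h hsurj, ?_, ⟨⟨b, hker⟩⟩, ?_⟩
  · rw [hker]
    intro hb0
    have hb : b = 0 := Ideal.span_singleton_eq_bot.1 hb0
    exact hne (ht.trans (Ideal.span_singleton_eq_bot.2 (by rw [← hb₂, hb, map_zero])))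
  · rw [hker, eq_bot_iff, Ideal.mul_le]
    intro x hx y hy
    obtain ⟨c, rfl⟩ := Ideal.mem_span_singleton.1 hy
    rw [Ideal.mem_bot]
    refine h.inj _ _ (by rw [map_mul, map_mul, hb₁, zero_mul, mul_zero, map_zero]) ?_
    rw [map_mul, map_mul, hb₂, map_zero, ← mul_assoc,
      smallExt_mul_eq hm ht0 (c' := 0) (by
        rw [Art.res_app, map_zero]; exact (Art.mem_maximalIdeal_iff _ _).1 hx), zero_mul, zero_mul]

section NatMap

variable [IsNoetherianRing Λ] [Module.Finite Λ k] {F : Art Λ k ⥤ Type v} {G : Art Λ k ⥤ Type w}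

/-- Two lifts with the same image coincide, if the tangent map is injective. -/
theorem inj_step (η : NatMap F G) (hF1 : Hbar F) (hF2 : Heps F) (hG : HSq G)
    (hd : Function.Injective (η.app (dual Λ k))) {A B : Art Λ k} {p : B ⟶ A} (hp : IsSmallExt p)
    {x x' : F.obj B} (hA : F.map p x = F.map p x') (hη : η.app B x = η.app B x') : x = x' := by
  obtain ⟨t, P, q₁, q₂, a, -, hP, hsq, -, s, hs₁, hs₂, hsa⟩ := exists_act_square hp
  obtain ⟨z, hz₁, hz₂⟩ := (cmp_surjective_iff F hsq).1 (hF1 _ _ _ _ hsq hp) x x' hA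
  have hz : η.app P z = G.map s (η.app B x) := by
    refine (cmp_injective_iff G hsq).1 (hG _ _ _ hsq hp).1 _ _ ?_ ?_
    · rw [← η.nat, hz₁, ← map_comp_apply, hs₁, map_id_apply]
    · rw [← η.nat, hz₂, ← map_comp_apply, hsa, map_id_apply, hη]
  have hz' : z = F.map s x := by
    refine (cmp_injective_iff F hP).1 (hF2 _ _ hP).1 _ _ ?_ (hd ?_)
    · rw [hz₁, ← map_comp_apply, hs₁, map_id_apply]
    · rw [η.nat, hz, η.nat, η.nat]
  rw [← hz₂, hz', ← map_comp_apply, hsa, map_id_apply]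

theorem injective_app (η : NatMap F G) (hF0 : Subsingleton (F.obj (base Λ k))) (hF1 : Hbar F)
    (hF2 : Heps F) (hG : HSq G) (hd : Function.Injective (η.app (dual Λ k))) (A : Art Λ k) :
    Function.Injective (η.app A) := by
  refine surjective_induction
    (P := fun A B f => Function.Injective (η.app A) → Function.Injective (η.app B)) ?_ ?_ ?_
    (toBase A) (toBase_surjective A) (fun x y _ => hF0.elim x y)
  · intro A B e he hA x y h
    exact (map_bijective_of_isIso F e).1 (hA (by rw [η.nat, η.nat, h]))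
  · intro A B p hp hA x y h
    exact inj_step η hF1 hF2 hG hd hp (hA (by rw [η.nat, η.nat, h])) h
  · exact fun A B C p q hp hq hA => hp (hq hA)

/-- Smoothness of a natural map. -/
def IsSmoothMap (η : NatMap F G) : Prop :=
  ∀ ⦃B A : Art Λ k⦄ (μ : B ⟶ A), Function.Surjective μ → ∀ (x : F.obj A) (y : G.obj B),
    η.app A x = G.map μ y → ∃ z, F.map μ z = x ∧ η.app B z = y

omit [IsNoetherianRing Λ] [Module.Finite Λ k] in
theorem isSmoothMap_of_smallExt (η : NatMap F G)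
    (h : ∀ ⦃B A : Art Λ k⦄ (μ : B ⟶ A), IsSmallExt μ → ∀ (x : F.obj A) (y : G.obj B),
      η.app A x = G.map μ y → ∃ z, F.map μ z = x ∧ η.app B z = y) : IsSmoothMap η := by
  intro B A μ hμ
  refine surjective_induction (P := fun A B μ => ∀ (x : F.obj A) (y : G.obj B),
      η.app A x = G.map μ y → ∃ z, F.map μ z = x ∧ η.app B z = y) ?_ ?_ ?_ μ hμ
  · intro A B e he x y hxy
    obtain ⟨z, hz⟩ := (map_bijective_of_isIso F e).2 x
    exact ⟨z, hz, (map_bijective_of_isIso G e).1 (by rw [← hxy, ← η.nat, hz])⟩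
  · exact fun A B p hp => h p hp
  · intro A B C p q hp hq x y hxy
    rw [map_comp_apply] at hxy
    obtain ⟨z₁, h₁, h₂⟩ := hq x (G.map p y) hxy
    obtain ⟨z, h₃, h₄⟩ := hp z₁ y h₂
    exact ⟨z, by rw [map_comp_apply, h₃, h₁], h₄⟩

omit [IsNoetherianRing Λ] [Module.Finite Λ k] in
theorem surjective_of_isSmoothMap (η : NatMap F G) (hη : IsSmoothMap η)
    (h0 : Function.Surjective (η.app (base Λ k))) (A : Art Λ k) :
    Function.Surjective (η.app A) := fun y => by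
  obtain ⟨x, hx⟩ := h0 (G.map (toBase A) y)
  obtain ⟨z, -, hz⟩ := hη (toBase A) (toBase_surjective A) x y hx
  exact ⟨z, hz⟩

/-- Lifting along small extensions, plus surjectivity on tangent spaces, gives smoothness. -/
theorem smooth_criterion (η : NatMap F G) (hF0 : Subsingleton (F.obj (base Λ k))) (hF2 : Heps F)
    (hG1 : Hbar G) (hG2 : Heps G) (hd : Function.Surjective (η.app (dual Λ k)))
    (hlift : ∀ ⦃B A : Art Λ k⦄ (μ : B ⟶ A), IsSmallExt μ → ∀ (x : F.obj A) (y : G.obj B),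
      η.app A x = G.map μ y → ∃ z, F.map μ z = x) : IsSmoothMap η := by
  refine isSmoothMap_of_smallExt η fun B A μ hμ x y hxy => ?_
  obtain ⟨x₀, hx₀⟩ := hlift μ hμ x y hxy
  obtain ⟨t, P, q₁, q₂, a, -, hP, hsq, -⟩ := exists_act_square hμ
  obtain ⟨z, hz₁, hz₂⟩ := (cmp_surjective_iff G hsq).1 (hG1 _ _ _ _ hsq hμ) (η.app B x₀) y
    (by rw [← η.nat, hx₀, hxy])
  obtain ⟨e, he⟩ := hd (G.map q₂ z)
  obtain ⟨w, hw₁, hw₂⟩ := (cmp_surjective_iff F hP).1 (hF2 _ _ hP).2 x₀ e (hF0.elim _ _)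
  have hw : η.app P w = z := (cmp_injective_iff G hP).1 (hG2 _ _ hP).1 _ _
    (by rw [← η.nat, hw₁, hz₁]) (by rw [← η.nat, hw₂, he])
  refine ⟨F.map a w, ?_, by rw [η.nat, hw, hz₂]⟩
  rw [← map_comp_apply, ← hsq.w, map_comp_apply, hw₁, hx₀]

end NatMap

section Rs

variable [IsNoetherianRing Λ] [Module.Finite Λ k] {F : Art Λ k ⥤ Type v}

/-- `H̄`, `H_ε` and `H` give bijectivity along all small extensions. -/
theorem bijective_small_of_hsq (h1 : Hbar F) (h2 : Heps F) (h4 : HSq F)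
    ⦃B A A₁ A₂ : Art Λ k⦄ (p₁ : B ⟶ A₁) (p₂ : B ⟶ A₂) (f₁ : A₁ ⟶ A) (f₂ : A₂ ⟶ A)
    (h : IsFibreProd p₁ p₂ f₁ f₂) (hf₂ : IsSmallExt f₂) : Function.Bijective (cmp F h) := by
  refine ⟨(cmp_injective_iff F h).2 fun z z' e₁ e₂ => ?_, h1 _ _ _ _ h hf₂⟩
  obtain ⟨t, P', r₁, r₂, a', ht, hP', hsq', ha', s', hs₁', hs₂', hsa'⟩ := exists_act_square hf₂
  obtain ⟨b, -, hb₂, hker, hp₁⟩ := isSmallExt_fst h hf₂ ht
  obtain ⟨P, q₁, q₂, hP⟩ := exists_fp (toBase B) (toBase (dual Λ k)) (toBase_surjective _)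
  obtain ⟨a, ha, hsq⟩ := exists_act hker
    (fun h0 => hp₁.2.1 (hker.trans (Ideal.span_singleton_eq_bot.2 h0))) hp₁.2.2.2 hP
  obtain ⟨w, hw₁, hw₂⟩ := (cmp_surjective_iff F hsq).1 (h1 _ _ _ _ hsq hp₁) z z' e₁
  obtain ⟨g, hg₁, hg₂⟩ : ∃ g : P ⟶ P', g ≫ r₁ = q₁ ≫ p₂ ∧ g ≫ r₂ = q₂ :=
    ⟨fpLift hP' (q₁ ≫ p₂) q₂ (by rw [Art.eq_toBase (q₂ ≫ _), Art.eq_toBase ((q₁ ≫ p₂) ≫ _)]),
      fpLift_fst .., fpLift_snd ..⟩
  have hga : g ≫ a' = a ≫ p₂ := hom_ext' fun x => by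
    obtain ⟨c, hc⟩ := B.res_surjective (TrivSqZeroExt.snd (q₂ x))
    rw [Art.comp_apply, Art.comp_apply, ha x c hc, map_add, map_mul, hb₂,
      ha' (g x) (p₂ c) (by rw [Art.res_app, hc]; exact congrArg TrivSqZeroExt.snd (hom_congr hg₂ x).symm)]
    congr 1
    exact hom_congr hg₁ x
  have hgw : F.map g w = F.map s' (F.map p₂ z) := by
    refine (cmp_injective_iff F hsq').1 (h4 _ _ _ hsq' hf₂).1 _ _ ?_ ?_
    · rw [← map_comp_apply, hg₁, map_comp_apply, hw₁, ← map_comp_apply F s', hs₁', map_id_apply]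
    · rw [← map_comp_apply, hga, map_comp_apply, hw₂, ← map_comp_apply F s', hsa', map_id_apply, e₂]
  have hq₂ : F.map q₂ w = F.map (zeroD B) z := by
    rw [← hg₂, map_comp_apply, hgw, ← map_comp_apply, ← map_comp_apply, hs₂', comp_zeroD]
  have es : 𝟙 B ≫ toBase B = zeroD B ≫ toBase _ := by
    rw [Art.eq_toBase (zeroD B ≫ _), Category.id_comp]
  have hw : w = F.map (fpLift hP (𝟙 B) (zeroD B) es) z := by
    refine (cmp_injective_iff F hP).1 (h2 _ _ hP).1 _ _ ?_ ?_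
    · rw [hw₁, ← map_comp_apply, fpLift_fst, map_id_apply]
    · rw [hq₂, ← map_comp_apply, fpLift_snd]
  rw [← hw₂, hw, ← map_comp_apply]
  have : fpLift hP (𝟙 B) (zeroD B) es ≫ a = 𝟙 B := hom_ext' fun x => by
    have h₁ := hom_congr (fpLift_fst hP (𝟙 B) (zeroD B) es) x
    have h₂ := hom_congr (fpLift_snd hP (𝟙 B) (zeroD B) es) x
    rw [Art.comp_apply] at h₁ h₂ ⊢
    rw [ha _ 0 (by rw [h₂, map_zero]; rfl), zero_mul, add_zero, h₁]
  rw [this, map_id_apply]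

end Rs

/-! ## the functor `h_R` -/

section HR

variable {R : Type u} [CommRing R] [Algebra Λ R] {resR : R →ₐ[Λ] k}

theorem homSet_ext {A : Art Λ k} {φ ψ : HomSet R resR A} (h : ∀ r, φ.1 r = ψ.1 r) : φ = ψ :=
  Subtype.ext (AlgHom.ext h)

theorem homSet_res {A : Art Λ k} (φ : HomSet R resR A) (r : R) : A.res (φ.1 r) = resR r :=
  AlgHom.congr_fun φ.2 r

theorem homSet_subsingleton_base : Subsingleton (HomSet R resR (base Λ k)) :=
  ⟨fun φ ψ => homSet_ext fun r => (homSet_res φ r).trans (homSet_res ψ r).symm⟩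

theorem h0_hR : H0 (hR R resR) :=
  ⟨⟨(⟨resR, AlgHom.id_comp _⟩ : HomSet R resR (base Λ k))⟩, homSet_subsingleton_base⟩

/-- A map into a fibre product from `R`. -/
theorem exists_homSet_pair {B A A₁ A₂ : Art Λ k} {p₁ : B ⟶ A₁} {p₂ : B ⟶ A₂} {f₁ : A₁ ⟶ A}
    {f₂ : A₂ ⟶ A} (h : IsFibreProd p₁ p₂ f₁ f₂) (φ₁ : HomSet R resR A₁) (φ₂ : HomSet R resR A₂)
    (e : HomSet.map f₁ φ₁ = HomSet.map f₂ φ₂) :
    ∃! ψ : HomSet R resR B, HomSet.map p₁ ψ = φ₁ ∧ HomSet.map p₂ ψ = φ₂ := by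
  have he : ∀ r, f₁ (φ₁.1 r) = f₂ (φ₂.1 r) :=
    fun r => AlgHom.congr_fun (congrArg Subtype.val e) r
  choose σ hσ₁ hσ₂ using fun r => h.surj (φ₁.1 r) (φ₂.1 r) (he r)
  let ψ : R →ₐ[Λ] B :=
    { toFun := σ
      map_one' := h.inj _ _ (by rw [hσ₁, map_one, map_one]) (by rw [hσ₂, map_one, map_one])
      map_zero' := h.inj _ _ (by rw [hσ₁, map_zero, map_zero]) (by rw [hσ₂, map_zero, map_zero])
      map_mul' := fun x y => h.inj _ _ (by rw [hσ₁, map_mul, map_mul, hσ₁, hσ₁])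
        (by rw [hσ₂, map_mul, map_mul, hσ₂, hσ₂])
      map_add' := fun x y => h.inj _ _ (by rw [hσ₁, map_add, map_add, hσ₁, hσ₁])
        (by rw [hσ₂, map_add, map_add, hσ₂, hσ₂])
      commutes' := fun r => h.inj _ _ (by rw [hσ₁, AlgHom.commutes, AlgHom.commutes])
        (by rw [hσ₂, AlgHom.commutes, AlgHom.commutes]) }
  have hψ : B.res.comp ψ = resR := AlgHom.ext fun r => by
    change B.res (σ r) = resR r
    rw [← Art.res_app p₁, hσ₁, homSet_res]
  refine ⟨⟨ψ, hψ⟩, ⟨homSet_ext hσ₁, homSet_ext hσ₂⟩, fun ψ' hψ' => homSet_ext fun r => ?_⟩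
  exact h.inj _ _
    ((AlgHom.congr_fun (congrArg Subtype.val hψ'.1) r).trans (hσ₁ r).symm)
    ((AlgHom.congr_fun (congrArg Subtype.val hψ'.2) r).trans (hσ₂ r).symm)

theorem isLeftExact_hR : IsLeftExact (hR R resR) := by
  intro B A A₁ A₂ p₁ p₂ f₁ f₂ h
  refine ⟨(cmp_injective_iff _ h).2 fun z z' e₁ e₂ => ?_, (cmp_surjective_iff _ h).2 fun x y e => ?_⟩
  · obtain ⟨ψ, -, hu⟩ := exists_homSet_pair h (HomSet.map p₁ z) (HomSet.map p₂ z)
      (homSet_ext fun r => h.w_apply (z.1 r))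
    exact (hu z ⟨rfl, rfl⟩).trans (hu z' ⟨e₁.symm, e₂.symm⟩).symm
  · obtain ⟨ψ, hψ, -⟩ := exists_homSet_pair h x y e
    exact ⟨ψ, hψ⟩

theorem hbar_hR : Hbar (hR R resR) := fun _ _ _ _ _ _ _ _ h _ => (isLeftExact_hR _ _ _ _ h).2

theorem heps_hR : Heps (hR R resR) := fun _ _ _ _ h => isLeftExact_hR _ _ _ _ h

theorem hsq_hR : HSq (hR R resR) := fun _ _ _ _ _ _ h _ => isLeftExact_hR _ _ _ _ h

theorem isVersal_iff_isSmoothMap {F : Art Λ k ⥤ Type v} (ξ : Family R resR F) :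
    IsVersal ξ ↔ IsSmoothMap (NatMap.ofFamily ξ) :=
  ⟨fun h _ _ μ hμ x y e => h μ hμ x y e.symm, fun h _ _ μ hμ φ y e => h μ hμ φ y e.symm⟩

theorem tangent_surjective_of_isVersal {F : Art Λ k ⥤ Type v} (h0 : H0 F) {ξ : Family R resR F}
    (h : IsVersal ξ) : Function.Surjective (ξ.app (dual Λ k)) := fun y => by
  obtain ⟨ψ, -, hψ⟩ := h (toBase (dual Λ k)) (toBase_surjective _) ⟨resR, AlgHom.id_comp _⟩ y
    (h0.2.elim _ _)
  exact ⟨ψ, hψ⟩

end HR

end ArtLib
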