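import Groth.Agent.ArtLib.CRingHom

/-!
# Surjective systems with bounded cotangent spaces
-/

set_option autoImplicit false

universe u v

open CategoryTheory

namespace ArtLib

open ArtFun ArtFun.Art

variable {Λ : Type u} {k : Type u} [CommRing Λ] [Field k] [Algebra Λ k]

theorem length_cotangentSpace (A : Art Λ k) :
    Module.length A (IsLocalRing.CotangentSpace A) =
      Module.finrank (IsLocalRing.ResidueField A) (IsLocalRing.CotangentSpace A) := by
  rw [← Module.length_eq_finrank,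
    Module.length_eq_of_surjective (S := A) (R := IsLocalRing.ResidueField A)
      IsLocalRing.residue_surjective]

theorem length_cotangentSpace_mono {A B : Art Λ k} (g : B ⟶ A) (hg : Function.Surjective g) :
    Module.length A (IsLocalRing.CotangentSpace A) ≤ Module.length B (IsLocalRing.CotangentSpace B) ∧
      (Module.length A (IsLocalRing.CotangentSpace A) = Module.length B (IsLocalRing.CotangentSpace B) →
        RingHom.ker g.toAlgHom ≤ IsLocalRing.maximalIdeal B ^ 2) := by
  let alg : Algebra B A := g.toAlgHom.toRingHom.toAlgebra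
  have hle : IsLocalRing.maximalIdeal B ≤ (IsLocalRing.maximalIdeal A).comap (Algebra.ofId B A) :=
    Ideal.map_le_iff_le_comap.1 (map_res_le g)
  let c : IsLocalRing.CotangentSpace B →ₗ[B] IsLocalRing.CotangentSpace A :=
    Ideal.mapCotangent _ _ (Algebra.ofId B A) hle
  have hc : Function.Surjective c := fun y => by
    obtain ⟨⟨a, ha⟩, rfl⟩ := Ideal.toCotangent_surjective _ y
    obtain ⟨b, rfl⟩ := hg a
    exact ⟨Ideal.toCotangent _ ⟨b, (Art.mem_maximalIdeal_iff _ _).2
      ((Art.res_app g b).symm.trans ((Art.mem_maximalIdeal_iff _ _).1 ha))⟩,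
      Ideal.mapCotangent_toCotangent _ _ _ _ _⟩
  have hAB : Module.length B (IsLocalRing.CotangentSpace A) =
      Module.length A (IsLocalRing.CotangentSpace A) := Module.length_eq_of_surjective (S := B) (R := A) hg
  have hadd := Module.length_eq_add_of_exact (R := B) (LinearMap.ker c).subtype c
    (Submodule.subtype_injective _) hc (LinearMap.exact_subtype_ker_map c)
  rw [hAB] at hadd
  refine ⟨hadd.symm ▸ le_add_self, fun heq x hx => ?_⟩
  have hfin : Module.length A (IsLocalRing.CotangentSpace A) ≠ ⊤ := by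
    rw [length_cotangentSpace]; exact ENat.natCast_ne_top _
  have hker : Module.length B (LinearMap.ker c) = 0 := by
    rw [← heq] at hadd
    generalize Module.length A (IsLocalRing.CotangentSpace A) = a at hadd hfin
    generalize Module.length B (LinearMap.ker c) = b at hadd
    exact ((ENat.add_left_injective_of_ne_top hfin) (show 0 + a = b + a by rw [zero_add]; exact hadd)).symm
  have hsub : Subsingleton (LinearMap.ker c) := Module.length_eq_zero_iff.1 hker
  have hxm : x ∈ IsLocalRing.maximalIdeal B := ker_le_maximalIdeal g hx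
  rw [← Ideal.toCotangent_eq_zero (IsLocalRing.maximalIdeal B) ⟨x, hxm⟩]
  have hz : c (Ideal.toCotangent _ ⟨x, hxm⟩) = 0 :=
    (Ideal.mapCotangent_toCotangent _ _ _ _ _).trans ((Ideal.toCotangent_eq_zero _ _).2 (by
      change g x ∈ _
      rw [show g x = 0 from hx]
      exact zero_mem _))
  exact congrArg Subtype.val (hsub.elim ⟨_, hz⟩ 0)

theorem exists_compatible {σ : Type u} : ∀ (n₀ : ℕ) (A : ℕ → Art Λ k) (f : ∀ n, A (n + 1) ⟶ A n),
    (∀ n, Function.Surjective (f n)) → ∀ w : σ → A n₀,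
      ∃ v : ∀ n, σ → A n, v n₀ = w ∧ ∀ n i, f n (v (n + 1) i) = v n i := by
  intro n₀
  induction n₀ with
  | zero =>
    intro A f hf w
    choose s hs using hf
    exact ⟨fun n => Nat.rec (motive := fun n => σ → A n) w (fun n v i => s n (v i)) n, rfl,
      fun n i => hs n _⟩
  | succ n₀ ih =>
    intro A f hf w
    obtain ⟨v, hv, hv'⟩ := ih (fun n => A (n + 1)) (fun n => f (n + 1)) (fun n => hf (n + 1)) w
    refine ⟨fun n => match n with
      | 0 => fun i => f 0 (v 0 i)
      | n + 1 => v n, hv, fun n i => ?_⟩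
    cases n with
    | zero => rfl
    | succ n => exact hv' n i

theorem exists_tower_presentation [IsNoetherianRing Λ] [Module.Finite Λ k]
    (A : ℕ → Art Λ k) (f : ∀ n, A (n + 1) ⟶ A n) (hf : ∀ n, Function.Surjective (f n)) (d : ℕ)
    (hd : ∀ n, Module.finrank (IsLocalRing.ResidueField (A n)) (IsLocalRing.CotangentSpace (A n)) ≤ d) :
    ∃ (σ : Type u) (_ : Finite σ) (resP : MvPolynomial σ Λ →ₐ[Λ] k)
      (φ : ∀ n, HomSet (MvPolynomial σ Λ) resP (A n)),
      (∀ n, HomSet.map (f n) (φ (n + 1)) = φ n) ∧ ∀ n, Function.Surjective (φ n).1 := by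
  let c : ℕ → ℕ := fun n =>
    Module.finrank (IsLocalRing.ResidueField (A n)) (IsLocalRing.CotangentSpace (A n))
  obtain ⟨n₀, hn₀⟩ : ∃ n₀, ∀ n, c n ≤ c n₀ := by
    obtain ⟨n, hn⟩ := Nat.sSup_mem (s := Set.range c) ⟨c 0, 0, rfl⟩ ⟨d, by rintro _ ⟨n, rfl⟩; exact hd n⟩
    exact ⟨n, fun m => hn ▸ le_csSup ⟨d, by rintro _ ⟨n, rfl⟩; exact hd n⟩ ⟨m, rfl⟩⟩
  have hmono : Monotone c := monotone_nat_of_le_succ fun n => by
    have := (length_cotangentSpace_mono (f n) (hf n)).1
    rw [length_cotangentSpace, length_cotangentSpace] at this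
    exact_mod_cast this
  have hker : ∀ n, n₀ ≤ n → RingHom.ker (f n).toAlgHom ≤ IsLocalRing.maximalIdeal (A (n + 1)) ^ 2 :=
    fun n hn => (length_cotangentSpace_mono (f n) (hf n)).2 (by
      rw [length_cotangentSpace, length_cotangentSpace]
      exact congrArg Nat.cast (le_antisymm (hmono (Nat.le_succ n)) ((hn₀ (n + 1)).trans (hmono hn))))
  have := finite_carrier (A n₀)
  obtain ⟨N, g, hg⟩ := Module.Finite.exists_fin (R := Λ) (M := A n₀)
  obtain ⟨v, hv, hv'⟩ := exists_compatible (σ := ULift.{u} (Fin N)) n₀ A f hf fun i => g i.down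
  have hval : ∀ n, (f n).toAlgHom.comp (MvPolynomial.aeval (v (n + 1))) = MvPolynomial.aeval (v n) :=
    fun n => MvPolynomial.algHom_ext fun i => by
      rw [AlgHom.comp_apply, MvPolynomial.aeval_X, MvPolynomial.aeval_X, hv']
  have hres : ∀ n, (A n).res.comp (MvPolynomial.aeval (v n)) =
      (A 0).res.comp (MvPolynomial.aeval (v 0)) := by
    intro n
    induction n with
    | zero => rfl
    | succ n ih => rw [← ih, ← hval n, ← AlgHom.comp_assoc, (f n).res_comp]
  let φ : ∀ n, HomSet _ ((A 0).res.comp (MvPolynomial.aeval (v 0))) (A n) :=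
    fun n => ⟨MvPolynomial.aeval (v n), hres n⟩
  have hφc : ∀ n, HomSet.map (f n) (φ (n + 1)) = φ n := fun n => Subtype.ext (hval n)
  refine ⟨_, inferInstance, _, φ, hφc, ?_⟩
  have h0 : Function.Surjective (φ n₀).1 := fun a => by
    have : a ∈ Submodule.span Λ (Set.range g) := hg ▸ Submodule.mem_top
    induction this using Submodule.span_induction with
    | mem y hy =>
      obtain ⟨i, rfl⟩ := hy
      exact ⟨MvPolynomial.X ⟨i⟩, (MvPolynomial.aeval_X _ _).trans (congrFun hv ⟨i⟩)⟩
    | zero => exact ⟨0, map_zero _⟩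
    | add y z _ _ ihy ihz =>
      obtain ⟨a, rfl⟩ := ihy
      obtain ⟨b, rfl⟩ := ihz
      exact ⟨a + b, map_add _ _ _⟩
    | smul r y _ ihy =>
      obtain ⟨a, rfl⟩ := ihy
      exact ⟨r • a, map_smul _ _ _⟩
  have hup : ∀ n, n₀ ≤ n → Function.Surjective (φ n).1 := by
    intro n hn
    induction n, hn using Nat.le_induction with
    | base => exact h0
    | succ n hn ih =>
      have hresP : Function.Surjective ((A 0).res.comp (MvPolynomial.aeval (v 0))) := fun x => by
        obtain ⟨a, ha⟩ := (A n).res_surjective x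
        obtain ⟨p, rfl⟩ := ih a
        exact ⟨p, (AlgHom.congr_fun (hres n) p).symm.trans ha⟩
      have hJ : IsSub ((A 0).res.comp (MvPolynomial.aeval (v 0))) (RingHom.ker (φ (n + 1)).1) := by
        obtain ⟨m, hm⟩ := homSet_pow (φ (n + 1))
        exact ⟨fun p hp => (AlgHom.congr_fun (hres (n + 1)) p).symm.trans
          ((congrArg (A (n + 1)).res hp).trans (map_zero _)), m, fun p hp => hm p hp⟩
      obtain ⟨i, hi⟩ : ∃ i : pq hresP hJ ⟶ A (n + 1),
          ∀ p, i ((pqMk hresP hJ).1 p) = (φ (n + 1)).1 p :=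
        ⟨pqLift hresP hJ (φ (n + 1)) fun _ hp => hp, fun _ => rfl⟩
      have his : Function.Surjective i := by
        refine surjective_of_cotangent i fun y hy => ?_
        obtain ⟨p, hp⟩ := ih (f n y)
        have hm : (pqMk hresP hJ).1 p ∈ IsLocalRing.maximalIdeal (pq hresP hJ) := by
          rw [Art.mem_maximalIdeal_iff, homSet_res, ← homSet_res (φ n) p, hp, Art.res_app]
          exact (Art.mem_maximalIdeal_iff _ _).1 hy
        refine Submodule.mem_sup.2 ⟨i ((pqMk hresP hJ).1 p), Ideal.mem_map_of_mem _ hm,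
          y - i ((pqMk hresP hJ).1 p), hker n hn ?_, add_sub_cancel _ _⟩
        change f n (y - i ((pqMk hresP hJ).1 p)) = 0
        rw [map_sub, hi, show f n ((φ (n + 1)).1 p) = (φ n).1 p from AlgHom.congr_fun (hval n) p, hp,
          sub_self]
      intro a
      obtain ⟨b, rfl⟩ := his a
      obtain ⟨p, rfl⟩ := pqMk_surjective hresP hJ b
      exact ⟨p, (hi p).symm⟩
  intro n
  have hdown : ∀ j, Function.Surjective (φ (n + j)).1 → Function.Surjective (φ n).1 := by
    intro j
    induction j with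
    | zero => exact id
    | succ j ih =>
      intro hj
      refine ih fun a => ?_
      obtain ⟨b, rfl⟩ := hf (n + j) a
      obtain ⟨p, rfl⟩ := hj b
      exact ⟨p, (AlgHom.congr_fun (hval (n + j)) p).symm⟩
  exact hdown n₀ (hup _ (Nat.le_add_left _ _))

theorem exists_tower_limit [IsNoetherianRing Λ] [Module.Finite Λ k] {σ : Type u} [Finite σ]
    {resP : MvPolynomial σ Λ →ₐ[Λ] k} (A : ℕ → Art Λ k) (f : ∀ n, A (n + 1) ⟶ A n)
    (φ : ∀ n, HomSet (MvPolynomial σ Λ) resP (A n))
    (hc : ∀ n, HomSet.map (f n) (φ (n + 1)) = φ n) (hs : ∀ n, Function.Surjective (φ n).1) :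
    ∃ (S : CRing Λ k) (π : ∀ n, HomSet S.carrier S.res (A n)),
      (∀ n, HomSet.map (f n) (π (n + 1)) = π n) ∧
      (∀ n, Function.Surjective (π n).1) ∧
      (∀ a : ∀ n, A n, (∀ n, f n (a (n + 1)) = a n) → ∃! s : S.carrier, ∀ n, (π n).1 s = a n) ∧
      (∀ n, ∃ N, RingHom.ker (π N).1 ≤ IsLocalRing.maximalIdeal S.carrier ^ n) ∧
      (∀ n, ∃ N, IsLocalRing.maximalIdeal S.carrier ^ N ≤ RingHom.ker (π n).1) := by
  have hres : Function.Surjective resP := fun x => by
    obtain ⟨a, ha⟩ := (A 0).res_surjective x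
    obtain ⟨p, rfl⟩ := hs 0 a
    exact ⟨p, (homSet_res (φ 0) p).symm.trans ha⟩
  have hJ : ∀ n, IsSub resP (RingHom.ker (φ n).1) := fun n => by
    obtain ⟨m, hm⟩ := homSet_pow (φ n)
    exact ⟨fun p hp => (homSet_res (φ n) p).symm.trans ((congrArg (A n).res hp).trans (map_zero _)),
      m, fun p hp => hm p hp⟩
  have hcv : ∀ n p, f n ((φ (n + 1)).1 p) = (φ n).1 p :=
    fun n p => AlgHom.congr_fun (congrArg Subtype.val (hc n)) p
  have hanti : ∀ n, RingHom.ker (φ (n + 1)).1 ≤ RingHom.ker (φ n).1 := fun n p hp => by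
    change (φ n).1 p = 0
    rw [← hcv, show (φ (n + 1)).1 p = 0 from hp, map_zero]
  obtain ⟨S, π, hπc, hπs, hlim, hker, hpow⟩ :=
    exists_limit_ring hres (fun n => RingHom.ker (φ n).1) hJ hanti
  obtain ⟨i, hi⟩ : ∃ i : ∀ n, pq hres (hJ n) ⟶ A n, ∀ n p, i n ((pqMk hres (hJ n)).1 p) = (φ n).1 p :=
    ⟨fun n => pqLift hres (hJ n) (φ n) fun _ hp => hp, fun _ _ => rfl⟩
  have hib : ∀ n, Function.Injective (i n) := fun n =>
    (injective_iff_map_eq_zero (i n).toAlgHom).2 fun b hb => by
      obtain ⟨p, rfl⟩ := pqMk_surjective hres (hJ n) b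
      exact (pqMk_eq_zero hres (hJ n)).2 ((hi n p).symm.trans hb)
  refine ⟨S, fun n => HomSet.map (i n) (π n), fun n => ?_, fun n a => ?_, fun a ha => ?_, fun n => ?_,
    fun n => ?_⟩
  · refine homSet_ext fun r => ?_
    obtain ⟨p, hp⟩ := pqMk_surjective hres (hJ (n + 1)) ((π (n + 1)).1 r)
    have h1 := AlgHom.congr_fun (congrArg Subtype.val (hπc n)) r
    change f n (i (n + 1) ((π (n + 1)).1 r)) = i n ((π n).1 r)
    rw [← h1, ← hp, hi, hcv]
    change _ = i n (pqMap hres (hJ n) (hJ (n + 1)) (hanti n) ((π (n + 1)).1 r))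
    rw [← hp]
    exact (hi n p).symm
  · obtain ⟨p, rfl⟩ := hs n a
    obtain ⟨r, hr⟩ := hπs n ((pqMk hres (hJ n)).1 p)
    exact ⟨r, (congrArg (i n) hr).trans (hi n p)⟩
  · choose p hp using fun n => hs n (a n)
    obtain ⟨s, hs', hu⟩ := hlim p fun n => by
      change (φ n).1 (p (n + 1) - p n) = 0
      rw [map_sub, ← hcv, hp, hp, ha, sub_self]
    refine ⟨s, fun n => ?_, fun s' h' => hu s' fun n => hib n ?_⟩
    · change i n ((π n).1 s) = a n
      rw [hs', hi, hp]
    · rw [hi, hp]
      exact h' n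
  · obtain ⟨N, hN⟩ := hker n
    exact ⟨N, fun r hr => hN (hib N (hr.trans (map_zero (i N).toAlgHom).symm))⟩
  · obtain ⟨N, hN⟩ := hpow n
    refine ⟨N, fun r hr => ?_⟩
    change i n ((π n).1 r) = 0
    rw [show (π n).1 r = 0 from hN hr, map_zero]

end ArtLib
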